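import Cfsg.Agent.OreOmega53.Setup

/-!
Cyclic subspaces: a reversing map permutes a window of the orbit, which bounds its eigenspaces.
-/

set_option autoImplicit false
set_option linter.unusedSectionVars false

namespace Cfsg.Agent.OreOmega53

open LinearMap (BilinForm)

variable {F V : Type*} [Field F] [AddCommGroup V] [Module F V] [FiniteDimensional F V]
variable {B : BilinForm F V} {g : (Module.End F V)ˣ}

/-- The `g`-cyclic subspace of a vector. -/
def cyc (g : (Module.End F V)ˣ) (x : V) : Submodule F V :=
  Submodule.span F (Set.range fun i : ℤ => gp g i x)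

theorem gp_mem_cyc (x : V) (i : ℤ) : gp g i x ∈ cyc g x := Submodule.subset_span ⟨i, rfl⟩

theorem self_mem_cyc (x : V) : x ∈ cyc g x := by simpa using gp_mem_cyc (g := g) x 0

theorem cyc_ginv (x : V) : GInv g (cyc g x) := by
  intro y hy
  refine Submodule.span_induction (p := fun y _ => (g : Module.End F V) y ∈ cyc g x) ?_ ?_ ?_ ?_ hy
  · rintro _ ⟨i, rfl⟩; rw [g_gp]; exact gp_mem_cyc x _
  · rw [map_zero]; exact zero_mem _
  · intro a b _ _ ha hb; rw [map_add]; exact add_mem ha hb
  · intro c a _ ha; rw [map_smul]; exact Submodule.smul_mem _ _ ha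

theorem cyc_le {U : Submodule F V} (hU : GInv g U) {x : V} (hx : x ∈ U) : cyc g x ≤ U :=
  Submodule.span_le.2 (by rintro _ ⟨i, rfl⟩; exact hU.gp_mem i hx)

/-- Any window of length at most the dimension is independent. -/
theorem window_indep (x : V) (k : ℕ) (hk : k ≤ Module.finrank F ↥(cyc g x)) (a : ℤ) :
    LinearIndependent F fun j : Fin k => gp g (a + (j : ℕ)) x := by
  have key : ∀ k : ℕ, k ≤ Module.finrank F ↥(cyc g x) →
      LinearIndependent F fun j : Fin k => gp g ((j : ℕ) : ℤ) x := by
    intro k
    induction k with
    | zero => intro _; exact linearIndependent_empty_type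
    | succ k ih =>
      intro hk
      rw [linearIndependent_fin_succ']
      refine ⟨ih (by omega), fun hmem => ?_⟩
      set S := Submodule.span F (Set.range fun j : Fin k => gp g ((j : ℕ) : ℤ) x)
      have hlast : gp g (k : ℤ) x ∈ S := by
        simpa [Fin.init_def, S] using hmem
      have hgS : GInv g S := by
        intro y hy
        refine Submodule.span_induction (p := fun y _ => (g : Module.End F V) y ∈ S) ?_ ?_ ?_ ?_ hy
        · rintro _ ⟨j, rfl⟩
          rw [g_gp]
          by_cases hj : (j : ℕ) + 1 < k
          · exact Submodule.subset_span ⟨⟨(j : ℕ) + 1, hj⟩, by norm_num⟩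
          · have : (j : ℕ) + 1 = k := by have := j.2; omega
            have e : ((j : ℕ) : ℤ) + 1 = (k : ℤ) := by exact_mod_cast this
            rw [e]; exact hlast
        · rw [map_zero]; exact zero_mem _
        · intro a b _ _ ha hb; rw [map_add]; exact add_mem ha hb
        · intro c a _ ha; rw [map_smul]; exact Submodule.smul_mem _ _ ha
      have hxS : x ∈ S := by
        have := hgS.gp_mem (-(k : ℤ)) hlast
        simpa [gp_apply_add] using this
      have hle : cyc g x ≤ S := cyc_le hgS hxS
      have hc : Module.finrank F ↥S ≤ k := by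
        refine (finrank_range_le_card _).trans ?_
        simp
      have := Submodule.finrank_mono hle
      omega
  have h := (key k hk).map' (gp g a) (LinearMap.ker_eq_bot.2 (gp_injective a))
  have e : (fun j : Fin k => gp g (a + (j : ℕ)) x) =
      (gp g a) ∘ (fun j : Fin k => gp g ((j : ℕ) : ℤ) x) := by
    funext j; simp [gp_apply_add]
  rw [e]; exact h

theorem pair_indep {k : ℕ} {u v : Fin k → V} (h : LinearIndependent F (Sum.elim u v))
    (c : F) : LinearIndependent F fun i => u i + c • v i := by
  rw [Fintype.linearIndependent_iff] at h ⊢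
  intro d hd i
  have := h (Sum.elim d fun i => d i * c) (by
    rw [Fintype.sum_sum_type]
    simp only [Sum.elim_inl, Sum.elim_inr]
    rw [← Finset.sum_add_distrib, ← hd]
    refine Finset.sum_congr rfl fun i _ => ?_
    rw [smul_add, smul_smul]) (Sum.inl i)
  simpa using this

theorem card_le_eig {U : Submodule F V} {s : Module.End F V} {σ : F} {ι : Type*} [Fintype ι]
    {w : ι → V} (hw : LinearIndependent F w) (h : ∀ i, w i ∈ U ∧ s (w i) = σ • w i) :
    Fintype.card ι ≤ Module.finrank F ↥(eig U s σ) := by
  let w' : ι → ↥(eig U s σ) := fun i => ⟨w i, mem_eig.2 (h i)⟩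
  have : LinearIndependent F w' := LinearIndependent.of_comp (eig U s σ).subtype hw
  exact this.fintype_card_le_finrank

/-- The eigenspace bounds on a cyclic piece. -/
theorem cyc_bounds (x : V) {s : Module.End F V} {c : F} (hc : c * c = 1)
    (hs : ∀ i : ℤ, s (gp g i x) = c • gp g (-i) x) (hD : 0 < Module.finrank F ↥(cyc g x)) :
    (Module.finrank F ↥(cyc g x) - 1) / 2 + 1 ≤ Module.finrank F ↥(eig (cyc g x) s c) ∧
    (Module.finrank F ↥(cyc g x) - 1) / 2 ≤ Module.finrank F ↥(eig (cyc g x) s (-c)) ∧
    ∀ σ : F, σ * σ = 1 → Module.finrank F ↥(cyc g x) / 2 ≤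
      Module.finrank F ↥(eig (cyc g x) (s * (g : Module.End F V)) σ) := by
  set D := Module.finrank F ↥(cyc g x) with hDdef
  refine ⟨?_, ?_, ?_⟩
  · set k := (D - 1) / 2
    have hwin := window_indep (g := g) x (2 * k + 1) (by omega) (-(k : ℤ))
    let emb : (Fin k ⊕ Fin k) ⊕ Unit → Fin (2 * k + 1) := Sum.elim
      (Sum.elim (fun j => ⟨k + 1 + j, by omega⟩) (fun j => ⟨k - 1 - j, by omega⟩))
      (fun _ => ⟨k, by omega⟩)
    have hemb : Function.Injective emb := by
      rintro ((a | a) | a) ((b | b) | b) h <;> simp only [emb, Sum.elim_inl, Sum.elim_inr, Fin.mk.injEq] at h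
      all_goals first
        | (have := a.2; have := b.2; simp only [Sum.inl.injEq, Sum.inr.injEq]; ext; omega)
        | (exfalso; first | (have := a.2; have := b.2; omega) | (have := a.2; omega) | (have := b.2; omega))
        | rfl
    have h1 := hwin.comp emb hemb
    let w : Fin k ⊕ Unit → V := Sum.elim
      (fun j => gp g ((j : ℕ) + 1) x + gp g (-((j : ℕ) + 1 : ℤ)) x) (fun _ => x)
    have hw : LinearIndependent F w := by
      rw [Fintype.linearIndependent_iff] at h1 ⊢
      intro d hd
      have hh := h1 (Sum.elim (Sum.elim (fun j => d (Sum.inl j)) (fun j => d (Sum.inl j)))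
        (fun u => d (Sum.inr u))) (by
          rw [← hd, Fintype.sum_sum_type, Fintype.sum_sum_type, Fintype.sum_sum_type]
          simp only [Function.comp_apply, emb, w, Sum.elim_inl, Sum.elim_inr, smul_add,
            Finset.sum_add_distrib]
          congr 1
          · congr 1
            · refine Finset.sum_congr rfl fun j _ => ?_
              congr 2
              push_cast; ring
            · refine Finset.sum_congr rfl fun j _ => ?_
              congr 2
              have := j.2
              push_cast [Nat.cast_sub (show (j : ℕ) ≤ k - 1 by omega),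
                Nat.cast_sub (show 1 ≤ k by omega)]
              ring
          · refine Finset.sum_congr rfl fun j _ => ?_
            congr 1
            simp)
      rintro (j | u)
      · simpa using hh (Sum.inl (Sum.inl j))
      · simpa using hh (Sum.inr u)
    have hle := card_le_eig (U := cyc g x) (s := s) (σ := c) hw (by
      rintro (j | u)
      · refine ⟨add_mem (gp_mem_cyc x _) (gp_mem_cyc x _), ?_⟩
        simp only [w, Sum.elim_inl, map_add, hs, neg_neg, smul_add]
        abel
      · refine ⟨self_mem_cyc x, ?_⟩
        have := hs 0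
        simpa [w] using this)
    simpa using hle
  · set k := (D - 1) / 2
    have hwin := window_indep (g := g) x (2 * k + 1) (by omega) (-(k : ℤ))
    let emb : Fin k ⊕ Fin k → Fin (2 * k + 1) :=
      Sum.elim (fun j => ⟨k + 1 + j, by omega⟩) (fun j => ⟨k - 1 - j, by omega⟩)
    have hemb : Function.Injective emb := by
      rintro (a | a) (b | b) h <;> simp only [emb, Sum.elim_inl, Sum.elim_inr, Fin.mk.injEq] at h
      all_goals first
        | (have := a.2; have := b.2; simp only [Sum.inl.injEq, Sum.inr.injEq]; ext; omega)
        | (exfalso; have := a.2; have := b.2; omega)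
    have h1 := hwin.comp emb hemb
    have h2 : LinearIndependent F (Sum.elim (fun j : Fin k => gp g ((j : ℕ) + 1) x)
        (fun j : Fin k => gp g (-((j : ℕ) + 1 : ℤ)) x)) := by
      convert h1 using 1
      funext z
      rcases z with j | j <;> simp only [Function.comp_apply, emb, Sum.elim_inl, Sum.elim_inr] <;>
        congr 2
      · push_cast; ring
      · have := j.2
        push_cast [Nat.cast_sub (show (j : ℕ) ≤ k - 1 by omega),
          Nat.cast_sub (show 1 ≤ k by omega)]
        ring
    have hle := card_le_eig (U := cyc g x) (s := s) (σ := -c) (pair_indep h2 (-1)) (fun j => by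
      refine ⟨add_mem (gp_mem_cyc x _) (Submodule.smul_mem _ _ (gp_mem_cyc x _)), ?_⟩
      rw [map_add, map_smul, hs, hs, neg_neg]
      module)
    simpa using hle
  · intro σ hσ
    set k := D / 2
    have hwin := window_indep (g := g) x (2 * k) (by omega) (-(k : ℤ))
    let emb : Fin k ⊕ Fin k → Fin (2 * k) :=
      Sum.elim (fun j => ⟨k + j, by omega⟩) (fun j => ⟨k - 1 - j, by omega⟩)
    have hemb : Function.Injective emb := by
      rintro (a | a) (b | b) h <;> simp only [emb, Sum.elim_inl, Sum.elim_inr, Fin.mk.injEq] at h
      all_goals first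
        | (have := a.2; have := b.2; simp only [Sum.inl.injEq, Sum.inr.injEq]; ext; omega)
        | (exfalso; have := a.2; have := b.2; omega)
    have h1 := hwin.comp emb hemb
    have h2 : LinearIndependent F (Sum.elim (fun j : Fin k => gp g ((j : ℕ) : ℤ) x)
        (fun j : Fin k => gp g (-((j : ℕ) : ℤ) - 1) x)) := by
      convert h1 using 1
      funext z
      rcases z with j | j <;> simp only [Function.comp_apply, emb, Sum.elim_inl, Sum.elim_inr] <;>
        congr 2
      · push_cast; ring
      · have := j.2
        push_cast [Nat.cast_sub (show (j : ℕ) ≤ k - 1 by omega),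
          Nat.cast_sub (show 1 ≤ k by omega)]
        ring
    have hle := card_le_eig (U := cyc g x) (s := s * (g : Module.End F V)) (σ := σ)
      (pair_indep h2 (σ * c)) (fun j => by
      refine ⟨add_mem (gp_mem_cyc x _) (Submodule.smul_mem _ _ (gp_mem_cyc x _)), ?_⟩
      have e1 : σ * c * c = σ := by rw [mul_assoc, hc, mul_one]
      have e2 : σ * (σ * c) = c := by rw [← mul_assoc, hσ, one_mul]
      simp only [Module.End.mul_apply, map_add, map_smul, g_gp, hs, smul_add, smul_smul, e1, e2]
      rw [show -(((j : ℕ) : ℤ) + 1) = -((j : ℕ) : ℤ) - 1 by ring,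
        show -(-((j : ℕ) : ℤ) - 1 + 1) = ((j : ℕ) : ℤ) by ring]
      abel)
    simpa using hle

end Cfsg.Agent.OreOmega53
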