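import Cfsg.Agent.OreOmega53.Ops
import Cfsg.Agent.OreOmega53.Window

/-!
Every isometry is reversed by an involution balanced against its product with it.
-/

set_option autoImplicit false
set_option linter.unusedSectionVars false

namespace Cfsg.Agent.OreOmega53

open LinearMap (BilinForm)
open Polynomial

variable {F V : Type*} [Field F] [AddCommGroup V] [Module F V] [FiniteDimensional F V]
variable {B : BilinForm F V} {g : (Module.End F V)ˣ}

/-- An involution given on a spanning family. -/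
theorem exists_pinv_of_family {ι : Type*} {w w' : ι → V} {U : Submodule F V}
    (hU : U = Submodule.span F (Set.range w)) (hUnd : ND B U) (hUg : GInv g U)
    (hw' : ∀ i, w' i ∈ U) (hspan' : U ≤ Submodule.span F (Set.range w'))
    (hiso : ∀ i j, B (w' i) (w' j) = B (w i) (w j))
    (hsq : ∀ s : Module.End F V, (∀ i, s (w i) = w' i) → ∀ i, s (w' i) = w i)
    (hrev : ∀ s : Module.End F V, (∀ i, s (w i) = w' i) →
      ∀ i, s ((g : Module.End F V) (s ((g : Module.End F V) (w i)))) = w i) :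
    ∃ s, PInv B g U s ∧ ∀ i, s (w i) = w' i := by
  let L := Finsupp.linearCombination F w
  let L' := Finsupp.linearCombination F w'
  have hL'mem : ∀ a, L' a ∈ U := fun a => by
    simp only [L', Finsupp.linearCombination_apply]
    exact U.sum_mem fun i _ => U.smul_mem _ (hw' i)
  have hLmem : ∀ a, L a ∈ U := fun a => by
    rw [hU, ← Finsupp.range_linearCombination]; exact ⟨a, rfl⟩
  have hbil : ∀ a b, B (L' a) (L' b) = B (L a) (L b) := by
    intro a b
    simp only [L, L', Finsupp.linearCombination_apply, Finsupp.sum, map_sum, LinearMap.sum_apply,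
      map_smul, LinearMap.smul_apply, hiso]
  have hker : LinearMap.ker L ≤ LinearMap.ker L' := by
    intro a ha
    rw [LinearMap.mem_ker] at ha ⊢
    refine hUnd _ (hL'mem a) fun y hy => ?_
    have hy' := hspan' hy
    rw [← Finsupp.range_linearCombination] at hy'
    obtain ⟨c, rfl⟩ := hy'
    rw [show Finsupp.linearCombination F w' c = L' c from rfl]
    rw [hbil, ha, map_zero, LinearMap.zero_apply]
  obtain ⟨R, hR⟩ := L.rangeRestrict.exists_rightInverse_of_surjective (LinearMap.range_rangeRestrict L)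
  obtain ⟨s, hs⟩ := LinearMap.exists_extend (L'.comp R)
  have hsL : ∀ a, s (L a) = L' a := by
    intro a
    have h1 := LinearMap.congr_fun hs ⟨L a, a, rfl⟩
    rw [LinearMap.comp_apply, Submodule.subtype_apply] at h1
    rw [show s (L a) = L' (R ⟨L a, a, rfl⟩) from h1, ← sub_eq_zero, ← map_sub]
    apply hker
    rw [LinearMap.mem_ker, map_sub, sub_eq_zero]
    have h2 := LinearMap.congr_fun hR ⟨L a, a, rfl⟩
    exact congrArg Subtype.val h2
  have hsw : ∀ i, s (w i) = w' i := fun i => by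
    simpa [L, L'] using hsL (Finsupp.single i 1)
  have hmaps : ∀ x ∈ U, s x ∈ U := by
    intro x hx
    rw [hU, ← Finsupp.range_linearCombination] at hx
    obtain ⟨a, rfl⟩ := hx
    rw [hsL]; exact hL'mem a
  have hon : ∀ f : Module.End F V, (∀ i, f (w i) = w i) → ∀ x ∈ U, f x = x := by
    intro f hf x hx
    rw [hU] at hx
    refine LinearMap.eqOn_span (f := f) (g := (1 : Module.End F V)) ?_ hx
    rintro _ ⟨i, rfl⟩; exact hf i
  refine ⟨s, ⟨hmaps, fun x hx => hon (s * s) (fun i => ?_) x hx, ?_, fun x hx =>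
    hon (s * (g : Module.End F V) * s * (g : Module.End F V)) (fun i => hrev s hsw i) x hx⟩, hsw⟩
  · rw [Module.End.mul_apply, hsw]; exact hsq s hsw i
  · intro x hx y hy
    rw [hU, ← Finsupp.range_linearCombination] at hx hy
    obtain ⟨a, rfl⟩ := hx
    obtain ⟨b, rfl⟩ := hy
    rw [hsL, hsL, hbil]

theorem rev_gp {s : Module.End F V} {x : V} {c : F} (hc : c * c = 1)
    (hs : ∀ i : ℤ, s (gp g i x) = c • gp g (-i) x) (i : ℤ) :
    s ((g : Module.End F V) (s ((g : Module.End F V) (gp g i x)))) = gp g i x := by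
  rw [g_gp, hs, map_smul, g_gp, map_smul, hs, smul_smul, hc, one_smul]
  congr 2; ring

/-- A cyclic nondegenerate subspace has a balanced involution. -/
theorem bal_cyc (hB : Geom B) (hg : g ∈ isoUnits B) {x : V} (hx : x ≠ 0) (hnd : ND B (cyc g x)) :
    ∃ s, PInv B g (cyc g x) s ∧ Bal g (cyc g x) s := by
  have hiso : ∀ i j : ℤ, B (gp g (-i) x) (gp g (-j) x) = B (gp g i x) (gp g j x) := by
    intro i j
    rw [gp_adj hg (-i), gp_adj hg i, gp_apply_add, gp_apply_add, hB.symm x (gp g (-i + j) x),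
      gp_adj hg (-i + j)]
    congr 2; congr 1; ring
  obtain ⟨s, hs, hsw⟩ := exists_pinv_of_family (g := g) (U := cyc g x) (w := fun i : ℤ => gp g i x)
    (w' := fun i : ℤ => gp g (-i) x) rfl hnd (cyc_ginv x) (fun i => gp_mem_cyc x _)
    (Submodule.span_le.2 (by rintro _ ⟨i, rfl⟩; exact Submodule.subset_span ⟨-i, by simp⟩)) hiso
    (fun s hs i => by rw [hs (-i), neg_neg])
    (fun s hs i => rev_gp (c := 1) (one_mul 1) (fun j => by rw [one_smul]; exact hs j) i)
  have hD : 0 < Module.finrank F ↥(cyc g x) := by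
    rw [Nat.pos_iff_ne_zero, ne_eq, Submodule.finrank_eq_zero]
    exact fun h => hx ((Submodule.eq_bot_iff _).1 h x (self_mem_cyc x))
  obtain ⟨b1, b2, b3⟩ := cyc_bounds x (s := s) (c := 1) (one_mul 1)
    (fun i => by rw [one_smul]; exact hsw i) hD
  have b4 := b3 1 (one_mul 1)
  have b5 := b3 (-1) (by ring)
  have n1 := finrank_eig_add hB hs.maps hs.sq
  have n2 := finrank_eig_add hB (hs.tmaps (cyc_ginv x)) hs.tsq
  exact ⟨s, hs, by unfold ng; omega, by unfold ng; omega⟩

/-- Pieces outside the unipotent part. -/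
theorem piece_regular (hB : Geom B) (hg : g ∈ isoUnits B) {U : Submodule F V} (hUg : GInv g U)
    (hU : ND B U) {r : F[X]} (hr : Irreducible r) (hrq : ¬ r ∣ X ^ 2 - C 4) {x0 : V}
    (hx0 : x0 ∈ U) (hx0ne : x0 ≠ 0) (hrx0 : pv (tE g) r x0 = 0) :
    ∃ x ∈ U, x ≠ 0 ∧ ND B (cyc g x) := by
  set n := Module.finrank F V with hn
  have hT : ∀ y ∈ U, aeval (tE g) r y ∈ U := fun y hy => hUg.pv_mem r hy
  set W := U ⊓ LinearMap.ker ((aeval (tE g) r) ^ n) with hW
  have hWnd : ND B W := nd_fitting (R' := aeval (tE g) r) hU hT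
    (fun a b => (pvT_adj hg r a b).symm) le_rfl (fun _ _ h => h)
  have hWmem : ∀ y, y ∈ W ↔ y ∈ U ∧ pv (tE g) (r ^ n) y = 0 := by
    intro y; simp [W, pv]
  have hWx : x0 ∈ W := by
    refine (hWmem x0).2 ⟨hx0, ?_⟩
    have : 1 ≤ n := by
      rw [hn]; exact Nat.one_le_iff_ne_zero.2 fun h0 => hx0ne (by
        haveI := Module.finrank_zero_iff.1 h0; exact Subsingleton.elim _ _)
    rw [show r ^ n = r ^ (n - 1) * r by rw [← pow_succ]; congr 1; omega, pv_mul, hrx0, pv_zero]
  have hWg : GInv g W := by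
    intro y hy
    rw [hWmem] at hy ⊢
    refine ⟨hUg y hy.1, ?_⟩
    rw [← gp_one, ← pv_gp, hy.2, map_zero]
  obtain ⟨e, he1, he, y, hy, hye⟩ := exists_exponent (tE g) r (W := W) (n := n)
    (fun h => hx0ne ((Submodule.eq_bot_iff W).1 h x0 hWx)) (fun z hz => ((hWmem z).1 hz).2)
  obtain ⟨x, hxW, hxh⟩ : ∃ x ∈ W, B (pv (tE g) (r ^ (e - 1)) x) x ≠ 0 := by
    by_contra hh
    push Not at hh
    refine hye (hWnd _ (hWg.pv_mem _ hy) fun z hz => ?_)
    have h1 := hh (y + z) (add_mem hy hz)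
    simp only [pv_vadd, map_add, LinearMap.add_apply, hh y hy, hh z hz, zero_add, add_zero] at h1
    rw [pvT_adj hg _ z y, hB.symm z] at h1
    have : (2 : F) * B (pv (tE g) (r ^ (e - 1)) y) z = 0 := by linear_combination h1
    exact (mul_eq_zero.1 this).resolve_left hB.two
  refine ⟨x, ((hWmem x).1 hxW).1, fun h0 => hxh (by rw [h0, map_zero]), ?_⟩
  have hodd : ∀ p : F[X], B (mE g (pv (tE g) p x)) x = 0 := by
    intro p
    have h1 : B (mE g (pv (tE g) p x)) x = - B (mE g (pv (tE g) p x)) x := by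
      conv_lhs => rw [mE_adj hg, pvT_adj hg, ← pv_mE, hB.symm]
    exact (mul_eq_zero.1 (show (2 : F) * _ = 0 by linear_combination h1)).resolve_left hB.two
  have hspan : ∀ z ∈ cyc g x, ∃ a b : F[X], z = pv (tE g) a x + mE g (pv (tE g) b x) := by
    intro z hz
    have h2 : (2 : F) ≠ 0 := hB.two
    have hTM : ∀ w, gp g 1 w = (2⁻¹ : F) • (tE g w + mE g w) ∧
        gp g (-1) w = (2⁻¹ : F) • (tE g w - mE g w) := by
      intro w
      simp only [tE, mE, LinearMap.add_apply, LinearMap.sub_apply]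
      constructor
      · rw [show gp g 1 w + gp g (-1) w + (gp g 1 w - gp g (-1) w) = (2 : F) • gp g 1 w by
          rw [two_smul]; abel, smul_smul, inv_mul_cancel₀ h2, one_smul]
      · rw [show gp g 1 w + gp g (-1) w - (gp g 1 w - gp g (-1) w) = (2 : F) • gp g (-1) w by
          rw [two_smul]; abel, smul_smul, inv_mul_cancel₀ h2, one_smul]
    have step : ∀ (a b : F[X]) (σ : F), ∃ a' b' : F[X],
        (2⁻¹ : F) • (tE g (pv (tE g) a x + mE g (pv (tE g) b x)) +
          σ • mE g (pv (tE g) a x + mE g (pv (tE g) b x))) =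
        pv (tE g) a' x + mE g (pv (tE g) b' x) := by
      intro a b σ
      refine ⟨C (2⁻¹ : F) * (X * a + C σ * ((X ^ 2 - C 4) * b)),
        C (2⁻¹ : F) * (X * b + C σ * a), ?_⟩
      have eTM : ∀ w : V, tE g (mE g w) = mE g (tE g w) := fun w =>
        (LinearMap.congr_fun (mE_commute_tE (g := g)).eq w).symm
      simp only [pv_C, pv_add, pv_mul, pv_X, map_add, map_smul, eTM, mE_mE]
      module
    refine Submodule.span_induction
      (p := fun z _ => ∃ a b : F[X], z = pv (tE g) a x + mE g (pv (tE g) b x)) ?_ ?_ ?_ ?_ hz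
    · rintro _ ⟨i, rfl⟩
      show ∃ a b : F[X], gp g i x = pv (tE g) a x + mE g (pv (tE g) b x)
      induction i using Int.induction_on with
      | zero => exact ⟨1, 0, by simp [pv]⟩
      | succ k ih =>
        obtain ⟨a, b, hab⟩ := ih
        obtain ⟨a', b', h'⟩ := step a b 1
        refine ⟨a', b', ?_⟩
        rw [← h', ← hab, one_smul, ← (hTM _).1, gp_apply_add]
        congr 2; ring
      | pred k ih =>
        obtain ⟨a, b, hab⟩ := ih
        obtain ⟨a', b', h'⟩ := step a b (-1)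
        refine ⟨a', b', ?_⟩
        rw [← h', ← hab, neg_one_smul, ← sub_eq_add_neg, ← (hTM _).2, gp_apply_add]
        congr 2; ring
    · exact ⟨0, 0, by simp [pv]⟩
    · rintro _ _ _ _ ⟨a, b, rfl⟩ ⟨a', b', rfl⟩
      exact ⟨a + a', b + b', by simp [map_add]; abel⟩
    · rintro c _ _ ⟨a, b, rfl⟩
      exact ⟨C c * a, C c * b, by simp [pv_C_mul, map_smul, smul_add]⟩
  have kill : ∀ a : F[X], (∀ c : F[X], B (pv (tE g) (c * a) x) x = 0) → r ^ e ∣ a := by
    intro a ha
    by_contra hd
    obtain ⟨c, d, hd'⟩ := exists_mul_top hr hd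
    refine hxh ?_
    have : pv (tE g) (r ^ (e - 1)) x = pv (tE g) (c * a) x := by
      rw [show c * a = r ^ (e - 1) + d * r ^ e by linear_combination hd', pv_add, pv_mul,
        he x hxW, pv_zero, add_zero]
    rw [this, ha c]
  intro z hz hperp
  obtain ⟨a, b, rfl⟩ := hspan z hz
  have hA : r ^ e ∣ a := kill a fun c => by
    have := hperp (pv (tE g) c x) (GInv.pv_mem (cyc_ginv x) c (self_mem_cyc x))
    rw [map_add, LinearMap.add_apply, ← pvT_adj hg c, ← pvT_adj hg c, ← pv_mul, ← pv_mE,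
      ← pv_mul, hodd, add_zero] at this
    exact this
  have hBb : r ^ e ∣ (X ^ 2 - C 4) * b := kill _ fun c => by
    have h1 := hperp (mE g (pv (tE g) c x))
      ((cyc_ginv x).mE_mem (GInv.pv_mem (cyc_ginv x) c (self_mem_cyc x)))
    have e1 : B (pv (tE g) a x) (mE g (pv (tE g) c x)) = 0 := by
      rw [hB.symm, ← pvT_adj hg a, ← pv_mE, ← pv_mul, hodd]
    have e2 : B (mE g (pv (tE g) b x)) (mE g (pv (tE g) c x)) =
        -B (pv (tE g) (c * ((X ^ 2 - C 4) * b)) x) x := by
      rw [mE_adj hg, mE_mE, ← pv_mul, ← pvT_adj hg, ← pv_mul]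
      congr 4; ring
    rw [map_add, LinearMap.add_apply, e1, e2, zero_add, neg_eq_zero] at h1
    exact h1
  have hb : r ^ e ∣ b := ((hr.coprime_iff_not_dvd).2 hrq).pow_left.dvd_of_dvd_mul_left hBb
  obtain ⟨a', rfl⟩ := hA
  obtain ⟨b', rfl⟩ := hb
  rw [mul_comm (r ^ e) a', mul_comm (r ^ e) b', pv_mul, pv_mul, he x hxW, pv_zero, pv_zero,
    map_zero, add_zero]

end Cfsg.Agent.OreOmega53
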