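import Cfsg.Agent.OreOmega53.Setup
import Cfsg.Agent.Lib.Reflections.OddIndex

/-!
Values of a symmetric form on a nondegenerate subspace over a finite field of odd order.
-/

set_option autoImplicit false
set_option linter.unusedSectionVars false

namespace Cfsg.Agent.OreOmega53

open LinearMap (BilinForm)

variable {F V : Type*} [Field F] [AddCommGroup V] [Module F V] [FiniteDimensional F V]
variable {G : BilinForm F V} {S : Submodule F V}

/-- A self-adjoint operator, non-zero on a nondegenerate subspace, has a non-zero diagonal value. -/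
theorem exists_diag_ne (hsym : ∀ x ∈ S, ∀ y ∈ S, G x y = G y x) (h2 : (2 : F) ≠ 0)
    (hnd : ND G S) {H : Module.End F V} (hH : ∀ x ∈ S, H x ∈ S)
    (hadj : ∀ x ∈ S, ∀ y ∈ S, G (H x) y = G x (H y)) {z : V} (hz : z ∈ S) (hHz : H z ≠ 0) :
    ∃ x ∈ S, G (H x) x ≠ 0 := by
  by_contra hh
  push Not at hh
  refine hHz (hnd _ (hH z hz) fun y hy => ?_)
  have h1 := hh (z + y) (add_mem hz hy)
  simp only [map_add, LinearMap.add_apply, hh z hz, hh y hy, zero_add, add_zero] at h1
  rw [hadj y hy z hz, hsym y hy _ (hH z hz)] at h1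
  have : (2 : F) * G (H z) y = 0 := by linear_combination h1
  exact (mul_eq_zero.1 this).resolve_left h2

theorem exists_aniso (hsym : ∀ x ∈ S, ∀ y ∈ S, G x y = G y x) (h2 : (2 : F) ≠ 0) (hnd : ND G S)
    (hS : S ≠ ⊥) : ∃ x ∈ S, G x x ≠ 0 := by
  obtain ⟨z, hz, hz0⟩ := (Submodule.ne_bot_iff S).1 hS
  exact exists_diag_ne (H := 1) hsym h2 hnd (fun _ h => h) (fun _ _ _ _ => rfl) hz hz0

theorem nd_perp (hsym : ∀ x ∈ S, ∀ y ∈ S, G x y = G y x) (hnd : ND G S) {a : V} (ha : a ∈ S)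
    (haa : G a a ≠ 0) : ND G (S ⊓ LinearMap.ker (G a)) := by
  intro x hx h
  refine hnd x hx.1 fun y hy => ?_
  have hax : G x a = 0 := by rw [hsym x hx.1 a ha]; exact LinearMap.mem_ker.1 hx.2
  have h1 := h (y - (G a y / G a a) • a)
    ⟨sub_mem hy (S.smul_mem _ ha), by
      rw [SetLike.mem_coe, LinearMap.mem_ker, map_sub, map_smul, smul_eq_mul, div_mul_cancel₀ _ haa,
        sub_self]⟩
  rwa [map_sub, map_smul, hax, smul_zero, sub_zero] at h1

theorem finrank_perp {a : V} :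
    Module.finrank F ↥S ≤ Module.finrank F ↥(S ⊓ LinearMap.ker (G a)) + 1 := by
  have h := LinearMap.finrank_range_add_finrank_ker ((G a).comp S.subtype)
  have e : Module.finrank F ↥(LinearMap.ker ((G a).comp S.subtype)) =
      Module.finrank F ↥(S ⊓ LinearMap.ker (G a)) := by
    rw [LinearMap.ker_comp, ← Submodule.finrank_map_subtype_eq, Submodule.map_comap_subtype]
  have h1 : Module.finrank F ↥(LinearMap.range ((G a).comp S.subtype)) ≤ 1 :=
    (Submodule.finrank_le _).trans (le_of_eq (Module.finrank_self F))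
  omega

variable [Fintype F]

/-- A form in two or more dimensions takes every non-zero value. -/
theorem exists_value (hsym : ∀ x ∈ S, ∀ y ∈ S, G x y = G y x) (h2 : (2 : F) ≠ 0) (hnd : ND G S)
    (hd : 2 ≤ Module.finrank F ↥S) (c : F) : ∃ x ∈ S, G x x = c := by
  have hS : S ≠ ⊥ := fun h => by rw [h, finrank_bot] at hd; omega
  obtain ⟨a, ha, haa⟩ := exists_aniso hsym h2 hnd hS
  have hnd' := nd_perp hsym hnd ha haa
  have hS' : S ⊓ LinearMap.ker (G a) ≠ ⊥ := fun h => by
    have := finrank_perp (G := G) (S := S) (a := a)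
    rw [h, finrank_bot] at this; omega
  obtain ⟨b, hb, hbb⟩ := exists_aniso (S := S ⊓ LinearMap.ker (G a))
    (fun x hx y hy => hsym x hx.1 y hy.1) h2 hnd' hS'
  obtain ⟨s, t, hst⟩ := Reflections.exists_sum_sq h2 haa hbb c
  refine ⟨s • a + t • b, add_mem (S.smul_mem _ ha) (S.smul_mem _ hb.1), ?_⟩
  have hab : G a b = 0 := LinearMap.mem_ker.1 hb.2
  simp only [map_add, map_smul, LinearMap.add_apply, LinearMap.smul_apply, smul_eq_mul, hab,
    hsym b hb.1 a ha]
  linear_combination hst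

/-- In three or more dimensions there is an isotropic vector. -/
theorem exists_isotropic (hsym : ∀ x ∈ S, ∀ y ∈ S, G x y = G y x) (h2 : (2 : F) ≠ 0) (hnd : ND G S)
    (hd : 3 ≤ Module.finrank F ↥S) : ∃ x ∈ S, x ≠ 0 ∧ G x x = 0 := by
  have hS : S ≠ ⊥ := fun h => by rw [h, finrank_bot] at hd; omega
  obtain ⟨a, ha, haa⟩ := exists_aniso hsym h2 hnd hS
  have := finrank_perp (G := G) (S := S) (a := a)
  obtain ⟨w, hw, hww⟩ := exists_value (S := S ⊓ LinearMap.ker (G a))
    (fun x hx y hy => hsym x hx.1 y hy.1) h2 (nd_perp hsym hnd ha haa) (by omega) (-G a a)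
  have haw : G a w = 0 := LinearMap.mem_ker.1 hw.2
  refine ⟨a + w, add_mem ha hw.1, fun h0 => haa ?_, ?_⟩
  · have := congrArg (G a) h0
    simpa [haw] using this
  · simp only [map_add, LinearMap.add_apply, haw, hsym w hw.1 a ha, hww]
    ring

/-- An affine quadric in three or more dimensions has two points. -/
theorem exists_two_solutions (hsym : ∀ x ∈ S, ∀ y ∈ S, G x y = G y x) (h2 : (2 : F) ≠ 0)
    (hnd : ND G S) (hd : 3 ≤ Module.finrank F ↥S) (ℓ : V →ₗ[F] F) (c : F) :
    ∃ z ∈ S, ∃ z' ∈ S, z ≠ z' ∧ G z z + ℓ z = c ∧ G z' z' + ℓ z' = c := by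
  let φ : ↥S →ₗ[F] Module.Dual F ↥S := (G.compl₁₂ S.subtype S.subtype)
  have hinj : Function.Injective φ := by
    rw [← LinearMap.ker_eq_bot, Submodule.eq_bot_iff]
    intro x hx
    exact Subtype.ext (hnd x x.2 fun y hy => LinearMap.congr_fun hx ⟨y, hy⟩)
  obtain ⟨z0, hz0⟩ := (LinearMap.injective_iff_surjective_of_finrank_eq_finrank
    Subspace.dual_finrank_eq.symm).1 hinj ((-2⁻¹ : F) • ℓ.comp S.subtype)
  have h0 : ∀ y ∈ S, G (z0 : V) y = -2⁻¹ * ℓ y := fun y hy => by
    simpa [φ] using LinearMap.congr_fun hz0 ⟨y, hy⟩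
  have key : ∀ w ∈ S, G ((z0 : V) + w) (z0 + w) + ℓ (z0 + w) = G w w + (G z0 z0 + ℓ z0) := by
    intro w hw
    simp only [map_add, LinearMap.add_apply, hsym w hw z0 z0.2, h0 w hw]
    field_simp
    ring
  by_cases hc : c - (G z0 z0 + ℓ z0) = 0
  · obtain ⟨w, hw, hw0, hww⟩ := exists_isotropic hsym h2 hnd hd
    refine ⟨z0, z0.2, z0 + w, add_mem z0.2 hw, ?_, ?_, ?_⟩
    · simp [hw0]
    · exact (sub_eq_zero.1 hc).symm
    · rw [key w hw, hww, zero_add]; exact (sub_eq_zero.1 hc).symm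
  · obtain ⟨w, hw, hww⟩ := exists_value hsym h2 hnd (by omega) (c - (G z0 z0 + ℓ z0))
    refine ⟨z0 + w, add_mem z0.2 hw, z0 + -w, add_mem z0.2 (neg_mem hw), ?_, ?_, ?_⟩
    · intro h
      have h' := add_left_cancel h
      have : (2 : F) • w = 0 := by rw [two_smul]; nth_rewrite 1 [h']; exact neg_add_cancel w
      rw [(smul_eq_zero.1 this).resolve_left h2] at hww
      exact hc (by rw [← hww]; simp)
    · rw [key w hw, hww]; ring
    · rw [key (-w) (neg_mem hw), map_neg, map_neg, LinearMap.neg_apply, neg_neg, hww]; ring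

end Cfsg.Agent.OreOmega53
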