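import Cfsg.Agent.OreOmega53.Unip
import Cfsg.Agent.OreOmega53.Quad

/-!
A vector with the same sign pattern for both involutions, inside a non-semisimple fixed part.
-/

set_option autoImplicit false
set_option linter.unusedSectionVars false

namespace Cfsg.Agent.OreOmega53

open LinearMap (BilinForm)
open Polynomial

variable {F V : Type*} [Field F] [AddCommGroup V] [Module F V] [FiniteDimensional F V]
variable {B : BilinForm F V} {g : (Module.End F V)ˣ} {s : Module.End F V}

/-- The same values and sign pattern for `s` and `s g`. -/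
structure GoodU (B : BilinForm F V) (g : (Module.End F V)ˣ) (s : Module.End F V) (u : V) :
    Prop where
  val : B (s u) u = B (s (gp g 1 u)) u
  plus : s u = u ↔ s (gp g 1 u) = u
  minus : s u = -u ↔ s (gp g 1 u) = -u

theorem ginv_top : GInv g (⊤ : Submodule F V) := fun _ _ => trivial

theorem PInv.ss (hs : PInv B g ⊤ s) (x : V) : s (s x) = x := hs.sq x trivial

theorem PInv.siso (hs : PInv B g ⊤ s) (x y : V) : B (s x) (s y) = B x y :=
  hs.iso x trivial y trivial

theorem PInv.sadj (hs : PInv B g ⊤ s) (x y : V) : B (s x) y = B x (s y) := by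
  conv_rhs => rw [← hs.siso x (s y), hs.ss]

theorem PInv.sgp (hs : PInv B g ⊤ s) (i : ℤ) (x : V) : s (gp g i x) = gp g (-i) (s x) :=
  hs.swap' ginv_top i trivial

theorem PInv.s_nE (hs : PInv B g ⊤ s) (ε : F) (x : V) : s (nE g ε x) = nE' g ε (s x) := by
  simp [nE, nE', hs.sgp]

theorem PInv.s_pvN (hs : PInv B g ⊤ s) (ε : F) (p : F[X]) (x : V) :
    s (pv (nE g ε) p x) = pv (nE' g ε) p (s x) :=
  pv_intertwine (U := ⊤) (fun _ _ => trivial) (fun y _ => hs.s_nE ε y) p trivial

theorem nE_eq {ε : F} (hε : ε * ε = 1) : nE g ε = (-ε) • (gp g 1 * nE' g ε) := by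
  rw [nE', mul_sub, mul_smul_comm, mul_one, ← gp_add, add_neg_cancel, gp_zero, smul_sub, smul_smul,
    neg_mul, hε, nE]
  module

theorem gp_commute_nE' (i : ℤ) (ε : F) : Commute (gp g i) (nE' g ε) :=
  (gp_commute i (-1)).sub_right ((Commute.one_right _).smul_right ε)

theorem ker_nE_pow {ε : F} (hε : ε * ε = 1) (n : ℕ) {x : V} (hx : (nE' g ε ^ n) x = 0) :
    (nE g ε ^ n) x = 0 := by
  rw [nE_eq hε, _root_.smul_pow, (gp_commute_nE' (g := g) 1 ε).mul_pow, LinearMap.smul_apply,
    Module.End.mul_apply, hx, map_zero, smul_zero]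

/-- Eigen decomposition of an element of an invariant subspace. -/
theorem eig_split (h2 : (2 : F) ≠ 0) (hs : PInv B g ⊤ s) {U : Submodule F V}
    (hmaps : ∀ x ∈ U, s x ∈ U) {x : V} (hx : x ∈ U) :
    ∃ a b : V, a ∈ U ∧ b ∈ U ∧ s a = a ∧ s b = -b ∧ x = a + b := by
  refine ⟨(2⁻¹ : F) • (x + s x), (2⁻¹ : F) • (x - s x), U.smul_mem _ (add_mem hx (hmaps x hx)),
    U.smul_mem _ (sub_mem hx (hmaps x hx)), ?_, ?_, ?_⟩
  · rw [map_smul, map_add, hs.ss, add_comm]
  · rw [map_smul, map_sub, hs.ss, ← smul_neg, neg_sub]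
  · rw [← smul_add, show x + s x + (x - s x) = (2 : F) • x by rw [two_smul]; abel, smul_smul,
      inv_mul_cancel₀ h2, one_smul]

/-- Eigenvectors for different signs are orthogonal. -/
theorem eig_perp (hB : Geom B) (hs : PInv B g ⊤ s) {a b : V} {δ : F} (hδ : δ * δ = 1)
    (ha : s a = δ • a) (hb : s b = -(δ • b)) : B a b = 0 := by
  have h1 := hs.siso a b
  rw [ha, hb] at h1
  simp only [map_smul, map_neg, LinearMap.smul_apply, smul_eq_mul] at h1
  have h3 : (2 : F) * B a b = 0 := by linear_combination -h1 - (B a b) * hδ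
  exact (mul_eq_zero.1 h3).resolve_left hB.two

/-- A vector on which a commuting operator does not vanish, with a sign. -/
theorem exists_eig_ne (h2 : (2 : F) ≠ 0) (hs : PInv B g ⊤ s) {U : Submodule F V}
    (hmaps : ∀ x ∈ U, s x ∈ U) (H : Module.End F V) {x : V} (hx : x ∈ U) (hH : H x ≠ 0) :
    ∃ (δ : F) (v : V), δ * δ = 1 ∧ v ∈ U ∧ s v = δ • v ∧ H v ≠ 0 := by
  obtain ⟨a, b, ha, hb, hsa, hsb, rfl⟩ := eig_split h2 hs hmaps hx
  by_cases h : H a = 0
  · refine ⟨-1, b, by ring, hb, by rw [hsb, neg_one_smul], fun h' => hH ?_⟩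
    rw [map_add, h, h', add_zero]
  · exact ⟨1, a, one_mul 1, ha, by rw [hsa, one_smul], h⟩

/-- The bottom of a unipotent part: an isotropic fixed eigenvector paired with an eigenvector. -/
theorem exists_bottom (hB : Geom B) (hg : g ∈ isoUnits B) (hs : PInv B g ⊤ s) {W : Submodule F V}
    (hWnd : ND B W) (hWg : GInv g W) (hWs : ∀ x ∈ W, s x ∈ W) {ε : F} (hε : ε * ε = 1) {e : ℕ}
    (he2 : 2 ≤ e) (he : ∀ x ∈ W, pv (nE g ε) (X ^ e) x = 0) {δ : F} (hδ : δ * δ = 1) {v : V}
    (hv : v ∈ W) (hsv : s v = δ • v) (htop : pv (nE g ε) (X ^ (e - 1)) v ≠ 0) :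
    ∃ y ∈ W, B v y ≠ 0 ∧ gp g 1 y = ε • y ∧ s y = δ • y ∧ B y y = 0 := by
  obtain ⟨w, hw, hvw⟩ : ∃ w ∈ W, B (pv (nE g ε) (X ^ (e - 1)) v) w ≠ 0 := by
    by_contra hc
    push Not at hc
    exact htop (hWnd _ (OreOmega53.pv_mem (fun _ h => hWg.nE_mem ε h) _ hv) hc)
  set y1 := pv (nE' g ε) (X ^ (e - 1)) w with hy1
  have hy1W : y1 ∈ W := OreOmega53.pv_mem (fun _ h => hWg.nE'_mem ε h) _ hw
  have hadj := pv_adj (nE_adj hg ε) (B := B)
  have hN'e : ∀ x ∈ W, pv (nE' g ε) (X ^ e) x = 0 := fun x hx => by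
    rw [pv_X_pow]; exact ker_nE'_pow hε e (by rw [← pv_X_pow]; exact he x hx)
  have hfix1 : gp g 1 y1 = ε • y1 := by
    have h0 : nE' g ε y1 = 0 := by
      rw [hy1, ← pv_X (nE' g ε), ← pv_mul, ← pow_succ', show e - 1 + 1 = e by omega]
      exact hN'e w hw
    rw [← sub_eq_zero]
    have := LinearMap.congr_fun (nE_eq (g := g) hε) y1
    rw [LinearMap.smul_apply, Module.End.mul_apply, h0, map_zero, smul_zero] at this
    simpa [nE] using this
  have hfix1' : gp g (-1) y1 = ε • y1 := by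
    have h1 := congrArg (gp g (-1)) hfix1
    rw [gp_apply_add, neg_add_cancel, gp_zero, Module.End.one_apply, map_smul] at h1
    conv_rhs => rw [h1]
    rw [smul_smul, hε, one_smul]
  have hiso : B y1 y1 = 0 ∧ B y1 (s y1) = 0 := by
    have key : ∀ z ∈ W, B y1 (pv (nE g ε) (X ^ (e - 1)) z) = 0 := by
      intro z hz
      rw [hB.symm, hadj, hy1, ← pv_mul, ← pow_add, show e - 1 + (e - 1) = (e - 2) + e by omega,
        pow_add, pv_mul, hN'e w hw, pv_zero, map_zero]
    refine ⟨?_, ?_⟩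
    · have e2 : ∃ z ∈ W, y1 = pv (nE g ε) (X ^ (e - 1)) z := by
        refine ⟨(-ε) ^ (e - 1) • gp g (-((e - 1 : ℕ) : ℤ)) w,
          W.smul_mem _ (hWg.gp_mem _ hw), ?_⟩
        rw [pv_smul, ← pvN_gp, hy1, pv_X_pow, pv_X_pow, nE'_eq hε, _root_.smul_pow,
          (gp_commute_nE (g := g) (-1) ε).mul_pow, LinearMap.smul_apply, Module.End.mul_apply]
        congr 1
        rw [show (gp g (-1) ^ (e - 1)) = gp g (-((e - 1 : ℕ) : ℤ)) by
          simp [gp, ← Units.val_pow_eq_pow_val, ← inv_pow]]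
      obtain ⟨z, hz, hyz⟩ := e2
      nth_rewrite 2 [hyz]
      exact key z hz
    · have e3 : s y1 = pv (nE g ε) (X ^ (e - 1)) (s w) := by
        rw [← hs.ss (pv (nE g ε) (X ^ (e - 1)) (s w)), hs.s_pvN, hs.ss]
      rw [e3]
      exact key _ (hWs w hw)
  have hsy1 : gp g 1 (s y1) = ε • s y1 := by
    have h := hs.sgp (-1) y1
    rw [neg_neg] at h
    rw [← h, hfix1', map_smul]
  refine ⟨(2⁻¹ : F) • (y1 + δ • s y1),
    W.smul_mem _ (add_mem hy1W (W.smul_mem _ (hWs _ hy1W))), ?_, ?_, ?_, ?_⟩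
  · have h1 : B v (s y1) = δ * B v y1 := by
      rw [← hs.sadj, hsv, map_smul, LinearMap.smul_apply, smul_eq_mul]
    rw [map_smul, map_add, map_smul, h1, smul_eq_mul, smul_eq_mul, ← mul_assoc δ, hδ, one_mul,
      ← two_mul, ← mul_assoc, inv_mul_cancel₀ hB.two, one_mul, hy1, ← hadj]
    exact hvw
  · rw [map_smul, map_add, map_smul, hfix1, hsy1]
    module
  · simp only [map_smul, map_add, hs.ss]
    rw [show δ • (2⁻¹ : F) • (y1 + δ • s y1) = (2⁻¹ : F) • (δ • y1 + (δ * δ) • s y1) by module,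
      hδ, one_smul, add_comm]
  · simp only [map_smul, map_add, LinearMap.smul_apply, LinearMap.add_apply, smul_eq_mul, hiso.1,
      hiso.2, hs.siso, hB.symm (s y1) y1, mul_zero, add_zero]

/-- The vector required, when the fixed part is not semisimple. -/
theorem exists_good_unip (hB : Geom B) (hg : g ∈ isoUnits B) (hs : PInv B g ⊤ s) {w0 : V}
    (hw1 : nE g (1 : F) (nE g (1 : F) w0) = 0) (hw2 : nE g (1 : F) w0 ≠ 0) (ν : F) :
    ∃ u, GoodU B g s u ∧ B u u = ν := by
  classical
  set n := Module.finrank F V + 2 with hn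
  set N := nE g (1 : F) with hN
  set W := (⊤ : Submodule F V) ⊓ LinearMap.ker (N ^ n) with hW
  have hWnd : ND B W := nd_unip hg (nd_top hB) ginv_top (one_mul 1) (by omega)
  have hWg : GInv g W := ginv_unip ginv_top
  have hWmem : ∀ x, x ∈ W ↔ (N ^ n) x = 0 := fun x => by simp [W]
  have hWs : ∀ x ∈ W, s x ∈ W := by
    intro x hx
    rw [hWmem] at hx ⊢
    refine ker_nE_pow (one_mul 1) n ?_
    rw [← pv_X_pow, ← hs.s_pvN, pv_X_pow, hx, map_zero]
  have hw0W : w0 ∈ W := by
    rw [hWmem, hn, pow_add, Module.End.mul_apply, pow_two, Module.End.mul_apply, hw1, map_zero]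
  have hWne : W ≠ ⊥ := fun h => hw2 (by
    rw [(Submodule.eq_bot_iff _).1 h w0 hw0W, map_zero])
  obtain ⟨e, he1, he, x1, hx1, htop1⟩ := exists_exponent N X (W := W) (n := n) hWne
    (fun z hz => by rw [pv_X_pow]; exact (hWmem z).1 hz)
  have he2 : 2 ≤ e := by
    by_contra hlt
    have := he w0 hw0W
    rw [show e = 1 by omega, pow_one, pv_X] at this
    exact hw2 this
  obtain ⟨δ, v, hδ, hvW, hsv, htop⟩ := exists_eig_ne hB.two hs hWs
    (aeval N (X ^ (e - 1) : F[X])) hx1 htop1
  replace htop : pv N (X ^ (e - 1)) v ≠ 0 := htop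
  obtain ⟨y, hyW, hvy, hgy, hsy, hyy⟩ :=
    exists_bottom hB hg hs hWnd hWg hWs (one_mul 1) he2 he hδ hvW hsv htop
  rw [one_smul] at hgy
  have hgy' : gp g (-1) y = y := by
    conv_lhs => rw [← hgy, gp_apply_add, neg_add_cancel, gp_zero, Module.End.one_apply]
  set N' := nE' g (1 : F) with hN'
  have hadj := pv_adj (nE_adj hg (1 : F)) (B := B)
  let ψ : F[X] → F := fun p => B (pv N p v) v
  have hψadd : ∀ p q, ψ (p + q) = ψ p + ψ q := fun p q => by simp [ψ]
  have hψC : ∀ (c : F) p, ψ (C c * p) = c * ψ p := fun c p => by simp [ψ, pv_C_mul]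
  have hψbig : ∀ k, e ≤ k → ψ (X ^ k) = 0 := fun k hk => by
    simp only [ψ]
    rw [show k = (k - e) + e by omega, pow_add, pv_mul, he v hvW, pv_zero, map_zero,
      LinearMap.zero_apply]
  -- the polynomial
  have hb : ∃ (j : ℕ) (c : F), 2 ≤ j ∧
      ψ (X * ((1 + C (-4⁻¹ : F) * X + C c * X ^ j) * (1 + C (-4⁻¹ : F) * X + C c * X ^ j))) = 0 := by
    have hexp : ∀ (j : ℕ) (c : F),
        ψ (X * ((1 + C (-4⁻¹ : F) * X + C c * X ^ j) * (1 + C (-4⁻¹ : F) * X + C c * X ^ j))) =
        ψ (X ^ 1) + 2 * (-4⁻¹) * ψ (X ^ 2) + (-4⁻¹) ^ 2 * ψ (X ^ 3) + 2 * c * ψ (X ^ (j + 1)) +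
          2 * (-4⁻¹) * c * ψ (X ^ (j + 2)) + c ^ 2 * ψ (X ^ (2 * j + 1)) := by
      intro j c
      rw [← hψC, ← hψC, ← hψC, ← hψC, ← hψC, ← hψadd, ← hψadd, ← hψadd, ← hψadd, ← hψadd]
      congr 1
      simp only [map_neg, map_mul, map_pow, map_ofNat]
      ring
    by_cases hj : ∃ j, j ≤ e ∧ 2 ≤ j ∧ ψ (X ^ (j + 1)) ≠ 0
    · obtain ⟨j0, hj0, hj0'⟩ := hj
      set P : ℕ → Prop := fun j => 2 ≤ j ∧ ψ (X ^ (j + 1)) ≠ 0
      set j := Nat.findGreatest P e
      have hPj : P j := Nat.findGreatest_spec (P := P) hj0 hj0'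
      have habove : ∀ k, j + 1 < k → ψ (X ^ k) = 0 := by
        intro k hk
        by_cases hke : e ≤ k
        · exact hψbig k hke
        · by_contra hne
          have := hPj.1
          have hno := Nat.findGreatest_is_greatest (P := P) (show j < k - 1 by omega) (by omega)
          exact hno ⟨by omega, by rwa [show k - 1 + 1 = k by omega]⟩
      refine ⟨j, -(ψ (X ^ 1) + 2 * (-4⁻¹) * ψ (X ^ 2) + (-4⁻¹) ^ 2 * ψ (X ^ 3)) /
        (2 * ψ (X ^ (j + 1))), hPj.1, ?_⟩
      rw [hexp, habove (j + 2) (by omega), habove (2 * j + 1) (by have := hPj.1; omega)]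
      have h2 := hB.two
      have h3 := hPj.2
      field_simp
      ring
    · push Not at hj
      have h3 : ∀ k, 3 ≤ k → ψ (X ^ k) = 0 := by
        intro k hk
        by_cases hke : e ≤ k
        · exact hψbig k hke
        · have := hj (k - 1) (by omega) (by omega)
          rwa [show k - 1 + 1 = k by omega] at this
      refine ⟨2, 0, le_rfl, ?_⟩
      rw [hexp, h3 3 le_rfl]
      let hk : ℕ → F := fun k => B (gp g (-1) (pv N (X ^ k) v)) v
      have hrec : ∀ k, hk k = ψ (X ^ k) - hk (k + 1) := by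
        intro k
        simp only [hk, ψ, pow_succ', pv_mul, pv_X, hN, nE, LinearMap.sub_apply,
          LinearMap.smul_apply, Module.End.one_apply, one_smul, map_sub, gp_apply_add,
          neg_add_cancel, gp_zero]
        ring
      have hhigh : ∀ d k, e ≤ k + d → 3 ≤ k → hk k = 0 := by
        intro d
        induction d with
        | zero =>
          intro k hk1 _
          simp only [hk]
          rw [show k = (k - e) + e by omega, pow_add, pv_mul, he v hvW, pv_zero, map_zero,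
            map_zero, LinearMap.zero_apply]
        | succ d ih =>
          intro k hk1 hk2
          rw [hrec, h3 k hk2, ih (k + 1) (by omega) (by omega), sub_zero]
      have h1 : ψ (X ^ 1) = -hk 1 := by
        have e1 : ψ (X ^ 1) = B (gp g (-1) v) v - B v v := by
          simp only [ψ, pow_one, pv_X, hN, nE, LinearMap.sub_apply, LinearMap.smul_apply,
            Module.End.one_apply, one_smul, map_sub]
          rw [gp_adj hg, hB.symm]
        have e2 : hk 1 = B v v - B (gp g (-1) v) v := by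
          simp only [hk, pow_one, pv_X, hN, nE, LinearMap.sub_apply, LinearMap.smul_apply,
            Module.End.one_apply, one_smul, map_sub, gp_apply_add, neg_add_cancel, gp_zero]
        rw [e1, e2]; ring
      rw [hrec 1, hrec 2, hhigh e 3 (by omega) le_rfl, sub_zero] at h1
      have h4 : (4 : F) ≠ 0 := by
        rw [show (4 : F) = 2 * 2 by norm_num]; exact mul_ne_zero hB.two hB.two
      field_simp
      linear_combination 8 * h1
  obtain ⟨j, c, hj, hψ⟩ := hb
  set f : F[X] := 1 + C (-4⁻¹ : F) * X + C c * X ^ j with hf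
  set a := pv N f v with ha
  set a' := pv N' f v with ha'
  have hsa : s a = δ • a' := by rw [ha, hs.s_pvN, hsv, pv_smul]
  have hta : s (gp g 1 a) = δ • gp g (-1) a' := by rw [hs.sgp, hsa, map_smul]
  have hDa : B (s a) a = B (s (gp g 1 a)) a := by
    rw [hsa, hta, map_smul, map_smul, LinearMap.smul_apply, LinearMap.smul_apply]
    congr 1
    rw [gp_adj hg, neg_neg, hB.symm a' (gp g 1 a), hB.symm a' a, ha', ha, ← hadj, ← hadj, pvN_gp,
      ← pv_mul, ← pv_mul]
    have : gp g 1 v = pv N (1 + X) v := by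
      simp [hN, nE]
    rw [this, ← pv_mul, show f * f * (1 + X) = f * f + X * (f * f) by ring, pv_add, map_add,
      LinearMap.add_apply, show B (pv N (X * (f * f)) v) v = 0 from hψ, add_zero]
  have hay : B a y = B v y := by
    rw [ha, hadj]
    have h0 : nE' g (1 : F) y = 0 := by simp [nE', hgy']
    simp only [hf, pv_add, pv_one, pv_C_mul, pv_X]
    rw [h0, pv_X_pow, show j = j - 1 + 1 by omega, pow_succ, Module.End.mul_apply, h0]
    simp
  set γ := (ν - B a a) / (2 * B v y) with hγ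
  refine ⟨a + γ • y, ?_, ?_⟩
  swap
  · simp only [map_add, map_smul, LinearMap.add_apply, LinearMap.smul_apply, smul_eq_mul, hay,
      hB.symm y a, hyy, hγ]
    have := hB.two
    field_simp
    ring
  have hsu : s (a + γ • y) = δ • a' + γ • δ • y := by rw [map_add, map_smul, hsa, hsy]
  have htu : s (gp g 1 (a + γ • y)) = δ • gp g (-1) a' + γ • δ • y := by
    rw [map_add, map_smul, hgy, map_add, map_smul, hta, hsy]
  set top := pv N (X ^ (e - 1)) v with htopdef
  have hgtop : gp g (-1) top = top := by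
    have h0 : nE g (1 : F) top = 0 := by
      rw [htopdef, ← pv_X (nE g (1 : F)), ← pv_mul, ← pow_succ', show e - 1 + 1 = e by omega]
      exact he v hvW
    have h1 : gp g 1 top = top := by
      rw [← sub_eq_zero]; simpa [nE] using h0
    conv_lhs => rw [← h1, gp_apply_add, neg_add_cancel, gp_zero, Module.End.one_apply]
  set H := pv N (X ^ (e - 2)) with hH
  have hHN : ∀ x : V, H (N x) = pv N (X ^ (e - 1)) x := fun x => by
    rw [hH, ← pv_X N x, ← pv_mul, ← pow_succ, show e - 2 + 1 = e - 1 by omega]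
  have hHg : ∀ x, H (gp g (-1) x) = gp g (-1) (H x) := fun x => (pvN_gp _ _ _ _).symm
  have hN'N : ∀ x, N' x = -gp g (-1) (N x) := fun x => by
    have := LinearMap.congr_fun (nE'_eq (g := g) (one_mul (1 : F))) x
    simpa [hN', hN] using this
  have hHv1 : H (gp g (-1) v) = H v - top := by
    have e1 : gp g (-1) v = v - gp g (-1) (N v) := by
      simp [hN, nE, gp_apply_add]
    conv_lhs => rw [e1]
    rw [hH, pv_vsub, ← hH, hHg, hHN, hgtop]
  have hHj : H (pv N (X ^ j) v) = 0 := by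
    rw [hH, ← pv_mul, ← pow_add, show e - 2 + j = (j - 2) + e by omega, pow_add, pv_mul, he v hvW,
      pv_zero]
  have hHj' : H (pv N' (X ^ j) v) = 0 := by
    rw [pv_X_pow, hN', nE'_eq (one_mul 1), _root_.smul_pow,
      (gp_commute_nE (g := g) (-1) 1).mul_pow, LinearMap.smul_apply, Module.End.mul_apply,
      show (gp g (-1) ^ j) = gp g (-(j : ℤ)) by
        simp [gp, ← Units.val_pow_eq_pow_val, ← inv_pow],
      ← pv_X_pow, hH, pv_smul, ← pvN_gp]
    rw [show pv N (X ^ (e - 2)) (pv (nE g 1) (X ^ j) v) = 0 from hHj, map_zero, smul_zero]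
  have hHa : H a = H v + (-4⁻¹ : F) • top := by
    rw [ha, hf, pv_add, pv_add, pv_one, pv_C_mul, pv_C_mul, pv_X, hH, pv_vadd, pv_vadd, pv_smul,
      pv_smul, ← hH, hHj, hHN, smul_zero, add_zero]
  have hHa' : H a' = H v - (-4⁻¹ : F) • top := by
    rw [ha', hf, pv_add, pv_add, pv_one, pv_C_mul, pv_C_mul, pv_X, hN'N, hH, pv_vadd, pv_vadd,
      pv_smul, pv_smul, ← hH, hHj']
    rw [show H (-gp g (-1) (N v)) = -top by
      rw [hH, show -gp g (-1) (N v) = (-1 : F) • gp g (-1) (N v) by simp, pv_smul, ← hH, hHg, hHN,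
        hgtop, neg_one_smul]]
    rw [smul_neg, smul_zero, add_zero, sub_eq_add_neg]
  have hHga' : H (gp g (-1) a') = H v - top - (-4⁻¹ : F) • top := by
    rw [hHg, hHa', map_sub, map_smul, hgtop, ← hHg, hHv1]
  have hN1 : ∀ x, pv N (X ^ (e - 1)) x = N (H x) := fun x => by
    rw [hH, ← pv_X N (pv N (X ^ (e - 2)) x), ← pv_mul, ← pow_succ',
      show e - 2 + 1 = e - 1 by omega]
  have htop0 : N top = 0 := by
    rw [htopdef, ← pv_X N, ← pv_mul, ← pow_succ', show e - 1 + 1 = e by omega]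
    exact he v hvW
  have hNy : N y = 0 := by simp [hN, nE, hgy]
  have hkey : ∀ b : V, (H b - H a ≠ 0) → N (H b) = top →
      δ • b + γ • δ • y ≠ a + γ • y ∧ δ • b + γ • δ • y ≠ -(a + γ • y) := by
    intro b hb1 hb2
    rcases mul_self_eq_one_iff.1 hδ with h | h <;> subst h
    · refine ⟨fun h => hb1 ?_, fun h => ?_⟩
      · rw [one_smul, one_smul] at h
        rw [add_right_cancel h, sub_self]
      · rw [one_smul, one_smul, eq_neg_iff_add_eq_zero] at h
        have h' := congrArg (pv N (X ^ (e - 1))) h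
        rw [pv_zero, pv_vadd, pv_vadd, pv_vadd, pv_smul, hN1 b, hb2, hN1 a, hHa, map_add, map_smul,
          htop0, smul_zero, add_zero, ← hN1 v] at h'
        rw [show pv N (X ^ (e - 1)) y = 0 by
          rw [show e - 1 = (e - 2) + 1 by omega, pow_succ, pv_mul, pv_X, hNy, pv_zero]] at h'
        simp only [smul_zero, add_zero, ← two_smul F] at h'
        exact htop ((smul_eq_zero.1 (show (2 : F) • top = 0 by
          rw [two_smul]; exact h')).resolve_left hB.two)
    · refine ⟨fun h => ?_, fun h => hb1 ?_⟩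
      · rw [neg_one_smul, neg_one_smul, smul_neg, ← sub_eq_zero,
          show -b + -(γ • y) - (a + γ • y) = -((b + γ • y) + (a + γ • y)) by abel, neg_eq_zero] at h
        have h' := congrArg (pv N (X ^ (e - 1))) h
        rw [pv_zero, pv_vadd, pv_vadd, pv_vadd, pv_smul, hN1 b, hb2, hN1 a, hHa, map_add, map_smul,
          htop0, smul_zero, add_zero, ← hN1 v] at h'
        rw [show pv N (X ^ (e - 1)) y = 0 by
          rw [show e - 1 = (e - 2) + 1 by omega, pow_succ, pv_mul, pv_X, hNy, pv_zero]] at h'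
        simp only [smul_zero, add_zero, ← two_smul F] at h'
        exact htop ((smul_eq_zero.1 (show (2 : F) • top = 0 by
          rw [two_smul]; exact h')).resolve_left hB.two)
      · rw [neg_one_smul, neg_one_smul, smul_neg, ← neg_add, neg_inj] at h
        rw [add_right_cancel h, sub_self]
  have h4 : (4 : F) ≠ 0 := by
    rw [show (4 : F) = 2 * 2 by norm_num]; exact mul_ne_zero hB.two hB.two
  have hc1 : H a' - H a ≠ 0 := by
    rw [hHa, hHa', show H v - (-4⁻¹ : F) • top - (H v + (-4⁻¹ : F) • top) =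
      (2⁻¹ : F) • top by
        rw [show (2⁻¹ : F) = 2 * 4⁻¹ by rw [show (4 : F) = 2 * 2 by norm_num]; field_simp]
        module]
    exact smul_ne_zero (inv_ne_zero hB.two) htop
  have hc2 : H (gp g (-1) a') - H a ≠ 0 := by
    rw [hHa, hHga', show H v - top - (-4⁻¹ : F) • top - (H v + (-4⁻¹ : F) • top) =
      (-2⁻¹ : F) • top by
        rw [show (-2⁻¹ : F) = -1 + 2 * 4⁻¹ by rw [show (4 : F) = 2 * 2 by norm_num, mul_inv, ← mul_assoc, mul_inv_cancel₀ hB.two, one_mul]; linear_combination (-(1 : F)) * mul_inv_cancel₀ hB.two]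
        module]
    exact smul_ne_zero (neg_ne_zero.2 (inv_ne_zero hB.two)) htop
  obtain ⟨s1, s2⟩ := hkey a' hc1 (by
    rw [hHa', map_sub, map_smul, htop0, smul_zero, sub_zero, ← hN1 v])
  obtain ⟨t1, t2⟩ := hkey (gp g (-1) a') hc2 (by
    rw [hHga', map_sub, map_sub, map_smul, htop0, smul_zero, sub_zero, sub_zero, ← hN1 v])
  refine ⟨?_, ?_, ?_⟩
  · rw [hsu, htu]
    simp only [map_add, map_smul, LinearMap.add_apply, LinearMap.smul_apply, smul_eq_mul]
    rw [hsa, hta] at hDa
    simp only [map_smul, LinearMap.smul_apply, smul_eq_mul] at hDa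
    have hcross : B (gp g (-1) a') y = B a' y := by rw [gp_adj hg, neg_neg, hgy]
    rw [hcross]
    linear_combination hDa
  · rw [hsu, htu]; exact ⟨fun h => absurd h s1, fun h => absurd h t1⟩
  · rw [hsu, htu]; exact ⟨fun h => absurd h s2, fun h => absurd h t2⟩

end Cfsg.Agent.OreOmega53
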