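import Cfsg.Agent.OreOmega53.OrthBasis
import Cfsg.Agent.OreOmega53.LemmaA

/-!
Conjugating one involution into another while fixing a vector, inside Omega.
-/

set_option autoImplicit false
set_option linter.unusedSectionVars false

namespace Cfsg.Agent.OreOmega53

open LinearMap (BilinForm)
open QuadraticMap Cfsg.Agent.Reflections Cfsg.Agent.Forms59

variable {ι : Type} [Fintype ι] [DecidableEq ι] {F : Type*} [Field F] [Fintype F] [DecidableEq F]
variable {Q : QuadraticForm F (ι → F)}

/-- The linear map of an isometry. -/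
noncomputable def endOf (g : ↥(Cfsg.isometryGroup F ⇑Q)) : (Module.End F (ι → F))ˣ :=
  Units.map (Matrix.toLinAlgEquiv' (R := F) (n := ι)).toMonoidHom (g : Matrix.GeneralLinearGroup ι F)

theorem endOf_apply (g : ↥(Cfsg.isometryGroup F ⇑Q)) (x : ι → F) :
    (endOf g : Module.End F (ι → F)) x = act g x := rfl

theorem gp_one_endOf (g : ↥(Cfsg.isometryGroup F ⇑Q)) (x : ι → F) :
    gp (endOf g) 1 x = act g x := by rw [gp_one]; rfl

theorem endOf_mem (g : ↥(Cfsg.isometryGroup F ⇑Q)) : endOf g ∈ isoUnits Q.polarBilin :=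
  fun x y => pb_act g x y

/-- The eigenspace of an isometry for a sign. -/
noncomputable def sp (h : ↥(Cfsg.isometryGroup F ⇑Q)) (δ : F) : Submodule F (ι → F) :=
  eig ⊤ (endOf h : Module.End F (ι → F)) δ

theorem mem_sp {h : ↥(Cfsg.isometryGroup F ⇑Q)} {δ : F} {x : ι → F} :
    x ∈ sp h δ ↔ act h x = δ • x := by
  rw [sp, mem_eig]; simp [endOf_apply]

theorem sp_split (h2 : (2 : F) ≠ 0) {h : ↥(Cfsg.isometryGroup F ⇑Q)} (hh : h * h = 1) (x : ι → F) :
    ∃ a ∈ sp h 1, ∃ b ∈ sp h (-1), x = a + b := by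
  refine ⟨(2⁻¹ : F) • (x + act h x), mem_sp.2 ?_, (2⁻¹ : F) • (x - act h x), mem_sp.2 ?_, ?_⟩
  · rw [one_smul, act_smul, act_add, ← act_mul, hh, act_one, add_comm]
  · rw [act_smul, act_sub, ← act_mul, hh, act_one, neg_one_smul, ← smul_neg, neg_sub]
  · rw [← smul_add, show x + act h x + (x - act h x) = (2 : F) • x by rw [two_smul]; abel, smul_smul,
      inv_mul_cancel₀ h2, one_smul]

theorem sp_perp (h2 : (2 : F) ≠ 0) {h : ↥(Cfsg.isometryGroup F ⇑Q)} {a b : ι → F}
    (ha : a ∈ sp h 1) (hb : b ∈ sp h (-1)) : Q.polarBilin a b = 0 := by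
  have e := pb_act h a b
  rw [mem_sp.1 ha, mem_sp.1 hb, one_smul, neg_one_smul, map_neg] at e
  exact (mul_eq_zero.1 (show (2 : F) * _ = 0 by linear_combination -e)).resolve_left h2

theorem sp_nd (hQ : Q.polarBilin.Nondegenerate) (h2 : (2 : F) ≠ 0)
    {h : ↥(Cfsg.isometryGroup F ⇑Q)} (hh : h * h = 1) :
    ND Q.polarBilin (sp h 1) ∧ ND Q.polarBilin (sp h (-1)) := by
  constructor
  · intro x hx hperp
    refine hQ.1 x fun y => ?_
    obtain ⟨a, ha, b, hb, rfl⟩ := sp_split h2 hh y
    rw [map_add, hperp a ha, sp_perp h2 hx hb, add_zero]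
  · intro x hx hperp
    refine hQ.1 x fun y => ?_
    obtain ⟨a, ha, b, hb, rfl⟩ := sp_split h2 hh y
    rw [map_add, hperp b hb, (geom_of h2 hQ).symm x a, sp_perp h2 ha hx, add_zero]

theorem sp_perp_iff (hQ : Q.polarBilin.Nondegenerate) (h2 : (2 : F) ≠ 0)
    {h : ↥(Cfsg.isometryGroup F ⇑Q)} (hh : h * h = 1) {x : ι → F} :
    ((∀ u ∈ sp h (-1), Q.polarBilin u x = 0) → x ∈ sp h 1) ∧
      ((∀ u ∈ sp h 1, Q.polarBilin u x = 0) → x ∈ sp h (-1)) := by
  obtain ⟨a, ha, b, hb, rfl⟩ := sp_split h2 hh x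
  constructor
  · intro hx
    have : b = 0 := (sp_nd hQ h2 hh).2 b hb fun y hy => by
      have := hx y hy
      rw [map_add, (geom_of h2 hQ).symm y a, sp_perp h2 ha hy, zero_add] at this
      rw [(geom_of h2 hQ).symm]; exact this
    rw [this, add_zero]; exact ha
  · intro hx
    have : a = 0 := (sp_nd hQ h2 hh).1 a ha fun y hy => by
      have := hx y hy
      rw [map_add, sp_perp h2 hy hb, add_zero] at this
      rw [(geom_of h2 hQ).symm]; exact this
    rw [this, zero_add]; exact hb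

theorem sp_sum (hQ : Q.polarBilin.Nondegenerate) (h2 : (2 : F) ≠ 0)
    {h : ↥(Cfsg.isometryGroup F ⇑Q)} (hh : h * h = 1) :
    Module.finrank F ↥(sp h 1) + Module.finrank F ↥(sp h (-1)) = Fintype.card ι := by
  rw [← Module.finrank_fintype_fun_eq_card F]
  have := finrank_eig_add (U := ⊤) (geom_of h2 hQ) (s := (endOf h : Module.End F (ι → F)))
    (fun _ _ => trivial) (fun x _ => by
      rw [endOf_apply, endOf_apply, ← act_mul, hh, act_one])
  rw [finrank_top] at this
  exact this

/-- An isometry fixing `S`-orthogonal vectors and moving `w` to `u` inside `S`. -/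
theorem adjust (hQ : Q.polarBilin.Nondegenerate) (h2 : (2 : F) ≠ 0) {S : Submodule F (ι → F)}
    (hS : ND Q.polarBilin S) {w u : ι → F} (hw : w ∈ S) (hu : u ∈ S) (hQwu : Q w = Q u)
    (h0 : w = 0 ↔ u = 0) :
    ∃ k : ↥(Cfsg.isometryGroup F ⇑Q), (∀ x, (∀ v ∈ S, Q.polarBilin v x = 0) → act k x = x) ∧
      act k w = u := by
  by_cases hw0 : w = 0
  · exact ⟨1, fun x _ => act_one x, by rw [act_one, hw0, h0.1 hw0]⟩
  obtain ⟨r, hr, hwr⟩ : ∃ r ∈ S, Q.polarBilin w r ≠ 0 := by
    by_contra hc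
    push Not at hc
    exact hw0 (hS w hw hc)
  set P' := LinearMap.BilinForm.orthogonal Q.polarBilin S
  let φ : (ι → F) →ₗ[F] F := (Q.polarBilin w r)⁻¹ • Q.polarBilin r
  have hφw : φ w = 1 := by
    simp only [φ, LinearMap.smul_apply, smul_eq_mul]
    rw [(geom_of h2 hQ).symm r w, inv_mul_cancel₀ hwr]
  have hφP : ∀ p ∈ P', φ p = 0 := fun p hp => by
    simp only [φ, LinearMap.smul_apply, smul_eq_mul]
    rw [show Q.polarBilin r p = 0 from hp r hr, mul_zero]
  let f : (ι → F) →ₗ[F] (ι → F) := LinearMap.id + φ.smulRight (u - w)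
  have hfX : ∀ x ∈ P' ⊔ F ∙ w, ∃ p ∈ P', ∃ c : F, x = p + c • w ∧ f x = p + c • u := by
    intro x hx
    obtain ⟨p, hp, z, hz, rfl⟩ := Submodule.mem_sup.1 hx
    obtain ⟨c, rfl⟩ := Submodule.mem_span_singleton.1 hz
    refine ⟨p, hp, c, rfl, ?_⟩
    simp only [f, LinearMap.add_apply, LinearMap.id_apply, LinearMap.smulRight_apply, map_add,
      map_smul, hφw, hφP p hp]
    module
  obtain ⟨G, hG, hGX⟩ := Forms.witt_quadratic' Q hQ (P' ⊔ F ∙ w) f (fun x hx hfx => by
      obtain ⟨p, hp, c, rfl, e⟩ := hfX x hx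
      rw [e] at hfx
      have hcu : c • u = 0 := by
        refine hS _ (S.smul_mem _ hu) fun y hy => ?_
        rw [eq_neg_of_add_eq_zero_right hfx, (geom_of h2 hQ).symm, map_neg,
          show Q.polarBilin y p = 0 from hp y hy, neg_zero]
      rw [hcu, add_zero] at hfx
      rw [hfx, (smul_eq_zero.1 hcu).resolve_right (fun h => hw0 (h0.2 h)), zero_smul, add_zero])
    (fun x hx => by
      obtain ⟨p, hp, c, rfl, e⟩ := hfX x hx
      rw [e, map_add', map_add', map_smul', map_smul', hQwu, polar_comm, ← pb_apply,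
        polar_comm ⇑Q p, ← pb_apply, map_smul, LinearMap.smul_apply, map_smul,
        LinearMap.smul_apply, show Q.polarBilin u p = 0 from hp u hu,
        show Q.polarBilin w p = 0 from hp w hw])
  obtain ⟨k, hk⟩ := exists_of_linearEquiv G hG
  refine ⟨k, fun x hx => ?_, ?_⟩
  · rw [hk, hGX x (Submodule.mem_sup_left hx)]
    simp only [f, LinearMap.add_apply, LinearMap.id_apply, LinearMap.smulRight_apply, hφP x hx,
      zero_smul, add_zero]
  · rw [hk, hGX w (Submodule.mem_sup_right (Submodule.mem_span_singleton_self w))]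
    simp only [f, LinearMap.add_apply, LinearMap.id_apply, LinearMap.smulRight_apply, hφw, one_smul,
      add_sub_cancel]

/-- Every non-zero value is taken perpendicular to a vector, in dimension four or more. -/
theorem exists_value_perp (hQ : Q.polarBilin.Nondegenerate) (h2 : (2 : F) ≠ 0)
    {S : Submodule F (ι → F)} (hS : ND Q.polarBilin S) (hd : 4 ≤ Module.finrank F ↥S) {v : ι → F}
    (hv : v ∈ S) (c : F) : ∃ w ∈ S, Q w = c ∧ Q.polarBilin w v = 0 := by
  have hB := geom_of h2 hQ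
  have fin : ∀ w, Q.polarBilin w w = 2 * c → Q w = c := fun w h => by
    rw [pb_self] at h; exact mul_left_cancel₀ h2 h
  by_cases hvv : Q.polarBilin v v = 0
  · by_cases hv0 : v = 0
    · obtain ⟨w, hw, hww⟩ := exists_value (G := Q.polarBilin) (fun x _ y _ => hB.symm x y) h2 hS
        (by omega) (2 * c)
      exact ⟨w, hw, fin w hww, by rw [hv0, map_zero]⟩
    obtain ⟨p, hp, hvp⟩ : ∃ p ∈ S, Q.polarBilin v p ≠ 0 := by
      by_contra hc
      push Not at hc
      exact hv0 (hS v hv hc)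
    set P := Submodule.span F ({v, p} : Set (ι → F)) with hP
    have hPS : P ≤ S := Submodule.span_le.2 (by
      rintro x (rfl | rfl) <;> assumption)
    have hPnd : ND Q.polarBilin P := by
      intro x hx h
      obtain ⟨a, b, rfl⟩ := Submodule.mem_span_pair.1 hx
      have h1 := h v (Submodule.subset_span (by simp))
      simp only [map_add, map_smul, LinearMap.add_apply, LinearMap.smul_apply, smul_eq_mul, hvv,
        mul_zero, zero_add, hB.symm p v, mul_eq_zero] at h1
      have hb : b = 0 := h1.resolve_right hvp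
      subst hb
      have h3 := h p (Submodule.subset_span (by simp))
      simp only [zero_smul, add_zero, map_smul, LinearMap.smul_apply, smul_eq_mul, mul_eq_zero] at h3
      rw [h3.resolve_right hvp, zero_smul, zero_smul, add_zero]
    have hR := nd_inf_orth hB hS hPnd hPS
    have hdim : 2 ≤ Module.finrank F
        ↥(S ⊓ LinearMap.BilinForm.orthogonal Q.polarBilin P) := by
      have h1 := Submodule.finrank_sup_add_finrank_inf_eq S
        (LinearMap.BilinForm.orthogonal Q.polarBilin P)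
      have h2' := LinearMap.BilinForm.finrank_orthogonal hQ P
      have h3 : Module.finrank F ↥P ≤ 2 := by
        rw [hP]
        refine (finrank_span_le_card _).trans ?_
        rw [Set.toFinset_insert, Set.toFinset_singleton]
        exact Finset.card_le_two
      have h4 := Submodule.finrank_le (S ⊔ LinearMap.BilinForm.orthogonal Q.polarBilin P)
      omega
    obtain ⟨w, hw, hww⟩ := exists_value (G := Q.polarBilin)
      (fun x _ y _ => hB.symm x y) h2 hR hdim (2 * c)
    exact ⟨w, hw.1, fin w hww, by rw [hB.symm]; exact hw.2 v (Submodule.subset_span (by simp))⟩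
  · have hnd := nd_perp (fun x _ y _ => hB.symm x y) hS hv hvv
    have := finrank_perp (G := Q.polarBilin) (S := S) (a := v)
    obtain ⟨w, hw, hww⟩ := exists_value (G := Q.polarBilin)
      (S := S ⊓ LinearMap.ker (Q.polarBilin v)) (fun x _ y _ => hB.symm x y) h2 hnd (by omega) (2 * c)
    exact ⟨w, hw.1, fin w hww, by rw [hB.symm]; exact LinearMap.mem_ker.1 hw.2⟩

/-- The element of Omega conjugating `s` to `t` and fixing `u`. -/
theorem exists_conj (hQ : Q.polarBilin.Nondegenerate) (h2 : (2 : F) ≠ 0)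
    (hn : 7 ≤ Fintype.card ι) {s t : ↥(Cfsg.isometryGroup F ⇑Q)} (hs : s * s = 1) (ht : t * t = 1)
    (hd : Module.finrank F ↥(sp s (-1)) = Module.finrank F ↥(sp t (-1))) {os os' : List (ι → F)}
    (hos : OB Q (sp s (-1)) os) (hos' : OB Q (sp t (-1)) os')
    (hcl : quadraticChar F (os.map fun v => Q v).prod = quadraticChar F (os'.map fun v => Q v).prod)
    {u : ι → F} (hval : Q.polarBilin (act s u) u = Q.polarBilin (act t u) u)
    (hp : act s u = u ↔ act t u = u) (hm : act s u = -u ↔ act t u = -u) :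
    ∃ a : ↥(Cfsg.isometryGroup F ⇑Q), a ∈ Cfsg.Omega F ⇑Q ∧ act a u = u ∧ a * s * a⁻¹ = t := by
  have hB := geom_of h2 hQ
  obtain ⟨nds1, nds⟩ := sp_nd hQ h2 hs
  obtain ⟨ndt1, ndt⟩ := sp_nd hQ h2 ht
  obtain ⟨f, hf1, hf2, hf3⟩ := exists_isometry hQ h2 nds ndt hd hos hos' hcl
  obtain ⟨G, hG, hGX⟩ := Forms.witt_quadratic' Q hQ (sp s (-1)) f hf2 hf3
  obtain ⟨g1, hg1⟩ := exists_of_linearEquiv G hG
  have hmap : ∀ y ∈ sp t (-1), ∃ x ∈ sp s (-1), act g1 x = y := by
    have e : (sp s (-1)).map (G : (ι → F) →ₗ[F] (ι → F)) = sp t (-1) := by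
      refine Submodule.eq_of_le_of_finrank_eq ?_ ?_
      · rintro _ ⟨x, hx, rfl⟩
        show G x ∈ _
        rw [hGX x hx]; exact hf1 x hx
      · rw [← hd]
        exact (Submodule.equivMapOfInjective _ G.injective _).finrank_eq.symm
    intro y hy
    rw [← e] at hy
    obtain ⟨x, hx, rfl⟩ := hy
    exact ⟨x, hx, hg1 x⟩
  have hgneg : ∀ x ∈ sp s (-1), act g1 x ∈ sp t (-1) := fun x hx => by
    rw [hg1, hGX x hx]; exact hf1 x hx
  have hgpos : ∀ x ∈ sp s 1, act g1 x ∈ sp t 1 := fun x hx =>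
    (sp_perp_iff hQ h2 ht).1 fun y hy => by
      obtain ⟨x', hx', rfl⟩ := hmap y hy
      rw [pb_act, hB.symm]; exact sp_perp h2 hx hx'
  obtain ⟨up, hup, um, hum, hu⟩ := sp_split h2 hs u
  obtain ⟨up', hup', um', hum', hu'⟩ := sp_split h2 ht u
  have hsu : act s u = up - um := by
    rw [hu, act_add, mem_sp.1 hup, mem_sp.1 hum, one_smul, neg_one_smul, sub_eq_add_neg]
  have htu : act t u = up' - um' := by
    rw [hu', act_add, mem_sp.1 hup', mem_sp.1 hum', one_smul, neg_one_smul, sub_eq_add_neg]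
  have two0 : ∀ z : ι → F, (2 : F) • z = 0 → z = 0 := fun z h =>
    (smul_eq_zero.1 h).resolve_left h2
  have hm0 : um = 0 ↔ um' = 0 := by
    have e1 : act s u = u ↔ um = 0 := by
      rw [hsu]
      constructor
      · intro h
        refine two0 _ ?_
        rw [show (2 : F) • um = (up + um) - (up - um) by module, ← hu, h, sub_self]
      · intro h; rw [hu, h, sub_zero, add_zero]
    have e2 : act t u = u ↔ um' = 0 := by
      rw [htu]
      constructor
      · intro h
        refine two0 _ ?_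
        rw [show (2 : F) • um' = (up' + um') - (up' - um') by module, ← hu', h, sub_self]
      · intro h; rw [hu', h, sub_zero, add_zero]
    rw [← e1, ← e2]; exact hp
  have hp0 : up = 0 ↔ up' = 0 := by
    have e1 : act s u = -u ↔ up = 0 := by
      rw [hsu]
      constructor
      · intro h
        refine two0 _ ?_
        rw [show (2 : F) • up = (up + um) + (up - um) by module, ← hu, h, add_neg_cancel]
      · intro h; rw [hu, h, zero_add, zero_sub]
    have e2 : act t u = -u ↔ up' = 0 := by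
      rw [htu]
      constructor
      · intro h
        refine two0 _ ?_
        rw [show (2 : F) • up' = (up' + um') + (up' - um') by module, ← hu', h, add_neg_cancel]
      · intro h; rw [hu', h, zero_add, zero_sub]
    rw [← e1, ← e2]; exact hm
  have q0 : polar ⇑Q up um = 0 := sp_perp h2 hup hum
  have q0' : polar ⇑Q up' um' = 0 := sp_perp h2 hup' hum'
  have hQsum : Q up + Q um = Q up' + Q um' := by
    have h1 : Q u = Q up + Q um := by rw [hu, map_add', q0, add_zero]
    have h1' : Q u = Q up' + Q um' := by rw [hu', map_add', q0', add_zero]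
    rw [← h1, ← h1']
  have hQdiff : Q up - Q um = Q up' - Q um' := by
    have h1 : Q.polarBilin (act s u) u = 2 * (Q up - Q um) := by
      rw [hsu, hu]
      simp only [map_add, map_sub, LinearMap.sub_apply, pb_self]
      rw [pb_apply, pb_apply, polar_comm ⇑Q um up, q0]
      ring
    have h1' : Q.polarBilin (act t u) u = 2 * (Q up' - Q um') := by
      rw [htu, hu']
      simp only [map_add, map_sub, LinearMap.sub_apply, pb_self]
      rw [pb_apply, pb_apply, polar_comm ⇑Q um' up', q0']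
      ring
    rw [h1, h1'] at hval
    exact mul_left_cancel₀ h2 hval
  have hQm : Q um = Q um' := mul_left_cancel₀ h2 (by linear_combination hQsum - hQdiff)
  have hQp : Q up = Q up' := by linear_combination hQsum - hQm
  have hz : ∀ (k : ↥(Cfsg.isometryGroup F ⇑Q)) (z : ι → F), act k z = 0 ↔ z = 0 := fun k z =>
    ⟨fun h => act_injective k (by rw [h, act_zero]), fun h => by rw [h, act_zero]⟩
  obtain ⟨km, hkm1, hkm2⟩ := adjust hQ h2 ndt (hgneg um hum) hum' (by rw [act_Q, hQm])
    (by rw [hz, hm0])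
  obtain ⟨kp, hkp1, hkp2⟩ := adjust hQ h2 ndt1 (hgpos up hup) hup' (by rw [act_Q, hQp])
    (by rw [hz, hp0])
  have km_pos : ∀ x ∈ sp t 1, act km x = x := fun x hx => hkm1 x fun v hv => by
    rw [hB.symm]; exact sp_perp h2 hx hv
  have kp_neg : ∀ x ∈ sp t (-1), act kp x = x := fun x hx => hkp1 x fun v hv => sp_perp h2 hv hx
  have km_neg : ∀ x ∈ sp t (-1), act km x ∈ sp t (-1) := fun x hx =>
    (sp_perp_iff hQ h2 ht).2 fun y hy => by
      rw [← km_pos y hy, pb_act]; exact sp_perp h2 hy hx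
  have kp_pos : ∀ x ∈ sp t 1, act kp x ∈ sp t 1 := fun x hx =>
    (sp_perp_iff hQ h2 ht).1 fun y hy => by
      rw [← kp_neg y hy, pb_act, hB.symm]; exact sp_perp h2 hx hy
  set a0 := kp * km * g1 with ha0
  have ha0pos : ∀ x ∈ sp s 1, act a0 x ∈ sp t 1 := fun x hx => by
    rw [ha0, act_mul, act_mul, km_pos _ (hgpos x hx)]; exact kp_pos _ (hgpos x hx)
  have ha0neg : ∀ x ∈ sp s (-1), act a0 x ∈ sp t (-1) := fun x hx => by
    rw [ha0, act_mul, act_mul, kp_neg _ (km_neg _ (hgneg x hx))]; exact km_neg _ (hgneg x hx)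
  have ha0u : act a0 u = u := by
    conv_lhs => rw [hu]
    rw [ha0, act_mul, act_mul, act_add, act_add, act_add, km_pos _ (hgpos up hup), hkm2, hkp2,
      kp_neg _ hum', ← hu']
  have hconj : a0 * s = t * a0 := by
    refine isom_ext fun x => ?_
    obtain ⟨a, ha, b, hb, rfl⟩ := sp_split h2 hs x
    simp only [act_mul, act_add, mem_sp.1 ha, mem_sp.1 hb, one_smul, neg_one_smul, act_neg,
      mem_sp.1 (ha0pos a ha), mem_sp.1 (ha0neg b hb)]
  -- correct the class
  obtain ⟨T, hTnd, hTd, v, hvT, hTstab, hTu⟩ : ∃ T : Submodule F (ι → F), ND Q.polarBilin T ∧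
      4 ≤ Module.finrank F ↥T ∧ ∃ v ∈ T, (∀ r ∈ T, Q r ≠ 0 → refl Q r * t = t * refl Q r) ∧
        ∀ r ∈ T, Q.polarBilin r v = 0 → Q.polarBilin r u = 0 := by
    have hsum := sp_sum hQ h2 ht
    have comm : ∀ δ : F, δ * δ = 1 → ∀ r ∈ sp t δ, Q r ≠ 0 → refl Q r * t = t * refl Q r := by
      intro δ hδ r hr hqr
      refine isom_ext fun x => ?_
      have e : polar ⇑Q r (act t x) = δ * polar ⇑Q r x := by
        have h1 := act_polar t r x
        rw [mem_sp.1 hr, ← pb_apply, map_smul, LinearMap.smul_apply, smul_eq_mul, pb_apply] at h1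
        linear_combination δ * h1 - (polar ⇑Q r (act t x)) * hδ
      rw [act_mul, act_mul, act_refl hqr, act_refl hqr, e, act_sub, act_smul, mem_sp.1 hr,
        smul_smul]
      congr 2; ring
    by_cases h4 : 4 ≤ Module.finrank F ↥(sp t 1)
    · refine ⟨_, ndt1, h4, up', hup', comm 1 (one_mul 1), fun r hr hrv => ?_⟩
      rw [hu', map_add, hrv, sp_perp h2 hr hum', add_zero]
    · refine ⟨_, ndt, by omega, um', hum', comm (-1) (by ring), fun r hr hrv => ?_⟩
      rw [hu', map_add, hrv, hB.symm r up', sp_perp h2 hup' hr, add_zero]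
  have hcard : Fintype.card F ≠ 2 ∨ Fintype.card ι ≠ 4 := Or.inr (by omega)
  obtain ⟨vs, hvs, hvseq⟩ := exists_reflProd hQ hcard a0
  have hrep : ∀ c : F, ∃ r ∈ T, Q r = c ∧ Q.polarBilin r v = 0 := exists_value_perp hQ h2 hTnd hTd hvT
  choose r hrT hrQ hrv using hrep
  set ws := vs.map fun w => r (Q w) with hws
  have hws0 : ∀ w ∈ ws, Q w ≠ 0 := by
    intro w hw
    obtain ⟨z, hz, rfl⟩ := List.mem_map.1 hw
    rw [hrQ]; exact hvs z hz
  have hrs : ∀ l : List (ι → F), (∀ w ∈ l, w ∈ T ∧ Q w ≠ 0 ∧ Q.polarBilin w u = 0) →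
      reflProd Q l * t = t * reflProd Q l ∧ act (reflProd Q l) u = u := by
    intro l
    induction l with
    | nil => intro _; simp [reflProd]
    | cons w l ih =>
      intro hl
      obtain ⟨h1, h3⟩ := ih fun z hz => hl z (List.mem_cons_of_mem _ hz)
      obtain ⟨hwT, hw0, hwu⟩ := hl w (List.mem_cons_self)
      refine ⟨?_, ?_⟩
      · rw [reflProd_cons, mul_assoc, h1, ← mul_assoc, hTstab w hwT hw0, mul_assoc]
      · rw [reflProd_cons, act_mul, h3, refl_fix hw0 hwu]
  obtain ⟨hr1, hr2⟩ := hrs ws fun w hw => by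
    obtain ⟨z, hz, rfl⟩ := List.mem_map.1 hw
    exact ⟨hrT _, by rw [hrQ]; exact hvs z hz, hTu _ (hrT _) (hrv _)⟩
  refine ⟨reflProd Q ws * a0, ?_, by rw [act_mul, ha0u, hr2], ?_⟩
  · rw [hvseq, ← reflProd_append]
    refine mem_omega_of_even_square hQ hcard (by omega) _
      (fun w hw => (List.mem_append.1 hw).elim (hws0 w) (hvs w)) ?_ ?_
    · simp [hws]
    · refine ⟨(vs.map fun w => Q w).prod, ?_⟩
      rw [List.map_append, List.prod_append, hws, List.map_map]
      congr 2
      exact List.map_congr_left fun w _ => hrQ _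
  · rw [mul_inv_eq_iff_eq_mul, mul_assoc, hconj, ← mul_assoc, hr1, mul_assoc]

end Cfsg.Agent.OreOmega53
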