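import Cfsg.Agent.OreOmega53.NegUnip

/-!
In odd dimension at least seven: a vector with prescribed value, or a twist.
-/

set_option autoImplicit false
set_option linter.unusedSectionVars false

namespace Cfsg.Agent.OreOmega53

open LinearMap (BilinForm)
open Polynomial

variable {F V : Type*} [Field F] [AddCommGroup V] [Module F V] [FiniteDimensional F V] [Fintype F]
variable {B : BilinForm F V} {g : (Module.End F V)ˣ} {s : Module.End F V}

theorem mE_injective_of_bezout {r : F[X]} (hr : Irreducible r) (hrq : ¬ r ∣ X ^ 2 - C 4) {n : ℕ}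
    {z : V} (hz : pv (tE g) (r ^ n) z = 0) (h0 : mE g z = 0) : z = 0 := by
  obtain ⟨a, b, hab⟩ := (((hr.coprime_iff_not_dvd).2 hrq).pow_left (m := n))
  have h1 : pv (tE g) (X ^ 2 - C 4) z = 0 := by rw [← mE_mE, h0, map_zero]
  calc z = pv (tE g) (a * r ^ n + b * (X ^ 2 - C 4)) z := by rw [hab, pv_one]
    _ = 0 := by rw [pv_add, pv_mul, pv_mul, hz, h1, pv_zero, pv_zero, add_zero]

theorem finrank_eig_split (hB : Geom B) {K : Submodule F V} (hK : ND B K) {f : Module.End F V}
    (hfK : ∀ x ∈ K, f x ∈ K)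
    (hfE : ∀ x ∈ LinearMap.BilinForm.orthogonal B K, f x ∈ LinearMap.BilinForm.orthogonal B K)
    (δ : F) : Module.finrank F ↥(eig (⊤ : Submodule F V) f δ) =
      Module.finrank F ↥(eig K f δ) +
        Module.finrank F ↥(eig (LinearMap.BilinForm.orthogonal B K) f δ) := by
  set E := LinearMap.BilinForm.orthogonal B K
  have hc := isCompl_orth hB hK
  have h1 : eig K f δ ⊓ eig E f δ = ⊥ := by
    rw [eq_bot_iff, ← hc.inf_eq_bot]; exact inf_le_inf inf_le_left inf_le_left
  have h2 : eig K f δ ⊔ eig E f δ = eig ⊤ f δ := by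
    refine le_antisymm (sup_le (inf_le_inf le_top le_rfl) (inf_le_inf le_top le_rfl)) fun x hx => ?_
    have hfx := (mem_eig.1 hx).2
    obtain ⟨a, ha, hb⟩ := exists_split hB hK x
    have e : (f a - δ • a) + (f (x - a) - δ • (x - a)) = 0 := by
      rw [map_sub, hfx]; module
    have hm1 : f a - δ • a ∈ K := sub_mem (hfK a ha) (K.smul_mem _ ha)
    have hm2 : f (x - a) - δ • (x - a) ∈ E := sub_mem (hfE _ hb) (E.smul_mem _ hb)
    have h0 : f a - δ • a = 0 := by
      have : f a - δ • a ∈ K ⊓ E := ⟨hm1, by rw [eq_neg_of_add_eq_zero_left e]; exact E.neg_mem hm2⟩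
      rw [hc.inf_eq_bot] at this
      exact this
    rw [h0, zero_add] at e
    refine Submodule.mem_sup.2 ⟨a, mem_eig.2 ⟨ha, sub_eq_zero.1 h0⟩, x - a,
      mem_eig.2 ⟨hb, sub_eq_zero.1 e⟩, by abel⟩
  rw [← h2, ← Submodule.finrank_sup_add_finrank_inf_eq, h1, finrank_bot, add_zero]

/-- The dichotomy. -/
theorem good_or_twist (hB : Geom B) (hg : g ∈ isoUnits B) (hs : PInv B g ⊤ s)
    (hbal : ng (⊤ : Submodule F V) s = ng (⊤ : Submodule F V) (s * (g : Module.End F V)))
    (hodd : Odd (Module.finrank F V)) (h7 : 7 ≤ Module.finrank F V) {ν : F} (hν : ν ≠ 0) :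
    (∃ u, GoodU B g s u ∧ B u u = ν) ∨ Nonempty (Twist B g s) := by
  classical
  set n := Module.finrank F V with hn
  set N := nE g (1 : F) with hN
  by_cases hA : ∃ w, N (N w) = 0 ∧ N w ≠ 0
  · obtain ⟨w, h1, h2⟩ := hA
    exact Or.inl (exists_good_unip hB hg hs h1 h2 ν)
  push Not at hA
  set K := LinearMap.ker N with hK
  have hfix : ∀ x ∈ K, gp g 1 x = x := by
    intro x hx
    rw [← sub_eq_zero]
    simpa [hN, nE] using LinearMap.mem_ker.1 hx
  have hKmem : ∀ x, gp g 1 x = x → x ∈ K := fun x hx => by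
    simp [hK, hN, nE, hx]
  have hpow : ∀ (k : ℕ) (x : V), (N ^ (k + 1)) x = 0 → N x = 0 := by
    intro k
    induction k with
    | zero => intro x hx; simpa using hx
    | succ k ih => intro x hx; exact hA x (ih (N x) (by rwa [pow_succ] at hx))
  have hKeq : (⊤ : Submodule F V) ⊓ LinearMap.ker (N ^ n) = K := by
    ext x
    simp only [Submodule.mem_inf, Submodule.mem_top, true_and, LinearMap.mem_ker, hK]
    constructor
    · intro hx; exact hpow (n - 1) x (by rw [show n - 1 + 1 = n by omega]; exact hx)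
    · intro hx
      rw [show n = n - 1 + 1 by omega, pow_succ, Module.End.mul_apply, hx, map_zero]
  have hKnd : ND B K := hKeq ▸ nd_unip hg (nd_top hB) ginv_top (one_mul 1) le_rfl
  have hKg : GInv g K := fun x hx => by rw [← gp_one, hfix x hx]; exact hx
  have hKs : ∀ x ∈ K, s x ∈ K := by
    intro x hx
    refine hKmem _ ?_
    have h := hs.sgp (-1) x
    rw [neg_neg] at h
    rw [← h]
    congr 1
    conv_lhs => rw [← hfix x hx, gp_apply_add, neg_add_cancel, gp_zero, Module.End.one_apply]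
  by_cases h2 : 2 ≤ Module.finrank F ↥K
  · obtain ⟨u, hu, huu⟩ := exists_value (G := B) (fun x _ y _ => hB.symm x y) hB.two hKnd h2 ν
    refine Or.inl ⟨u, ⟨by rw [hfix u hu], by rw [hfix u hu], by rw [hfix u hu]⟩, huu⟩
  set E := LinearMap.BilinForm.orthogonal B K with hE
  have hEg : GInv g E := by
    intro x hx
    exact (ginv_inf_orth hg (U := ⊤) ginv_top hKg x ⟨trivial, hx⟩).2
  have hEnd : ND B E := by
    intro x hx h
    refine hB.nd x fun y => ?_
    obtain ⟨a, ha, hb⟩ := exists_split hB hKnd y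
    rw [show y = a + (y - a) by abel, map_add, h _ hb, add_zero, hB.symm]
    exact hx a ha
  have hEs : ∀ x ∈ E, s x ∈ E := fun x hx u hu => by
    rw [← hs.sadj]; exact hx _ (hKs u hu)
  have hEK : ∀ x ∈ E, gp g 1 x = x → x = 0 := by
    intro x hx h
    refine hKnd x (hKmem x h) fun y hy => ?_
    rw [hB.symm]; exact hx y hy
  have hEt : ∀ x ∈ E, (s * (g : Module.End F V)) x ∈ E := fun x hx => hEs _ (hEg x hx)
  have hKt : ∀ x ∈ K, (s * (g : Module.End F V)) x ∈ K := fun x hx => hKs _ (hKg x hx)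
  -- eigenspace dimensions on `E`
  set D := Module.finrank F ↥E with hD
  have hKED : Module.finrank F ↥K + D = n := Submodule.finrank_add_eq_of_isCompl (isCompl_orth hB hKnd)
  have hdisj : ∀ δ : F, δ * δ = 1 → Module.finrank F ↥(eig E s δ) +
      Module.finrank F ↥(eig E (s * (g : Module.End F V)) δ) ≤ D := by
    intro δ hδ
    have h1 : eig E s δ ⊓ eig E (s * (g : Module.End F V)) δ = ⊥ := by
      rw [Submodule.eq_bot_iff]
      intro x ⟨hx, hx'⟩
      obtain ⟨hxE, hsx⟩ := mem_eig.1 hx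
      have htx := (mem_eig.1 hx').2
      rw [Module.End.mul_apply, ← gp_one] at htx
      refine hEK x hxE ?_
      have h := congrArg s (htx.trans hsx.symm)
      rwa [hs.ss, hs.ss] at h
    have h3 := Submodule.finrank_sup_add_finrank_inf_eq (eig E s δ)
      (eig E (s * (g : Module.End F V)) δ)
    rw [h1, finrank_bot, add_zero] at h3
    rw [← h3]
    exact Submodule.finrank_mono (sup_le inf_le_left inf_le_left)
  have d1 := hdisj 1 (one_mul 1)
  have d2 := hdisj (-1) (by ring)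
  have n1 := finrank_eig_add (U := E) hB hEs (fun x _ => hs.ss x)
  have n2 := finrank_eig_add (U := E) hB hEt (fun x _ => hs.rev x trivial)
  have s1 := finrank_eig_split hB hKnd hKs hEs (-1 : F)
  have s2 := finrank_eig_split hB hKnd hKt hEt (-1 : F)
  have hKeig : eig K (s * (g : Module.End F V)) (-1) = eig K s (-1) := by
    ext x
    rw [mem_eig, mem_eig]
    constructor <;> rintro ⟨h, h'⟩ <;> refine ⟨h, ?_⟩
    · rwa [Module.End.mul_apply, ← gp_one, hfix x h] at h'
    · rwa [Module.End.mul_apply, ← gp_one, hfix x h]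
  rw [hKeig] at s2
  unfold ng at hbal
  rw [← hD] at n1 n2
  rw [← hE] at s1 s2
  obtain ⟨k, hk⟩ := hodd
  -- the fixed line
  have hK1 : Module.finrank F ↥K = 1 := by omega
  obtain ⟨e0, he0, he0K⟩ : ∃ e0 : V, e0 ≠ 0 ∧ K = F ∙ e0 := by
    obtain ⟨e0, he0, he⟩ := (Submodule.ne_bot_iff K).1 (fun h => by
      rw [h, finrank_bot] at hK1; omega)
    refine ⟨e0, he, (Submodule.eq_of_le_of_finrank_eq ?_ ?_).symm⟩
    · rw [Submodule.span_singleton_le_iff_mem]; exact he0
    · rw [finrank_span_singleton he, hK1]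
  have he0mem : e0 ∈ K := he0K ▸ Submodule.mem_span_singleton_self e0
  obtain ⟨σ, hσe⟩ : ∃ σ : F, σ • e0 = s e0 := by
    have := hKs e0 he0mem
    rw [he0K, Submodule.mem_span_singleton] at this
    exact this
  have hσ : σ * σ = 1 := by
    have h := congrArg s hσe
    rw [hs.ss, map_smul, ← hσe, smul_smul] at h
    nth_rewrite 2 [← one_smul F e0] at h
    exact smul_left_injective F he0 h
  have hb0 : B e0 e0 ≠ 0 := fun h => he0 (hKnd e0 he0mem fun y hy => by
    rw [he0K, Submodule.mem_span_singleton] at hy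
    obtain ⟨c, rfl⟩ := hy
    rw [map_smul, h, smul_zero])
  have h3 : ∀ δ : F, δ * δ = 1 → 3 ≤ Module.finrank F ↥(eig E s δ) := by
    intro δ hδ
    rcases sign_eq hδ with rfl | rfl <;> omega
  -- a vector in `E`, or a twist
  have hx : (∃ x ∈ E, GoodX B g s σ (B e0 e0) x) ∨ Nonempty (Twist B g s) := by
    set N1 := nE g (-1 : F) with hN1
    by_cases hEN : ∀ x ∈ E, pv N1 (X ^ n) x = 0
    · exact Or.inl (exists_goodX_negUnip hB hg hs hEnd hEg hEs hEN h3 hσ _)
    push Not at hEN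
    obtain ⟨x1, hx1, hx1n⟩ := hEN
    set U := E.map (N1 ^ n) with hU
    have hN1mem : ∀ x ∈ E, (N1 ^ n) x ∈ E := fun x hx => by
      rw [← pv_X_pow]; exact OreOmega53.pv_mem (fun _ h => hEg.nE_mem _ h) _ hx
    have hUg : GInv g U := by
      rintro _ ⟨y, hy, rfl⟩
      refine ⟨(g : Module.End F V) y, hEg y hy, ?_⟩
      rw [← gp_one, ← pv_X_pow, ← pvN_gp, pv_X_pow]
    have hUne : U ≠ ⊥ := fun h => hx1n (by
      rw [pv_X_pow]
      exact (Submodule.eq_bot_iff _).1 h _ (Submodule.mem_map_of_mem hx1))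
    have hUker : ∀ x ∈ U, mE g x = 0 → x = 0 := by
      rintro _ ⟨y, hy, rfl⟩ h0
      have h1 := nE_mul (g := g) ((N1 ^ n) y)
      rw [h0, map_zero] at h1
      have h2 : N1 ((N1 ^ n) y) = 0 :=
        hEK _ (hEg.nE_mem _ (hN1mem y hy)) (hfix _ (LinearMap.mem_ker.2 h1))
      refine (fitting N1 (U := ⊤) (n := n) (fun _ _ => trivial) le_rfl).1 y ?_
      have hkill : ∀ z, N1 z = 0 → (N1 ^ n) z = 0 := fun z hz => by
        rw [show n = n - 1 + 1 by omega, pow_succ, Module.End.mul_apply, hz, map_zero]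
      exact hkill _ h2
    obtain ⟨r, hr, hrq, x0, hx0, hx0ne, hrx0⟩ := exists_irr hUg hUne hUker
    have hx0E : x0 ∈ E := by
      obtain ⟨y, hy, rfl⟩ := hx0; exact hN1mem y hy
    set W := E ⊓ LinearMap.ker ((aeval (tE g) r) ^ n) with hW
    have hWnd : ND B W := nd_fitting (R' := aeval (tE g) r) hEnd (fun y hy => hEg.pv_mem r hy)
      (fun a b => (pvT_adj hg r a b).symm) le_rfl (fun _ _ h => h)
    have hWmem : ∀ y, y ∈ W ↔ y ∈ E ∧ pv (tE g) (r ^ n) y = 0 := by
      intro y; simp [W, pv]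
    have hWg : GInv g W := by
      intro y hy
      rw [hWmem] at hy ⊢
      refine ⟨hEg y hy.1, ?_⟩
      rw [← gp_one, ← pv_gp, hy.2, map_zero]
    have hWs : ∀ x ∈ W, s x ∈ W := by
      intro y hy
      rw [hWmem] at hy ⊢
      exact ⟨hEs y hy.1, by rw [← hs.s_pv ginv_top _ trivial, hy.2, map_zero]⟩
    have hWx : x0 ∈ W := by
      refine (hWmem x0).2 ⟨hx0E, ?_⟩
      rw [show r ^ n = r ^ (n - 1) * r by rw [← pow_succ]; congr 1; omega, pv_mul, hrx0, pv_zero]
    obtain ⟨e, he1, he, htop⟩ := exists_exponent (tE g) r (W := W) (n := n)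
      (fun h => hx0ne ((Submodule.eq_bot_iff W).1 h x0 hWx)) (fun z hz => ((hWmem z).1 hz).2)
    by_cases he2 : 2 ≤ e
    · obtain ⟨x, hx, hgood⟩ := exists_goodX_regular hB hg hs hWnd hWg hWs hr hrq he2 he htop hσ
        (B e0 e0)
      exact Or.inl ⟨x, ((hWmem x).1 hx).1, hgood⟩
    · right
      have he' : e = 1 := by omega
      have hne : eig W s (-1) ≠ ⊥ := by
        obtain ⟨δ, v, hδ, hv, hsv, hv0⟩ := exists_eig_ne hB.two hs hWs 1 hWx hx0ne
        intro h
        replace hv0 : v ≠ 0 := hv0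
        rcases sign_eq hδ with rfl | rfl
        · refine hv0 (mE_injective_of_bezout hr hrq ((hWmem v).1 hv).2 ?_)
          refine (Submodule.eq_bot_iff _).1 h _ (mem_eig.2 ⟨hWg.mE_mem hv, ?_⟩)
          rw [hs.s_mE ginv_top trivial, hsv, one_smul, neg_one_smul]
        · exact hv0 ((Submodule.eq_bot_iff _).1 h v (mem_eig.2 ⟨hv, hsv⟩))
      obtain ⟨v, hv, hvv⟩ := exists_aniso (G := B) (fun x _ y _ => hB.symm x y) hB.two
        (nd_eig hB hs hWnd hWs (δ := -1) (by ring)) hne
      obtain ⟨hvW, hsv⟩ := mem_eig.1 hv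
      refine exists_twist hB hg hs hr hrq (v := v) ?_ (by rw [hsv, neg_one_smul]) hvv
      simpa [he'] using he v hvW
  rcases hx with ⟨x, hxE, hgood⟩ | h
  swap
  · exact Or.inr h
  refine Or.inl ?_
  have he0g : gp g 1 e0 = e0 := hfix e0 he0mem
  by_cases hsq : ∃ c : F, c * c = ν / B e0 e0
  · obtain ⟨c, hc⟩ := hsq
    refine ⟨c • e0, ⟨?_, ?_, ?_⟩, ?_⟩
    · rw [map_smul (gp g 1), he0g]
    · rw [map_smul (gp g 1), he0g]
    · rw [map_smul (gp g 1), he0g]
    · rw [map_smul, map_smul, LinearMap.smul_apply, smul_eq_mul, smul_eq_mul, ← mul_assoc, hc,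
        div_mul_cancel₀ _ hb0]
  push Not at hsq
  obtain ⟨α, γ, hαγ⟩ := Reflections.exists_sum_sq hB.two (one_ne_zero (α := F)) one_ne_zero
    (ν / B e0 e0)
  have hα : α ≠ 0 := fun h => hsq γ (by rw [← hαγ, h]; ring)
  have hγ : γ ≠ 0 := fun h => hsq α (by rw [← hαγ, h]; ring)
  have hex : B e0 x = 0 := hxE e0 he0mem
  have hex' : B x e0 = 0 := by rw [hB.symm]; exact hex
  have key : ∀ (f : V →ₗ[F] V), f e0 = σ • e0 → f x ∈ E → f x ≠ σ • x → ∀ τ : F,
      f (α • e0 + γ • x) ≠ τ • (α • e0 + γ • x) := by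
    intro f hf hfE hfx τ h
    rw [map_add, map_smul, map_smul, hf] at h
    have h1 : (α * (σ - τ)) • e0 = γ • (τ • x - f x) := by
      rw [← sub_eq_zero, show (α * (σ - τ)) • e0 - γ • (τ • x - f x) =
        (α • σ • e0 + γ • f x) - τ • (α • e0 + γ • x) by module, h, sub_self]
    have h0 : (α * (σ - τ)) • e0 = 0 := by
      have hm : (α * (σ - τ)) • e0 ∈ K ⊓ E :=
        ⟨K.smul_mem _ he0mem, by rw [h1]; exact E.smul_mem _ (sub_mem (E.smul_mem _ hxE) hfE)⟩
      rw [(isCompl_orth hB hKnd).inf_eq_bot] at hm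
      exact hm
    have hστ : τ = σ :=
      (sub_eq_zero.1 ((mul_eq_zero.1 ((smul_eq_zero.1 h0).resolve_right he0)).resolve_left hα)).symm
    rw [h0, eq_comm, smul_eq_zero, or_iff_right hγ, sub_eq_zero, hστ] at h1
    exact hfx h1.symm
  have hs1 := key s hσe.symm (hEs x hxE) hgood.ns
  have ht1 := key (s * gp g 1) (by rw [Module.End.mul_apply, he0g, hσe])
    (hEs _ (by rw [gp_one]; exact hEg x hxE)) hgood.nt
  simp only [Module.End.mul_apply] at ht1
  have hp1 : s (α • e0 + γ • x) ≠ α • e0 + γ • x := by simpa using hs1 1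
  have hp2 : s (gp g 1 (α • e0 + γ • x)) ≠ α • e0 + γ • x := by simpa using ht1 1
  have hm1 : s (α • e0 + γ • x) ≠ -(α • e0 + γ • x) := by
    rw [← neg_one_smul F]; exact hs1 (-1)
  have hm2 : s (gp g 1 (α • e0 + γ • x)) ≠ -(α • e0 + γ • x) := by
    rw [← neg_one_smul F]; exact ht1 (-1)
  refine ⟨α • e0 + γ • x, ⟨?_, iff_of_false hp1 hp2, iff_of_false hm1 hm2⟩, ?_⟩
  · have e1 : B (s x) e0 = 0 := by rw [hs.sadj, ← hσe, map_smul, hex', smul_zero]
    have e2 : B (s (gp g 1 x)) e0 = 0 := by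
      rw [hs.sadj, ← hσe, map_smul, gp_adj hg]
      have : gp g (-1) e0 = e0 := by
        conv_lhs => rw [← he0g, gp_apply_add, neg_add_cancel, gp_zero, Module.End.one_apply]
      rw [this, hex', smul_zero]
    simp only [map_add, map_smul, LinearMap.add_apply, LinearMap.smul_apply, smul_eq_mul, ← hσe,
      he0g, e1, e2, hex, hgood.val]
  · simp only [map_add, map_smul, LinearMap.add_apply, LinearMap.smul_apply, smul_eq_mul, hex, hex',
      hgood.norm]
    field_simp at hαγ
    linear_combination hαγ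

end Cfsg.Agent.OreOmega53
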