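import Cfsg.Agent.OreOmega53.Conj
import Cfsg.Agent.OreOmega53.Core

/-!
Every element of Omega in odd dimension at least seven is a commutator.
-/

set_option autoImplicit false
set_option linter.unusedSectionVars false

namespace Cfsg.Agent.OreOmega53

open LinearMap (BilinForm)
open QuadraticMap Cfsg.Agent.Reflections Cfsg.Agent.Forms59

variable {ι : Type} [Fintype ι] [DecidableEq ι] {F : Type*} [Field F] [Fintype F] [DecidableEq F]
variable {Q : QuadraticForm F (ι → F)}

theorem mem_omega_iff (h2 : (2 : F) ≠ 0) (hQ : Q.polarBilin.Nondegenerate)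
    (hn : 2 ≤ Fintype.card ι) {ε : F} (hε : ¬ IsSquare ε) (g : ↥(Cfsg.isometryGroup F ⇑Q)) :
    g ∈ Cfsg.Omega F ⇑Q ↔ theta Q ε g = 1 ∧ theta Q 1 g = 1 := by
  rw [omega_eq_ker h2 hQ hn hε, MonoidHom.mem_ker]
  simp only [thetaPair, MonoidHom.prod_apply, Prod.mk_eq_one]
  exact and_comm

/-- An involutory isometry from a linear map. -/
theorem exists_iso_of_pinv (h2 : (2 : F) ≠ 0) {g : ↥(Cfsg.isometryGroup F ⇑Q)}
    {s : Module.End F (ι → F)} (hs : PInv Q.polarBilin (endOf g) ⊤ s) :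
    ∃ h : ↥(Cfsg.isometryGroup F ⇑Q), (∀ x, act h x = s x) ∧ h * h = 1 ∧ (h * g) * (h * g) = 1 := by
  obtain ⟨h, hh⟩ := exists_of_linearEquiv
    (LinearEquiv.ofLinearMap s s (LinearMap.ext hs.ss) (LinearMap.ext hs.ss)) (fun x => by
      have := hs.siso x x
      rw [pb_self, pb_self] at this
      exact mul_left_cancel₀ h2 this)
  have hh' : ∀ x, act h x = s x := hh
  refine ⟨h, hh', isom_ext fun x => ?_, isom_ext fun x => ?_⟩
  · rw [act_mul, hh', hh', hs.ss, act_one]
  · rw [act_mul, act_mul, act_mul, hh', hh', ← endOf_apply g, ← endOf_apply g, hs.rev x trivial,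
      act_one]

theorem finrank_sp {h : ↥(Cfsg.isometryGroup F ⇑Q)} {f : Module.End F (ι → F)}
    (hf : ∀ x, act h x = f x) : Module.finrank F ↥(sp h (-1)) = ng (⊤ : Submodule F (ι → F)) f := by
  have : sp h (-1) = eig (⊤ : Submodule F (ι → F)) f (-1) := by
    ext x
    rw [mem_sp, mem_eig, hf]
    simp
  rw [ng, this]

theorem exists_OB_sp (h2 : (2 : F) ≠ 0) (hQ : Q.polarBilin.Nondegenerate)
    {h : ↥(Cfsg.isometryGroup F ⇑Q)} (hh : h * h = 1) :
    ∃ os, OB Q (sp h (-1)) os ∧ h = reflProd Q os := by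
  obtain ⟨os, hos⟩ := exists_OB h2 (sp_nd hQ h2 hh).2
  refine ⟨os, hos, hos.reflProd_eq hQ h2 (sp_nd hQ h2 hh).2 h (fun x hx => ?_) (fun x hx => ?_)⟩
  · rw [mem_sp.1 hx, neg_one_smul]
  · rw [mem_sp.1 ((sp_perp_iff hQ h2 hh).1 hx), one_smul]

theorem prod_ne_zero' {os : List (ι → F)} (h : ∀ v ∈ os, Q v ≠ 0) :
    (os.map fun v => Q v).prod ≠ 0 := by
  refine List.prod_ne_zero fun h0 => ?_
  obtain ⟨v, hv, e⟩ := List.mem_map.1 h0
  exact h v hv e

theorem neg_one_pow_inj {a b : ℕ} (h : ((-1 : ℤ) ^ a) = (-1) ^ b) : (Even a ↔ Even b) := by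
  constructor <;> intro he
  · rw [he.neg_one_pow] at h
    exact (neg_one_pow_eq_one_iff_even (by decide)).1 h.symm
  · rw [he.neg_one_pow] at h
    exact (neg_one_pow_eq_one_iff_even (by decide)).1 h

/-- The facts about a balanced reversing involution. -/
theorem inv_facts (h2 : (2 : F) ≠ 0) (hQ : Q.polarBilin.Nondegenerate)
    (hn : 7 ≤ Fintype.card ι) {ε : F} (hε : ¬ IsSquare ε) {g : ↥(Cfsg.isometryGroup F ⇑Q)}
    (hg : g ∈ Cfsg.Omega F ⇑Q) {h : ↥(Cfsg.isometryGroup F ⇑Q)} (hh : h * h = 1)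
    (ht : (h * g) * (h * g) = 1)
    (hb1 : Module.finrank F ↥(sp h (-1)) ≤ Module.finrank F ↥(sp (h * g) (-1)) + 1)
    (hb2 : Module.finrank F ↥(sp (h * g) (-1)) ≤ Module.finrank F ↥(sp h (-1)) + 1) :
    Module.finrank F ↥(sp h (-1)) = Module.finrank F ↥(sp (h * g) (-1)) ∧
      ∃ os os', OB Q (sp h (-1)) os ∧ OB Q (sp (h * g) (-1)) os' ∧
        h = reflProd Q os ∧
        quadraticChar F (os.map fun v => Q v).prod = quadraticChar F (os'.map fun v => Q v).prod := by
  obtain ⟨g1, g2⟩ := (mem_omega_iff h2 hQ (by omega) hε g).1 hg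
  obtain ⟨os, hos, he⟩ := exists_OB_sp h2 hQ hh
  obtain ⟨os', hos', he'⟩ := exists_OB_sp h2 hQ ht
  obtain ⟨a1, a2⟩ := hos.theta_eps h2 hε
  obtain ⟨b1, b2⟩ := hos'.theta_eps h2 hε
  rw [← he] at a1 a2
  rw [← he', map_mul, g1, mul_one, a1] at b1
  rw [← he', map_mul, g2, mul_one, a2, ← b1] at b2
  have hne : quadraticChar F (os.map fun v => Q v).prod ≠ 0 := by
    rw [ne_eq, quadraticChar_eq_zero_iff]; exact prod_ne_zero' hos.ne
  have hpar := neg_one_pow_inj (mul_right_cancel₀ hne b2)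
  rw [Nat.even_iff, Nat.even_iff] at hpar
  exact ⟨by omega, os, os', hos, hos', he, b1⟩

/-- Assembling the commutator. -/
theorem finish (h2 : (2 : F) ≠ 0) (hQ : Q.polarBilin.Nondegenerate) (hn : 7 ≤ Fintype.card ι)
    {ε : F} (hε : ¬ IsSquare ε) {g : ↥(Cfsg.isometryGroup F ⇑Q)} (hg : g ∈ Cfsg.Omega F ⇑Q)
    {h : ↥(Cfsg.isometryGroup F ⇑Q)} (hh : h * h = 1) (ht : (h * g) * (h * g) = 1)
    (hb : Module.finrank F ↥(sp h (-1)) = Module.finrank F ↥(sp (h * g) (-1)))
    {u : ι → F} (hval : Q.polarBilin (act h u) u = Q.polarBilin (act (h * g) u) u)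
    (hp : act h u = u ↔ act (h * g) u = u) (hm : act h u = -u ↔ act (h * g) u = -u)
    {z : ↥(Cfsg.isometryGroup F ⇑Q)}
    (hz : ∀ a : ↥(Cfsg.isometryGroup F ⇑Q), act a u = u → a * z = z * a)
    (hhz : h * z ∈ Cfsg.Omega F ⇑Q) :
    ∃ y a : ↥(Cfsg.isometryGroup F ⇑Q), y ∈ Cfsg.Omega F ⇑Q ∧ a ∈ Cfsg.Omega F ⇑Q ∧
      g = y * a * y⁻¹ * a⁻¹ := by
  obtain ⟨-, os, os', hos, hos', -, hcl⟩ := inv_facts h2 hQ hn hε hg hh ht (by omega) (by omega)
  obtain ⟨a, ha, hau, haconj⟩ := exists_conj hQ h2 hn hh ht hb hos hos' hcl hval hp hm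
  refine ⟨h * z, a, hhz, ha, ?_⟩
  have hinv : h⁻¹ = h := inv_eq_of_mul_eq_one_right hh
  have e1 : z * a * z⁻¹ = a := by rw [← hz a hau]; group
  have e2 : h * z * a * (h * z)⁻¹ * a⁻¹ = h * (z * a * z⁻¹) * h⁻¹ * a⁻¹ := by group
  have e3 : h * a * h * a⁻¹ = h * (a * h * a⁻¹) := by group
  rw [e2, e1, hinv, e3, haconj, ← mul_assoc, hh, one_mul]

/-- The main statement. -/
theorem omega_commutator (h2 : (2 : F) ≠ 0) (hQ : Q.polarBilin.Nondegenerate)
    (hn : 7 ≤ Fintype.card ι) (hodd : Odd (Fintype.card ι))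
    {g : ↥(Cfsg.isometryGroup F ⇑Q)} (hg : g ∈ Cfsg.Omega F ⇑Q) :
    ∃ y a : ↥(Cfsg.isometryGroup F ⇑Q), y ∈ Cfsg.Omega F ⇑Q ∧ a ∈ Cfsg.Omega F ⇑Q ∧
      g = y * a * y⁻¹ * a⁻¹ := by
  have hB := geom_of h2 hQ
  obtain ⟨ε, hε0, hε⟩ := exists_nonsquare_scalar (F := F) h2
  have hgi := endOf_mem g
  obtain ⟨s0, hs0, hb0⟩ := exists_bal hB hgi ⊤ ginv_top (nd_top hB)
  set N := Fintype.card ι with hN
  have htop : Module.finrank F ↥(⊤ : Submodule F (ι → F)) = N := by
    rw [finrank_top, Module.finrank_fintype_fun_eq_card]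
  -- balanced, exactly
  have exact_bal : ∀ s : Module.End F (ι → F), PInv Q.polarBilin (endOf g) ⊤ s →
      Bal (endOf g) ⊤ s → ng ⊤ s = ng ⊤ (s * (endOf g : Module.End F (ι → F))) := by
    intro s hs hb
    obtain ⟨h, hh, hh1, ht1⟩ := exists_iso_of_pinv h2 hs
    have e1 := finrank_sp hh
    have e2 := finrank_sp (h := h * g) (f := s * (endOf g : Module.End F (ι → F))) fun x => by
      rw [act_mul, hh, Module.End.mul_apply, endOf_apply]
    unfold Bal at hb
    rw [← e1, ← e2] at hb ⊢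
    exact (inv_facts h2 hQ hn hε hg hh1 ht1 hb.1 hb.2).1
  have hbal0 := exact_bal s0 hs0 hb0
  obtain ⟨s1, hs1, hbal1, hev⟩ : ∃ s, PInv Q.polarBilin (endOf g) ⊤ s ∧
      ng ⊤ s = ng ⊤ (s * (endOf g : Module.End F (ι → F))) ∧ Even (ng ⊤ s) := by
    by_cases hev : Even (ng ⊤ s0)
    · exact ⟨s0, hs0, hbal0, hev⟩
    · have n1 := ng_neg_add hB hs0.maps hs0.sq
      have n2 := ng_neg_add hB (hs0.tmaps ginv_top) hs0.tsq
      rw [show -(s0 * (endOf g : Module.End F (ι → F))) = -s0 * (endOf g : Module.End F (ι → F))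
        from LinearMap.ext fun x => by simp] at n2
      rw [htop] at n1 n2
      obtain ⟨k, hk⟩ := hodd
      rw [Nat.even_iff] at hev
      refine ⟨-s0, hs0.neg, by omega, ?_⟩
      rw [Nat.even_iff]
      omega
  obtain ⟨h, hh, hh1, ht1⟩ := exists_iso_of_pinv h2 hs1
  have hth : ∀ x, act (h * g) x = (s1 * (endOf g : Module.End F (ι → F))) x := fun x => by
    rw [act_mul, hh, Module.End.mul_apply, endOf_apply]
  have e1 := finrank_sp hh
  have e2 := finrank_sp hth
  have hdim : Module.finrank F ↥(sp h (-1)) = Module.finrank F ↥(sp (h * g) (-1)) := by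
    rw [e1, e2, hbal1]
  obtain ⟨os, hos, he⟩ := exists_OB_sp h2 hQ hh1
  obtain ⟨a1, a2⟩ := hos.theta_eps h2 hε
  rw [← he, e1, hev.neg_one_pow, one_mul] at a2
  rw [← he] at a1
  rcases quadraticChar_dichotomy (prod_ne_zero' hos.ne) with hd | hd
  · -- `s` is in Omega
    refine finish h2 hQ hn hε hg hh1 ht1 hdim (u := 0) (by simp) (by simp [act_zero])
      (by simp [act_zero]) (z := 1) (fun a _ => by simp) ?_
    rw [mul_one, mem_omega_iff h2 hQ (by omega) hε]
    exact ⟨Units.ext (by rw [a1, hd]; rfl), Units.ext (by rw [a2, hd]; rfl)⟩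
  -- the central involution
  obtain ⟨es, hes⟩ := exists_OB h2 (nd_top hB)
  set negI := reflProd Q es with hnegI
  obtain ⟨c1, c2⟩ := hes.theta_eps h2 hε
  rw [htop, hodd.neg_one_pow] at c2
  set dv := quadraticChar F (es.map fun v => Q v).prod with hdv
  obtain ⟨q0, hq0, hq0χ⟩ : ∃ q0 : F, q0 ≠ 0 ∧ quadraticChar F q0 = -dv := by
    rcases quadraticChar_dichotomy (prod_ne_zero' hes.ne) with hd' | hd'
    · exact ⟨ε, hε0, by rw [quadraticChar_neg_one_iff_not_isSquare.2 hε, hdv, hd']⟩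
    · exact ⟨1, one_ne_zero, by rw [map_one, hdv, hd', neg_neg]⟩
  rcases good_or_twist hB hgi hs1 hbal1 (by rw [Module.finrank_fintype_fun_eq_card]; exact hodd)
      (by rw [Module.finrank_fintype_fun_eq_card]; exact hn) (ν := 2 * q0) (mul_ne_zero h2 hq0) with
    ⟨u, hu, huu⟩ | ⟨tw⟩
  · have hQu : Q u = q0 := by rw [pb_self] at huu; exact mul_left_cancel₀ h2 huu
    have hQu0 : Q u ≠ 0 := hQu ▸ hq0
    have hht : ∀ x, act (h * g) x = s1 (gp (endOf g) 1 x) := fun x => by
      rw [act_mul, hh, gp_one_endOf]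
    refine finish h2 hQ hn hε hg hh1 ht1 hdim (u := u) (z := negI * refl Q u) ?_ ?_ ?_ ?_ ?_
    · rw [hh, hht]; exact hu.val
    · rw [hh, hht]; exact hu.plus
    · rw [hh, hht]; exact hu.minus
    · intro a hau
      have hneg : ∀ y, act negI y = -y := fun y => hes.neg y trivial
      refine isom_ext fun x => ?_
      have e : polar ⇑Q u (act a x) = polar ⇑Q u x := by
        conv_lhs => rw [← hau, act_polar]
      simp only [act_mul, hneg, act_refl hQu0, e, act_neg, act_sub, act_smul, hau]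
    · obtain ⟨r1, r2⟩ := theta_reflProd h2 hε [u] (by simpa using hQu0)
      rw [show reflProd Q [u] = refl Q u by simp [reflProd]] at r1 r2
      simp only [List.map_cons, List.map_nil, List.prod_cons, List.prod_nil, mul_one,
        List.length_singleton, pow_one, hQu, hq0χ] at r1 r2
      have hdv2 : dv * dv = 1 := by
        rw [hdv, ← pow_two, quadraticChar_sq_one (prod_ne_zero' hes.ne)]
      rw [mem_omega_iff h2 hQ (by omega) hε]
      constructor <;> refine Units.ext ?_ <;>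
        simp only [map_mul, Units.val_mul, Units.val_one, hnegI, a1, a2, hd, c1, c2, r1, r2]
      · linear_combination hdv2
      · linear_combination hdv2
  -- the twist
  obtain ⟨K, P, hKg, hadj, hsP, hmaps, hdet⟩ := tw
  have hKi : ∀ x, (↑K⁻¹ : Module.End F (ι → F)) ((K : Module.End F (ι → F)) x) = x := fun x => by
    rw [← Module.End.mul_apply, Units.inv_mul]; rfl
  have hKi' : ∀ x, (K : Module.End F (ι → F)) ((↑K⁻¹ : Module.End F (ι → F)) x) = x := fun x => by
    rw [← Module.End.mul_apply, Units.mul_inv]; rfl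
  have hKg' : ∀ x, (↑K⁻¹ : Module.End F (ι → F)) ((endOf g : Module.End F (ι → F)) x) =
      (endOf g : Module.End F (ι → F)) ((↑K⁻¹ : Module.End F (ι → F)) x) := fun x =>
    LinearMap.congr_fun (hKg.units_inv_left).eq x
  set s2 : Module.End F (ι → F) := (K : Module.End F (ι → F)) * s1 * ↑K⁻¹ with hs2def
  have hs2app : ∀ x, s2 x = (K : Module.End F (ι → F)) (s1 ((↑K⁻¹ : Module.End F (ι → F)) x)) :=
    fun x => rfl
  have hs2 : PInv Q.polarBilin (endOf g) ⊤ s2 := by
    refine ⟨fun _ _ => trivial, fun x _ => ?_, fun x _ y _ => ?_, fun x _ => ?_⟩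
    · rw [hs2app, hs2app, hKi, hs1.ss, hKi']
    · rw [hs2app, hs2app, hadj, ← hsP, hs1.siso, ← hadj, hKi', hKi']
    · simp only [hs2app, hKg', hKi]
      rw [hs1.rev _ trivial, hKi']
  have heig : ∀ f f' : Module.End F (ι → F),
      (∀ x, f' x = (K : Module.End F (ι → F)) (f ((↑K⁻¹ : Module.End F (ι → F)) x))) →
      ng (⊤ : Submodule F (ι → F)) f' = ng (⊤ : Submodule F (ι → F)) f := by
    intro f f' hff
    have e : eig (⊤ : Submodule F (ι → F)) f' (-1) =
        (eig (⊤ : Submodule F (ι → F)) f (-1)).map (K : Module.End F (ι → F)) := by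
      ext x
      rw [mem_eig, Submodule.mem_map]
      constructor
      · rintro ⟨-, hx⟩
        refine ⟨(↑K⁻¹ : Module.End F (ι → F)) x, mem_eig.2 ⟨trivial, ?_⟩, hKi' x⟩
        have h1 := congrArg (↑K⁻¹ : Module.End F (ι → F)) hx
        rwa [hff, hKi, map_smul] at h1
      · rintro ⟨y, hy, rfl⟩
        refine ⟨trivial, ?_⟩
        rw [hff, hKi, (mem_eig.1 hy).2, map_smul]
    rw [ng, ng, e]
    exact (Submodule.equivMapOfInjective _ (Function.LeftInverse.injective hKi) _).finrank_eq.symm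
  have m1 := heig s1 s2 hs2app
  have m2 := heig (s1 * (endOf g : Module.End F (ι → F))) (s2 * (endOf g : Module.End F (ι → F)))
    (fun x => by
      show s2 ((endOf g : Module.End F (ι → F)) x) = (K : Module.End F (ι → F))
        (s1 ((endOf g : Module.End F (ι → F)) ((↑K⁻¹ : Module.End F (ι → F)) x)))
      rw [hs2app, hKg'])
  obtain ⟨h', hh', hh'1, ht'1⟩ := exists_iso_of_pinv h2 hs2
  have e1' := finrank_sp hh'
  have e2' := finrank_sp (h := h' * g) (f := s2 * (endOf g : Module.End F (ι → F))) fun x => by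
    rw [act_mul, hh']; rfl
  have hdim' : Module.finrank F ↥(sp h' (-1)) = Module.finrank F ↥(sp (h' * g) (-1)) := by
    rw [e1', e2', m1, m2, hbal1]
  obtain ⟨os', hos', he'⟩ := exists_OB_sp h2 hQ hh'1
  have hlen : os'.length = os.length := by rw [hos'.len, hos.len, e1', m1, e1]
  -- Gram determinants
  have hS : sp h (-1) = eig (⊤ : Submodule F (ι → F)) s1 (-1) := by
    ext x; rw [mem_sp, mem_eig, hh]; simp
  have hoS : ∀ i : Fin os.length, os.get i ∈ eig (⊤ : Submodule F (ι → F)) s1 (-1) := fun i =>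
    hS ▸ hos.mem _ (List.get_mem os i)
  have hwS : ∀ i : Fin os'.length,
      (K : Module.End F (ι → F)) (os.get (Fin.cast hlen i)) ∈ sp h' (-1) := fun i => by
    rw [mem_sp, hh', hs2app, hKi, (mem_eig.1 (hoS _)).2, map_smul]
  obtain ⟨c, hc⟩ := gram_det_sq h2 hos' _ hwS
  have hmat : (Matrix.of fun i j : Fin os'.length =>
      Q.polarBilin ((K : Module.End F (ι → F)) (os.get (Fin.cast hlen i)))
        ((K : Module.End F (ι → F)) (os.get (Fin.cast hlen j)))).det =
      (Matrix.of fun i j : Fin os.length => Q.polarBilin (os.get i) (P (os.get j))).det := by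
    rw [← Matrix.det_submatrix_equiv_self (finCongr hlen)]
    congr 1
    ext i j
    simp [hadj]
  let o : Fin os.length → ↥(eig (⊤ : Submodule F (ι → F)) s1 (-1)) := fun i => ⟨os.get i, hoS i⟩
  have hoi : LinearIndependent F o :=
    LinearIndependent.of_comp (eig (⊤ : Submodule F (ι → F)) s1 (-1)).subtype (hos.indep h2)
  have hoc : Fintype.card (Fin os.length) =
      Module.finrank F ↥(eig (⊤ : Submodule F (ι → F)) s1 (-1)) := by
    rw [Fintype.card_fin, hos.len, hS]
  have hzero : os.length ≠ 0 := fun h0 => by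
    have h1 := List.length_eq_zero_iff.1 h0
    rw [h1, List.map_nil, List.prod_nil, map_one] at hd
    exact absurd hd (by decide)
  haveI : Nonempty (Fin os.length) := ⟨⟨0, Nat.pos_of_ne_zero hzero⟩⟩
  let b := basisOfLinearIndependentOfCardEqFinrank hoi hoc
  have hbv : ∀ k, ((b k : ↥(eig (⊤ : Submodule F (ι → F)) s1 (-1))) : ι → F) = os.get k := fun k => by
    simp [b, o]
  have hgram : (Matrix.of fun i j : Fin os.length => Q.polarBilin (os.get i) (P (os.get j))) =
      Matrix.diagonal (fun i => 2 * Q (os.get i)) *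
        LinearMap.toMatrix b b (P.restrict hmaps) := by
    ext i j
    rw [Matrix.of_apply, Matrix.diagonal_mul, LinearMap.toMatrix_apply]
    have h1 : P (os.get j) = ∑ k, b.repr (P.restrict hmaps (b j)) k • os.get k := by
      have := congrArg (Submodule.subtype _) (b.sum_repr (P.restrict hmaps (b j)))
      rw [map_sum] at this
      simp only [map_smul, Submodule.subtype_apply, hbv] at this
      rw [this, LinearMap.restrict_coe_apply, hbv]
    rw [h1, map_sum, Finset.sum_eq_single i]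
    · rw [map_smul, pb_self, smul_eq_mul]; ring
    · intro k _ hki
      rw [map_smul]
      rcases lt_or_gt_of_ne hki with hlt | hlt
      · rw [hB.symm, show Q.polarBilin (os.get k) (os.get i) = 0 from
          List.pairwise_iff_get.1 hos.perp k i hlt, smul_zero]
      · rw [show Q.polarBilin (os.get i) (os.get k) = 0 from
          List.pairwise_iff_get.1 hos.perp i k hlt, smul_zero]
    · simp
  have hprod : ∏ k, Q (os.get k) = (os.map fun v => Q v).prod := by
    rw [← List.prod_ofFn]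
    congr 1
    exact List.ext_getElem (by simp) fun i _ _ => by simp
  rw [hmat, hgram, Matrix.det_mul, Matrix.det_diagonal, LinearMap.det_toMatrix,
    Finset.prod_mul_distrib, Finset.prod_const, Finset.card_univ, Fintype.card_fin, hprod, hlen]
    at hc
  have hdet0 : LinearMap.det (P.restrict hmaps) ≠ 0 := fun h0 => hdet (h0 ▸ IsSquare.zero)
  have hχ := congrArg (quadraticChar F) hc
  have hlne : quadraticChar F ((2 : F) ^ os.length) ≠ 0 := by
    rw [ne_eq, quadraticChar_eq_zero_iff]; exact pow_ne_zero _ h2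
  have hc0 : c ≠ 0 := fun h0 => by
    rw [h0, zero_mul, zero_mul] at hc
    exact mul_ne_zero (mul_ne_zero (pow_ne_zero _ h2) (prod_ne_zero' hos.ne)) hdet0 hc
  simp only [map_mul, hd, quadraticChar_neg_one_iff_not_isSquare.2 hdet] at hχ
  rw [← pow_two (quadraticChar F c), quadraticChar_sq_one hc0, one_mul] at hχ
  have hd' : quadraticChar F (os'.map fun v => Q v).prod = 1 := by
    refine mul_left_cancel₀ hlne ?_
    rw [mul_one]
    linear_combination -hχ
  obtain ⟨a1', a2'⟩ := hos'.theta_eps h2 hε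
  rw [← he', e1', m1, hev.neg_one_pow, one_mul] at a2'
  rw [← he'] at a1'
  refine finish h2 hQ hn hε hg hh'1 ht'1 hdim' (u := 0) (by simp) (by simp [act_zero])
    (by simp [act_zero]) (z := 1) (fun a _ => by simp) ?_
  rw [mul_one, mem_omega_iff h2 hQ (by omega) hε]
  exact ⟨Units.ext (by rw [a1', hd']; rfl), Units.ext (by rw [a2', hd']; rfl)⟩

end Cfsg.Agent.OreOmega53
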