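import Cfsg.Agent.OreOmega53.Semi

/-!
The required vector when the complement of a fixed line is unipotent for the sign `-1`.
-/

set_option autoImplicit false
set_option linter.unusedSectionVars false

namespace Cfsg.Agent.OreOmega53

open LinearMap (BilinForm)
open Polynomial

variable {F V : Type*} [Field F] [AddCommGroup V] [Module F V] [FiniteDimensional F V]
variable {B : BilinForm F V} {g : (Module.End F V)ˣ} {s : Module.End F V}

theorem sign_eq {δ : F} (hδ : δ * δ = 1) : δ = 1 ∨ δ = -1 := mul_self_eq_one_iff.1 hδ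

theorem nd_eig (hB : Geom B) (hs : PInv B g ⊤ s) {W : Submodule F V} (hWnd : ND B W)
    (hWs : ∀ x ∈ W, s x ∈ W) {δ : F} (hδ : δ * δ = 1) : ND B (eig W s δ) := by
  intro x hx h
  obtain ⟨hxW, hsx⟩ := mem_eig.1 hx
  refine hWnd x hxW fun y hy => ?_
  obtain ⟨a, c, ha, hc, hsa, hsc, rfl⟩ := eig_split hB.two hs hWs hy
  rw [map_add]
  rcases sign_eq hδ with rfl | rfl
  · rw [h a (mem_eig.2 ⟨ha, by rw [hsa, one_smul]⟩),
      eig_perp hB hs (one_mul 1) hsx (by rw [hsc, one_smul]), add_zero]
  · rw [h c (mem_eig.2 ⟨hc, by rw [hsc, neg_one_smul]⟩),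
      eig_perp hB hs (δ := -1) (by ring) hsx (by rw [hsa, neg_one_smul, neg_neg]), add_zero]

variable [Fintype F]

/-- The vector required in the negative unipotent case. -/
theorem exists_goodX_negUnip (hB : Geom B) (hg : g ∈ isoUnits B) (hs : PInv B g ⊤ s)
    {E : Submodule F V} (hEnd : ND B E) (hEg : GInv g E) (hEs : ∀ x ∈ E, s x ∈ E)
    (hEN : ∀ x ∈ E, pv (nE g (-1 : F)) (X ^ (Module.finrank F V)) x = 0)
    (hdim : ∀ δ : F, δ * δ = 1 → 3 ≤ Module.finrank F ↥(eig E s δ))
    {σ : F} (hσ : σ * σ = 1) (b0 : F) : ∃ x ∈ E, GoodX B g s σ b0 x := by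
  classical
  set n := Module.finrank F V with hn
  set N := nE g (-1 : F) with hN
  have hm1 : (-1 : F) * (-1) = 1 := by ring
  have hgN : ∀ w : V, gp g 1 w = N w - w := by
    intro w
    simp [hN, nE]
  -- the bottom vector
  obtain ⟨δ, y, hδ, hyE, hyne, hgy, hsy, hyy⟩ : ∃ (δ : F) (y : V), δ * δ = 1 ∧ y ∈ E ∧ y ≠ 0 ∧
      gp g 1 y = -y ∧ s y = δ • y ∧ B y y = 0 := by
    by_cases hN0 : ∀ x ∈ E, N x = 0
    · obtain ⟨y, hy, hy0, hyy⟩ := exists_isotropic (G := B) (fun x _ z _ => hB.symm x z) hB.two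
        (nd_eig hB hs hEnd hEs (one_mul 1)) (hdim 1 (one_mul 1))
      obtain ⟨hyE, hsy⟩ := mem_eig.1 hy
      exact ⟨1, y, one_mul 1, hyE, hy0, by rw [hgN, hN0 y hyE, zero_sub], hsy, hyy⟩
    · push Not at hN0
      obtain ⟨x0, hx0, hNx0⟩ := hN0
      have hEne : E ≠ ⊥ := fun h => hNx0 (by rw [(Submodule.eq_bot_iff _).1 h x0 hx0, map_zero])
      obtain ⟨e, -, he, x1, hx1, htop1⟩ := exists_exponent N X (W := E) (n := n) hEne hEN
      have he2 : 2 ≤ e := by
        by_contra hlt
        have := he x0 hx0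
        rcases Nat.eq_zero_or_pos e with h0 | h0
        · rw [h0, pow_zero, pv_one] at this; exact hNx0 (by rw [this, map_zero])
        · rw [show e = 1 by omega, pow_one, pv_X] at this; exact hNx0 this
      obtain ⟨δ, v, hδ, hvE, hsv, htop⟩ := exists_eig_ne hB.two hs hEs
        (aeval N (X ^ (e - 1) : F[X])) hx1 htop1
      obtain ⟨y, hy, hvy, hgy, hsy, hyy⟩ :=
        exists_bottom hB hg hs hEnd hEg hEs hm1 he2 he hδ hvE hsv htop
      exact ⟨δ, y, hδ, hy, fun h => hvy (by rw [h, map_zero]), by rw [hgy, neg_one_smul], hsy, hyy⟩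
  obtain ⟨v, hv, hyv⟩ : ∃ v ∈ eig E s δ, B y v ≠ 0 := by
    by_contra hc
    push Not at hc
    exact hyne (nd_eig hB hs hEnd hEs hδ y (mem_eig.2 ⟨hyE, hsy⟩) hc)
  obtain ⟨hvE, hsv⟩ := mem_eig.1 hv
  have hδ' : (-δ) * (-δ) = 1 := by rw [neg_mul_neg, hδ]
  set S := eig E s (-δ) with hS
  have hSmem : ∀ z ∈ S, z ∈ E ∧ s z = -(δ • z) := fun z hz => by
    obtain ⟨h1, h2⟩ := mem_eig.1 hz
    exact ⟨h1, by rw [h2, neg_smul]⟩
  let D : V →ₗ[F] V := s - s * gp g 1
  have hDsym : ∀ a c, B (D a) c = B (D c) a := by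
    intro a c
    simp only [D, LinearMap.sub_apply, Module.End.mul_apply, map_sub]
    have h1 : B (s a) c = B (s c) a := by rw [hs.sadj, hB.symm]
    have h2 : B (s (gp g 1 a)) c = B (s (gp g 1 c)) a := by
      rw [hs.sadj, gp_adj hg, ← hs.sgp, hB.symm]
    rw [h1, h2]
  let G : BilinForm F V := B - (δ / 2) • (B.comp D LinearMap.id)
  have hG : ∀ a c, G a c = B a c - δ / 2 * B (D a) c := by
    intro a c; simp [G]
  have hGsym : ∀ a c, G a c = G c a := fun a c => by rw [hG, hG, hDsym, hB.symm a c]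
  have hDS : ∀ z ∈ S, ∀ c ∈ S, G z c = 2 * B z c - 2⁻¹ * B (N z) c := by
    intro z hz c hc
    have hsz := (hSmem z hz).2
    have hsc := (hSmem c hc).2
    have h1 : B (s (gp g 1 z)) c = -δ * B (N z) c + δ * B z c := by
      rw [hs.sadj, hsc, map_neg, map_smul, smul_eq_mul, hgN, map_sub, LinearMap.sub_apply]
      ring
    have h2 : B (s z) c = -δ * B z c := by
      rw [hsz, map_neg, map_smul, LinearMap.neg_apply, LinearMap.smul_apply, smul_eq_mul]; ring
    rw [hG]
    simp only [D, LinearMap.sub_apply, Module.End.mul_apply, map_sub, h1, h2]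
    have := hB.two
    field_simp
    linear_combination (2 * B z c - B (N z) c) * hδ
  have hSG : ND G S := by
    intro z hz h
    obtain ⟨hzE, hsz⟩ := hSmem z hz
    set w := (4 : F) • z - N z with hw
    have hwE : w ∈ E := sub_mem (E.smul_mem _ hzE) (hEg.nE_mem _ hzE)
    have hwperp : ∀ c ∈ S, B w c = 0 := fun c hc => by
      have h1 := h c hc
      rw [hDS z hz c hc] at h1
      have := hB.two
      rw [hw, map_sub, map_smul, LinearMap.sub_apply, LinearMap.smul_apply, smul_eq_mul]
      field_simp at h1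
      linear_combination h1
    have hproj : w - δ • s w = 0 := by
      refine hEnd _ (sub_mem hwE (E.smul_mem _ (hEs _ hwE))) fun c hc => ?_
      obtain ⟨a, b, ha, hb, hsa, hsb, rfl⟩ := eig_split hB.two hs hEs hc
      rw [map_sub, LinearMap.sub_apply, map_smul, LinearMap.smul_apply, smul_eq_mul, map_add,
        map_add, hs.sadj w a, hs.sadj w b, hsa, hsb, map_neg]
      rcases sign_eq hδ with rfl | rfl
      · have hbS : b ∈ S := mem_eig.2 ⟨hb, by rw [hsb, neg_one_smul]⟩
        rw [hwperp b hbS]; ring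
      · have haS : a ∈ S := mem_eig.2 ⟨ha, by rw [hsa, neg_neg, one_smul]⟩
        rw [hwperp a haS]; ring
    have hind : ∀ k, ∃ u ∈ E, z = pv N (X ^ k) u := by
      intro k
      induction k with
      | zero => exact ⟨z, hzE, by simp⟩
      | succ k ih =>
        obtain ⟨u, hu, hzu⟩ := ih
        have h8 : (8 : F) ≠ 0 := by
          rw [show (8 : F) = 2 * 2 * 2 by norm_num]
          exact mul_ne_zero (mul_ne_zero hB.two hB.two) hB.two
        have he1 : (8 : F) • z = N z - δ • s (N z) := by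
          have : w - δ • s w = (8 : F) • z - (N z - δ • s (N z)) := by
            rw [hw, map_sub, map_smul, hsz]
            have e : δ • (4 : F) • -(δ • z) = -((4 : F) • (δ * δ) • z) := by module
            rw [smul_sub, e, hδ, one_smul]
            module
          rw [hproj] at this
          exact (sub_eq_zero.1 this.symm)
        have e2 : ∀ (m : ℕ) (x : V), ∃ c : F, pv (nE' g (-1 : F)) (X ^ m) x =
            pv N (X ^ m) (c • gp g (-(m : ℤ)) x) := by
          intro m x
          refine ⟨(1 : F) ^ m, ?_⟩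
          rw [pv_smul, ← pvN_gp, pv_X_pow, pv_X_pow, nE'_eq hm1, _root_.smul_pow,
            (gp_commute_nE (g := g) (-1) (-1 : F)).mul_pow, LinearMap.smul_apply,
            Module.End.mul_apply, neg_neg]
          congr 1
          rw [show (gp g (-1) ^ m) = gp g (-(m : ℤ)) by
            simp [gp, ← Units.val_pow_eq_pow_val, ← inv_pow]]
        obtain ⟨c, hc⟩ := e2 (k + 1) (s u)
        refine ⟨(8 : F)⁻¹ • (u - δ • c • gp g (-((k + 1 : ℕ) : ℤ)) (s u)),
          E.smul_mem _ (sub_mem hu (E.smul_mem _ (E.smul_mem _ (hEg.gp_mem _ (hEs u hu))))), ?_⟩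
        rw [pv_smul, pv_vsub, pv_smul, ← hc, ← hs.s_pvN, pow_succ', pv_mul, pv_X, ← hzu, ← he1,
          smul_smul, inv_mul_cancel₀ h8, one_smul]
    obtain ⟨u, hu, hzu⟩ := hind n
    rw [hzu]; exact hEN u hu
  -- the affine quadric
  let ℓ : V →ₗ[F] F := (2 : F) • G v
  obtain ⟨z1, hz1, z2, hz2, hne, hq1, hq2⟩ := exists_two_solutions (G := G) (S := S)
    (fun a _ c _ => hGsym a c) hB.two hSG (hdim _ hδ') ℓ (b0 - G v v)
  have hty : s (gp g 1 y) = -(δ • y) := by rw [hgy, map_neg, hsy]
  have hBvy : B v y ≠ 0 := by rw [hB.symm]; exact hyv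
  let γ : V → F := fun z => -B (D (v + z)) (v + z) / (4 * δ * B v y)
  let xz : V → V := fun z => v + z + γ z • y
  have hδ0 : δ ≠ 0 := fun h => by rw [h, mul_zero] at hδ; exact zero_ne_one hδ
  have h4 : (4 : F) ≠ 0 := by
    rw [show (4 : F) = 2 * 2 by norm_num]; exact mul_ne_zero hB.two hB.two
  have hDy : D y = (2 * δ) • y := by
    simp only [D, LinearMap.sub_apply, Module.End.mul_apply, hty, hsy, two_mul, add_smul]
    abel
  have hval : ∀ z ∈ S, G z z + ℓ z = b0 - G v v →
      B (s (xz z)) (xz z) = B (s (gp g 1 (xz z))) (xz z) ∧ B (xz z) (xz z) = b0 := by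
    intro z hz hqz
    have hyz : B y z = 0 := eig_perp hB hs hδ hsy (hSmem z hz).2
    have hw : B (v + z) y = B v y := by
      rw [map_add, LinearMap.add_apply, hB.symm z y, hyz, add_zero]
    have expand : ∀ (f : BilinForm F V) (p r : V) (c : F),
        f (p + c • r) (p + c • r) = f p p + c * f p r + c * f r p + c * c * f r r := by
      intro f p r c
      simp only [map_add, map_smul, LinearMap.add_apply, LinearMap.smul_apply, smul_eq_mul]
      ring
    have hDxz : B (D (xz z)) (xz z) = 0 := by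
      have h := expand (B.comp D LinearMap.id) (v + z) y (γ z)
      simp only [LinearMap.BilinForm.comp_apply, LinearMap.id_apply] at h
      have e1 : B (D (v + z)) y = 2 * δ * B v y := by
        rw [hDsym, hDy, map_smul, LinearMap.smul_apply, hB.symm, hw, smul_eq_mul]
      have e2 : B (D y) (v + z) = 2 * δ * B v y := by rw [← hDsym, e1]
      have e3 : B (D y) y = 0 := by
        rw [hDy, map_smul, LinearMap.smul_apply, hyy, smul_zero]
      simp only [xz]
      rw [h, e1, e2, e3]
      simp only [γ]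
      field_simp
      ring
    refine ⟨?_, ?_⟩
    · simp only [D, LinearMap.sub_apply, Module.End.mul_apply, map_sub, sub_eq_zero] at hDxz
      exact hDxz
    · have e1 : G (v + z) (v + z) = b0 := by
        rw [map_add G, LinearMap.add_apply, map_add (G v), map_add (G z), hGsym z v]
        simp only [ℓ, LinearMap.smul_apply, smul_eq_mul] at hqz
        linear_combination hqz
      rw [hG] at e1
      simp only [xz]
      rw [expand B (v + z) y (γ z), hyy, hB.symm y (v + z), hw]
      simp only [γ, smul_eq_mul]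
      rw [← e1]
      have := hB.two
      field_simp
      linear_combination (16 * δ * B v y ^ 2 * B (D (v + z)) (v + z)) * hδ
  have hsxz : ∀ z ∈ S, s (xz z) = δ • (v - z + γ z • y) := by
    intro z hz
    simp only [xz, map_add, map_smul, hsv, (hSmem z hz).2, hsy]
    module
  have hby : ∀ z ∈ S, B (xz z) y = B v y := by
    intro z hz
    simp only [xz, map_add, map_smul, LinearMap.add_apply, LinearMap.smul_apply, hyy,
      hB.symm z y, eig_perp hB hs hδ hsy (hSmem z hz).2, smul_zero, add_zero]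
  have htbad : ∀ z ∈ S, s (gp g 1 (xz z)) = σ • xz z → σ = -δ := by
    intro z hz h
    have e1 : B (s (gp g 1 (xz z))) y = -δ * B v y := by
      rw [hs.sadj, hsy, map_smul, gp_adj hg]
      have : gp g (-1) y = -y := by
        have h1 := congrArg (gp g (-1)) hgy
        rw [gp_apply_add, neg_add_cancel, gp_zero, Module.End.one_apply, map_neg] at h1
        conv_rhs => rw [h1]
        rw [neg_neg]
      rw [this, map_neg, hby z hz, smul_eq_mul]
      ring
    rw [h, map_smul, LinearMap.smul_apply, hby z hz, smul_eq_mul] at e1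
    exact mul_right_cancel₀ hBvy e1
  have hEfix : ∀ x ∈ E, gp g 1 x = x → x = 0 := by
    intro x hx h
    have h1 : N x = (2 : F) • x := by
      rw [hN, nE, LinearMap.sub_apply, LinearMap.smul_apply, Module.End.one_apply, h, neg_one_smul,
        two_smul, sub_neg_eq_add]
    have h2 : ∀ k, pv N (X ^ k) x = (2 : F) ^ k • x := by
      intro k
      induction k with
      | zero => simp
      | succ k ih => rw [pow_succ', pv_mul, pv_X, ih, map_smul, h1, smul_smul, ← pow_succ]
    have := hEN x hx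
    rw [h2] at this
    exact (smul_eq_zero.1 this).resolve_left (pow_ne_zero _ hB.two)
  have hxE : ∀ z ∈ S, xz z ∈ E := fun z hz =>
    add_mem (add_mem hvE (hSmem z hz).1) (E.smul_mem _ hyE)
  have hgood : ∀ z ∈ S, G z z + ℓ z = b0 - G v v → s (xz z) ≠ σ • xz z →
      s (gp g 1 (xz z)) ≠ σ • xz z → ∃ x ∈ E, GoodX B g s σ b0 x := fun z hz hq h1 h2 =>
    ⟨xz z, hxE z hz, (hval z hz hq).1, (hval z hz hq).2, h1, h2⟩
  have hsbad : ∀ z ∈ S, s (xz z) = σ • xz z → σ = δ ∧ z = 0 := by
    intro z hz h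
    have h1 : B (s (xz z)) y = δ * B v y := by
      rw [hs.sadj, hsy, map_smul, hby z hz, smul_eq_mul]
    rw [h, map_smul, LinearMap.smul_apply, hby z hz, smul_eq_mul] at h1
    have hσδ : σ = δ := mul_right_cancel₀ hBvy h1
    refine ⟨hσδ, ?_⟩
    rw [hsxz z hz, hσδ] at h
    have h2 := smul_right_injective V hδ0 h
    simp only [xz] at h2
    have h3 : (2 : F) • z = 0 := by
      rw [show (2 : F) • z = (v + z + γ z • y) - (v - z + γ z • y) by module, ← h2, sub_self]
    exact (smul_eq_zero.1 h3).resolve_left hB.two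
  by_cases hcase : σ = δ
  · -- only `z = 0` is bad
    have hnt : ∀ z ∈ S, s (gp g 1 (xz z)) ≠ σ • xz z := fun z hz h => by
      have h' := htbad z hz h
      rw [hcase] at h'
      have h2 : (2 : F) * δ = 0 := by linear_combination h'
      exact hB.two ((mul_eq_zero.1 h2).resolve_right hδ0)
    by_cases hz0 : z1 = 0
    · exact hgood z2 hz2 hq2 (fun h => hne (hz0.trans (hsbad z2 hz2 h).2.symm)) (hnt z2 hz2)
    · exact hgood z1 hz1 hq1 (fun h => hz0 (hsbad z1 hz1 h).2) (hnt z1 hz1)
  · have hns : ∀ z ∈ S, s (xz z) ≠ σ • xz z := fun z hz h => hcase (hsbad z hz h).1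
    by_cases hb1 : s (gp g 1 (xz z1)) = σ • xz z1
    · refine hgood z2 hz2 hq2 (hns z2 hz2) fun hb2 => hne ?_
      have hσ' := htbad z1 hz1 hb1
      have hd : s (gp g 1 (z1 - z2 + (γ z1 - γ z2) • y)) =
          σ • (z1 - z2 + (γ z1 - γ z2) • y) := by
        have : z1 - z2 + (γ z1 - γ z2) • y = xz z1 - xz z2 := by simp only [xz]; module
        rw [this, map_sub, map_sub, hb1, hb2, smul_sub]
      rw [map_add, map_add, map_smul, map_smul, hty, smul_add, smul_comm σ, hσ'] at hd
      have hd' : s (gp g 1 (z1 - z2)) = -δ • (z1 - z2) := by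
        have e : (γ z1 - γ z2) • -(δ • y) = (γ z1 - γ z2) • (-δ • y) := by rw [neg_smul]
        rw [e] at hd
        exact add_right_cancel hd
      have hdS : z1 - z2 ∈ S := sub_mem hz1 hz2
      have hfix : gp g 1 (z1 - z2) = z1 - z2 := by
        have h1 := congrArg s hd'
        rw [hs.ss, map_smul, (hSmem _ hdS).2] at h1
        rw [h1, show -δ • -(δ • (z1 - z2)) = (δ * δ) • (z1 - z2) by module, hδ, one_smul]
      exact sub_eq_zero.1 (hEfix _ (hSmem _ hdS).1 hfix)
    · exact hgood z1 hz1 hq1 (hns z1 hz1) hb1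

end Cfsg.Agent.OreOmega53
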