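import Cfsg.Agent.OreOmega53.Setup

/-!
The self-adjoint operator `g + g⁻¹`, the skew operator `g - g⁻¹` and polynomials in them.
-/

set_option autoImplicit false
set_option linter.unusedSectionVars false

namespace Cfsg.Agent.OreOmega53

open LinearMap (BilinForm)
open Polynomial

variable {F V : Type*} [Field F] [AddCommGroup V] [Module F V] [FiniteDimensional F V]
variable {B : BilinForm F V} {g : (Module.End F V)ˣ}

/-- `g + g⁻¹`. -/
def tE (g : (Module.End F V)ˣ) : Module.End F V := gp g 1 + gp g (-1)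

/-- `g - g⁻¹`. -/
def mE (g : (Module.End F V)ˣ) : Module.End F V := gp g 1 - gp g (-1)

theorem gp_commute (i j : ℤ) : Commute (gp g i) (gp g j) := by
  rw [Commute, SemiconjBy, ← gp_add, ← gp_add, add_comm]

theorem mE_commute_tE : Commute (mE g) (tE g) :=
  Commute.sub_left ((gp_commute 1 1).add_right (gp_commute 1 (-1)))
    ((gp_commute (-1) 1).add_right (gp_commute (-1) (-1)))

theorem gp_commute_tE (i : ℤ) : Commute (gp g i) (tE g) :=
  (gp_commute i 1).add_right (gp_commute i (-1))

theorem mE_sq : mE g * mE g = tE g * tE g - (4 : F) • 1 := by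
  have h1 : gp g 1 * gp g (-1) = 1 := by rw [← gp_add]; simp
  have h2 : gp g (-1) * gp g 1 = 1 := by rw [← gp_add]; simp
  simp only [mE, tE, sub_mul, mul_sub, add_mul, mul_add, h1, h2]
  module

theorem mE_adj (hg : g ∈ isoUnits B) (x y : V) : B (mE g x) y = -B x (mE g y) := by
  simp only [mE, LinearMap.sub_apply, map_sub, gp_adj hg, neg_neg]
  ring

theorem tE_adj (hg : g ∈ isoUnits B) (x y : V) : B (tE g x) y = B x (tE g y) := by
  simp only [tE, LinearMap.add_apply, map_add, gp_adj hg, neg_neg]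
  ring

/-- A polynomial applied to an operator, at a vector. -/
noncomputable def pv (R : Module.End F V) (p : F[X]) (x : V) : V := aeval R p x

theorem pv_mul (R : Module.End F V) (p q : F[X]) (x : V) :
    pv R (p * q) x = pv R p (pv R q x) := by
  simp [pv]

theorem pv_comm (R : Module.End F V) (p q : F[X]) (x : V) :
    pv R p (pv R q x) = pv R q (pv R p x) := by rw [← pv_mul, ← pv_mul, mul_comm]

@[simp] theorem pv_add (R : Module.End F V) (p q : F[X]) (x : V) :
    pv R (p + q) x = pv R p x + pv R q x := by simp [pv]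

@[simp] theorem pv_sub (R : Module.End F V) (p q : F[X]) (x : V) :
    pv R (p - q) x = pv R p x - pv R q x := by simp [pv]

@[simp] theorem pv_one (R : Module.End F V) (x : V) : pv R 1 x = x := by simp [pv]

@[simp] theorem pv_zero (R : Module.End F V) (p : F[X]) : pv R p (0 : V) = 0 := by simp [pv]

@[simp] theorem pv_X (R : Module.End F V) (x : V) : pv R X x = R x := by simp [pv]

@[simp] theorem pv_C (R : Module.End F V) (c : F) (x : V) : pv R (C c) x = c • x := by
  simp [pv, Module.algebraMap_end_apply]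

theorem pv_C_mul (R : Module.End F V) (c : F) (p : F[X]) (x : V) :
    pv R (C c * p) x = c • pv R p x := by rw [pv_mul, pv_C]

theorem pv_smul (R : Module.End F V) (c : F) (p : F[X]) (x : V) :
    pv R p (c • x) = c • pv R p x := by simp [pv]

theorem pv_vadd (R : Module.End F V) (p : F[X]) (x y : V) :
    pv R p (x + y) = pv R p x + pv R p y := by simp [pv]

theorem pv_vsub (R : Module.End F V) (p : F[X]) (x y : V) :
    pv R p (x - y) = pv R p x - pv R p y := by simp [pv]

theorem pv_mem {R : Module.End F V} {U : Submodule F V} (hR : ∀ x ∈ U, R x ∈ U) (p : F[X])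
    {x : V} (hx : x ∈ U) : pv R p x ∈ U := by
  induction p using Polynomial.induction_on' with
  | add p q hp hq => rw [pv_add]; exact add_mem hp hq
  | monomial n c =>
    rw [← C_mul_X_pow_eq_monomial, pv_C_mul]
    refine U.smul_mem _ ?_
    induction n with
    | zero => simpa using hx
    | succ n ih => rw [pow_succ', pv_mul, pv_X]; exact hR _ ih

theorem pv_intertwine {R R' f : Module.End F V} {U : Submodule F V} (hR : ∀ x ∈ U, R x ∈ U)
    (h : ∀ x ∈ U, f (R x) = R' (f x)) (p : F[X]) {x : V} (hx : x ∈ U) :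
    f (pv R p x) = pv R' p (f x) := by
  induction p using Polynomial.induction_on' with
  | add p q hp hq => simp [map_add, hp, hq]
  | monomial n c =>
    rw [← C_mul_X_pow_eq_monomial, pv_C_mul, pv_C_mul, map_smul]
    congr 1
    induction n with
    | zero => simp
    | succ n ih =>
      rw [pow_succ', pv_mul, pv_mul, pv_X, pv_X, h _ (pv_mem hR _ hx), ih]

theorem pv_adj {R R' : Module.End F V} (h : ∀ x y, B (R x) y = B x (R' y)) (p : F[X]) (x y : V) :
    B (pv R p x) y = B x (pv R' p y) := by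
  induction p using Polynomial.induction_on' generalizing x y with
  | add p q hp hq => simp [map_add, hp, hq]
  | monomial n c =>
    rw [← C_mul_X_pow_eq_monomial, pv_C_mul, pv_C_mul, map_smul, map_smul, LinearMap.smul_apply]
    congr 1
    induction n generalizing x y with
    | zero => simp
    | succ n ih =>
      rw [pow_succ', pv_mul, pv_X, h, ih, ← pv_X R' y, ← pv_mul, mul_comm]

theorem pvT_adj (hg : g ∈ isoUnits B) (p : F[X]) (x y : V) :
    B (pv (tE g) p x) y = B x (pv (tE g) p y) := pv_adj (tE_adj hg) p x y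

theorem pv_mE (p : F[X]) (x : V) : mE g (pv (tE g) p x) = pv (tE g) p (mE g x) :=
  pv_intertwine (U := ⊤) (fun _ _ => trivial)
    (fun y _ => LinearMap.congr_fun (mE_commute_tE (g := g)).eq y) p trivial

theorem pv_gp (i : ℤ) (p : F[X]) (x : V) : gp g i (pv (tE g) p x) = pv (tE g) p (gp g i x) :=
  pv_intertwine (U := ⊤) (fun _ _ => trivial)
    (fun y _ => LinearMap.congr_fun (gp_commute_tE (g := g) i).eq y) p trivial

theorem mE_mE (x : V) : mE g (mE g x) = pv (tE g) (X ^ 2 - C 4) x := by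
  rw [← Module.End.mul_apply, mE_sq]
  simp [pv, pow_two, Module.algebraMap_end_apply]

theorem GInv.tE_mem {U : Submodule F V} (hU : GInv g U) {x : V} (hx : x ∈ U) : tE g x ∈ U := by
  rw [tE, LinearMap.add_apply]; exact add_mem (hU.gp_mem _ hx) (hU.gp_mem _ hx)

theorem GInv.mE_mem {U : Submodule F V} (hU : GInv g U) {x : V} (hx : x ∈ U) : mE g x ∈ U := by
  rw [mE, LinearMap.sub_apply]; exact sub_mem (hU.gp_mem _ hx) (hU.gp_mem _ hx)

theorem GInv.pv_mem {U : Submodule F V} (hU : GInv g U) (p : F[X]) {x : V} (hx : x ∈ U) :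
    pv (tE g) p x ∈ U := OreOmega53.pv_mem (fun _ h => hU.tE_mem h) p hx

theorem PInv.swap {U : Submodule F V} (hU : GInv g U) {s : Module.End F V} (h : PInv B g U s)
    {x : V} (hx : x ∈ U) : s (gp g 1 x) = gp g (-1) (s x) := by
  have h1 := h.rev x hx
  rw [← gp_one] at h1
  have h2 : s x = gp g 1 (s (gp g 1 x)) := by
    conv_lhs => rw [← h1]
    exact h.sq _ (hU.gp_mem 1 (h.maps _ (hU.gp_mem 1 hx)))
  rw [h2, gp_apply_add]; simp

theorem PInv.swap' {U : Submodule F V} (hU : GInv g U) {s : Module.End F V} (h : PInv B g U s)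
    (i : ℤ) {x : V} (hx : x ∈ U) : s (gp g i x) = gp g (-i) (s x) := by
  induction i using Int.induction_on generalizing x with
  | zero => simp
  | succ n ih =>
    rw [← gp_apply_add, ih (hU.gp_mem 1 hx), h.swap hU hx, gp_apply_add]
    congr 2; ring
  | pred n ih =>
    have hm := h.swap hU (hU.gp_mem (-1) hx)
    rw [gp_apply_add, add_neg_cancel, gp_zero, Module.End.one_apply] at hm
    rw [sub_eq_add_neg, ← gp_apply_add, ih (hU.gp_mem _ hx), hm, gp_apply_add]
    congr 2; ring

theorem PInv.s_tE {U : Submodule F V} (hU : GInv g U) {s : Module.End F V} (h : PInv B g U s)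
    {x : V} (hx : x ∈ U) : s (tE g x) = tE g (s x) := by
  simp only [tE, LinearMap.add_apply, map_add, h.swap' hU _ hx, neg_neg]
  abel

theorem PInv.s_mE {U : Submodule F V} (hU : GInv g U) {s : Module.End F V} (h : PInv B g U s)
    {x : V} (hx : x ∈ U) : s (mE g x) = -mE g (s x) := by
  simp only [mE, LinearMap.sub_apply, map_sub, h.swap' hU _ hx, neg_neg]
  abel

theorem PInv.s_pv {U : Submodule F V} (hU : GInv g U) {s : Module.End F V} (h : PInv B g U s)
    (p : F[X]) {x : V} (hx : x ∈ U) : s (pv (tE g) p x) = pv (tE g) p (s x) :=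
  pv_intertwine (fun _ hh => hU.tE_mem hh) (fun _ hh => h.s_tE hU hh) p hx

/-- Fitting decomposition of an invariant subspace. -/
theorem fitting (R : Module.End F V) {U : Submodule F V} (hR : ∀ x ∈ U, R x ∈ U) {n : ℕ}
    (hn : Module.finrank F V ≤ n) :
    (∀ x, (R ^ n) ((R ^ n) x) = 0 → (R ^ n) x = 0) ∧
      ∀ u ∈ U, ∃ y ∈ U, (R ^ n) (u - (R ^ n) y) = 0 := by
  have hk : ∀ x, (R ^ n) ((R ^ n) x) = 0 → (R ^ n) x = 0 := by
    intro x hx
    have h1 : x ∈ LinearMap.ker (R ^ (n + n)) := by
      rw [LinearMap.mem_ker, pow_add]; exact hx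
    rw [Module.End.ker_pow_eq_ker_pow_finrank_of_le (by omega),
      ← Module.End.ker_pow_eq_ker_pow_finrank_of_le hn] at h1
    exact h1
  refine ⟨hk, fun u hu => ?_⟩
  have hRn : ∀ x ∈ U, (R ^ n) x ∈ U := by
    intro x hx
    have := pv_mem hR (X ^ n) hx
    simpa [pv] using this
  set W := U.map (R ^ n)
  have hW : ∀ w ∈ W, (R ^ n) w ∈ W := by
    rintro _ ⟨x, hx, rfl⟩
    exact ⟨_, hRn x hx, rfl⟩
  let f : W →ₗ[F] W := (R ^ n).restrict hW
  have hinj : Function.Injective f := by
    rw [← LinearMap.ker_eq_bot, Submodule.eq_bot_iff]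
    rintro ⟨w, x, hx, rfl⟩ hw
    exact Subtype.ext (hk x (congrArg Subtype.val hw))
  obtain ⟨⟨w, y, hy, rfl⟩, hw⟩ := (LinearMap.injective_iff_surjective.1 hinj)
    ⟨_, Submodule.mem_map_of_mem hu⟩
  refine ⟨y, hy, ?_⟩
  have hw' : (R ^ n) ((R ^ n) y) = (R ^ n) u := congrArg Subtype.val hw
  rw [map_sub, hw', sub_self]

/-- The kernel part of a Fitting decomposition is nondegenerate. -/
theorem nd_fitting {R R' : Module.End F V} {U : Submodule F V} (hU : ND B U)
    (hR : ∀ x ∈ U, R x ∈ U) (hadj : ∀ x y, B x (R y) = B (R' x) y) {n : ℕ}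
    (hn : Module.finrank F V ≤ n) (hker : ∀ x ∈ U, (R ^ n) x = 0 → (R' ^ n) x = 0) :
    ND B (U ⊓ LinearMap.ker (R ^ n)) := by
  intro x hx h
  refine hU x hx.1 fun u hu => ?_
  obtain ⟨y, hy, hz⟩ := (fitting R hR hn).2 u hu
  have hpow : ∀ (k : ℕ) (a b : V), B a ((R ^ k) b) = B ((R' ^ k) a) b := by
    intro k
    induction k with
    | zero => simp
    | succ k ih =>
      intro a b
      rw [pow_succ, pow_succ', Module.End.mul_apply, Module.End.mul_apply, ih, hadj]
  have hyU : (R ^ n) y ∈ U := by simpa [pv] using pv_mem hR (X ^ n) hy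
  have h1 : B x ((R ^ n) y) = 0 := by
    rw [hpow, hker x hx.1 (LinearMap.mem_ker.1 hx.2), map_zero, LinearMap.zero_apply]
  have h2 : B x (u - (R ^ n) y) = 0 := h _ ⟨sub_mem hu hyU, LinearMap.mem_ker.2 hz⟩
  rw [map_sub, h1, sub_zero] at h2
  exact h2

/-- The nilpotency exponent on a subspace. -/
theorem exists_exponent (R : Module.End F V) (p : F[X]) {W : Submodule F V} (hW : W ≠ ⊥) {n : ℕ}
    (h : ∀ x ∈ W, pv R (p ^ n) x = 0) :
    ∃ e : ℕ, 1 ≤ e ∧ (∀ x ∈ W, pv R (p ^ e) x = 0) ∧ ∃ x ∈ W, pv R (p ^ (e - 1)) x ≠ 0 := by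
  classical
  have hex : ∃ e, ∀ x ∈ W, pv R (p ^ e) x = 0 := ⟨n, h⟩
  refine ⟨Nat.find hex, ?_, Nat.find_spec hex, ?_⟩
  · by_contra h0
    refine hW ((Submodule.eq_bot_iff W).2 fun x hx => ?_)
    have := Nat.find_spec hex x hx
    rw [show Nat.find hex = 0 by omega] at this
    simpa using this
  · by_contra h0
    push Not at h0
    by_cases h1 : Nat.find hex = 0
    · refine hW ((Submodule.eq_bot_iff W).2 fun x hx => ?_)
      have := Nat.find_spec hex x hx
      rw [h1] at this
      simpa using this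
    · exact Nat.find_min hex (show Nat.find hex - 1 < _ by omega) h0

/-- Multiplying into the top layer. -/
theorem exists_mul_top {r : F[X]} (hr : Irreducible r) {e : ℕ} {p : F[X]} (hp : ¬ r ^ e ∣ p) :
    ∃ c : F[X], r ^ e ∣ c * p - r ^ (e - 1) := by
  classical
  have hex : ∃ i, ¬ r ^ i ∣ p := ⟨e, hp⟩
  set i := Nat.find hex with hi
  have hle : i ≤ e := Nat.find_min' hex hp
  have hpos : i ≠ 0 := fun h0 => by
    have := Nat.find_spec hex
    rw [← hi, h0, pow_zero] at this
    exact this (one_dvd p)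
  obtain ⟨p', hp'⟩ : r ^ (i - 1) ∣ p := not_not.1 (Nat.find_min hex (show i - 1 < i by omega))
  have hnd : ¬ r ∣ p' := by
    intro h
    apply Nat.find_spec hex
    rw [← hi, hp', show i = i - 1 + 1 by omega, pow_succ, show i - 1 + 1 - 1 = i - 1 by omega]
    exact mul_dvd_mul_left _ h
  obtain ⟨a, b, hab⟩ := (((hr.coprime_iff_not_dvd).2 hnd).pow_left (m := e))
  refine ⟨b * r ^ (e - i), -a * r ^ (e - 1), ?_⟩
  have e1 : r ^ (e - 1) = r ^ (e - i) * r ^ (i - 1) := by
    rw [← pow_add]; congr 1; omega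
  rw [hp', e1]
  linear_combination (r ^ (e - i) * r ^ (i - 1)) * hab

end Cfsg.Agent.OreOmega53
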