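import Cfsg.Agent.OreOmega53.Quad
import Cfsg.Agent.Forms59.OmegaTools
import Cfsg.Agent.Forms59.Transitive

/-!
Orthogonal bases of subspaces as lists, their reflection products, and square classes.
-/

set_option autoImplicit false
set_option linter.unusedSectionVars false

namespace Cfsg.Agent.OreOmega53

open LinearMap (BilinForm)
open QuadraticMap Cfsg.Agent.Reflections Cfsg.Agent.Forms59

variable {ι : Type} [Fintype ι] [DecidableEq ι] {F : Type*} [Field F]
variable {Q : QuadraticForm F (ι → F)}

theorem pb_apply (Q : QuadraticForm F (ι → F)) (x y : ι → F) :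
    Q.polarBilin x y = polar ⇑Q x y := rfl

theorem pb_self (Q : QuadraticForm F (ι → F)) (x : ι → F) : Q.polarBilin x x = 2 * Q x :=
  polar_self' Q x

theorem geom_of (h2 : (2 : F) ≠ 0) (hQ : Q.polarBilin.Nondegenerate) :
    Geom Q.polarBilin :=
  ⟨fun x y => polar_comm ⇑Q x y, fun x h => hQ.1 x h, h2⟩

theorem pb_act (g : ↥(Cfsg.isometryGroup F ⇑Q)) (x y : ι → F) :
    Q.polarBilin (act g x) (act g y) = Q.polarBilin x y := act_polar g x y

theorem qne (h2 : (2 : F) ≠ 0) {a : ι → F} (h : Q.polarBilin a a ≠ 0) : Q a ≠ 0 := fun h0 =>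
  h (by rw [pb_self, h0, mul_zero])

/-- An orthogonal basis of `S`, by its reflection product. -/
structure OB (Q : QuadraticForm F (ι → F)) (S : Submodule F (ι → F)) (os : List (ι → F)) :
    Prop where
  mem : ∀ v ∈ os, v ∈ S
  ne : ∀ v ∈ os, Q v ≠ 0
  perp : os.Pairwise fun a b => Q.polarBilin a b = 0
  len : os.length = Module.finrank F ↥S
  neg : ∀ x ∈ S, act (reflProd Q os) x = -x
  fix : ∀ x, (∀ u ∈ S, Q.polarBilin u x = 0) → act (reflProd Q os) x = x

theorem OB.cons (h2 : (2 : F) ≠ 0) {S : Submodule F (ι → F)} {a : ι → F} (ha : a ∈ S)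
    (haa : Q.polarBilin a a ≠ 0) {os : List (ι → F)}
    (hos : OB Q (S ⊓ LinearMap.ker (Q.polarBilin a)) os) : OB Q S (a :: os) := by
  have hqa : Q a ≠ 0 := qne h2 haa
  have hfr : Module.finrank F ↥(S ⊓ LinearMap.ker (Q.polarBilin a)) + 1 = Module.finrank F ↥S := by
    have h1 := finrank_perp (G := Q.polarBilin) (S := S) (a := a)
    have hlt : S ⊓ LinearMap.ker (Q.polarBilin a) < S := lt_of_le_of_ne inf_le_left fun e =>
      haa (LinearMap.mem_ker.1 (show a ∈ S ⊓ LinearMap.ker (Q.polarBilin a) by rw [e]; exact ha).2)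
    have := Submodule.finrank_lt_finrank_of_lt hlt
    omega
  refine ⟨?_, ?_, ?_, ?_, ?_, ?_⟩
  · intro v hv
    rcases List.mem_cons.1 hv with rfl | hv
    · exact ha
    · exact (hos.mem v hv).1
  · intro v hv
    rcases List.mem_cons.1 hv with rfl | hv
    · exact hqa
    · exact hos.ne v hv
  · exact List.pairwise_cons.2 ⟨fun v hv => LinearMap.mem_ker.1 (hos.mem v hv).2, hos.perp⟩
  · rw [List.length_cons, hos.len, hfr]
  · intro x hx
    obtain ⟨c, hc⟩ : ∃ c : F, c = Q.polarBilin a x / Q.polarBilin a a := ⟨_, rfl⟩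
    have hy : x - c • a ∈ S ⊓ LinearMap.ker (Q.polarBilin a) :=
      ⟨sub_mem hx (S.smul_mem _ ha), by
        rw [SetLike.mem_coe, LinearMap.mem_ker, map_sub, map_smul, smul_eq_mul, hc,
          div_mul_cancel₀ _ haa, sub_self]⟩
    have hfa : act (reflProd Q os) a = a := hos.fix a fun u hu => by
      rw [pb_apply, polar_comm]; exact LinearMap.mem_ker.1 hu.2
    have hxe : x = c • a + (x - c • a) := by abel
    rw [reflProd_cons, act_mul]
    conv_lhs => rw [hxe, act_add, act_smul, hfa, hos.neg _ hy, act_add, act_smul, act_neg,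
      refl_self hqa, refl_fix hqa (LinearMap.mem_ker.1 hy.2)]
    module
  · intro x hx
    rw [reflProd_cons, act_mul, hos.fix x fun u hu => hx u hu.1, refl_fix hqa (hx a ha)]

theorem OB.indep {S : Submodule F (ι → F)} {os : List (ι → F)} (h2 : (2 : F) ≠ 0)
    (hos : OB Q S os) : LinearIndependent F fun i : Fin os.length => os.get i := by
  refine LinearMap.BilinForm.linearIndependent_of_iIsOrtho (B := Q.polarBilin) ?_ ?_
  · intro i j hij
    rcases lt_or_gt_of_ne hij with h | h
    · exact List.pairwise_iff_get.1 hos.perp i j h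
    · show Q.polarBilin (os.get i) (os.get j) = 0
      rw [pb_apply, polar_comm]
      exact List.pairwise_iff_get.1 hos.perp j i h
  · intro i h
    have := hos.ne _ (List.get_mem os i)
    replace h : Q.polarBilin (os.get i) (os.get i) = 0 := h
    rw [pb_self] at h
    exact this ((mul_eq_zero.1 h).resolve_left h2)

variable [Fintype F]

theorem exists_OB (h2 : (2 : F) ≠ 0) : ∀ {S : Submodule F (ι → F)}, ND Q.polarBilin S →
    ∃ os, OB Q S os := by
  intro S
  induction h : Module.finrank F ↥S using Nat.strong_induction_on generalizing S with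
  | _ d ih =>
    intro hS
    by_cases hne : S = ⊥
    · subst hne
      refine ⟨[], by simp, by simp, by simp, by simp, ?_, fun x _ => by simp [reflProd]⟩
      intro x hx
      rw [(Submodule.mem_bot F).1 hx]
      simp [reflProd]
    obtain ⟨a, ha, haa⟩ := exists_aniso (G := Q.polarBilin) (fun x _ y _ => polar_comm ⇑Q x y) h2 hS hne
    have hlt : Module.finrank F ↥(S ⊓ LinearMap.ker (Q.polarBilin a)) < d := by
      rw [← h]
      refine Submodule.finrank_lt_finrank_of_lt (lt_of_le_of_ne inf_le_left fun e => ?_)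
      exact haa (LinearMap.mem_ker.1 (show a ∈ S ⊓ LinearMap.ker (Q.polarBilin a) by rw [e]; exact ha).2)
    obtain ⟨os, hos⟩ := ih _ hlt rfl (nd_perp (fun x _ y _ => polar_comm ⇑Q x y) hS ha haa)
    exact ⟨a :: os, hos.cons h2 ha haa⟩

theorem OB.reflProd_eq (hQ : Q.polarBilin.Nondegenerate) (h2 : (2 : F) ≠ 0)
    {S : Submodule F (ι → F)} (hS : ND Q.polarBilin S) {os : List (ι → F)} (hos : OB Q S os)
    (h : ↥(Cfsg.isometryGroup F ⇑Q)) (hneg : ∀ x ∈ S, act h x = -x)
    (hfix : ∀ x, (∀ u ∈ S, Q.polarBilin u x = 0) → act h x = x) : h = reflProd Q os := by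
  refine isom_ext fun x => ?_
  obtain ⟨a, ha, hb⟩ := exists_split (geom_of h2 hQ) hS x
  rw [show x = a + (x - a) by abel, act_add, act_add, hneg a ha, hfix _ hb, hos.neg a ha,
    hos.fix _ hb]

variable [DecidableEq F]

theorem OB.theta_eps {S : Submodule F (ι → F)} {os : List (ι → F)} (h2 : (2 : F) ≠ 0) {ε : F}
    (hε : ¬ IsSquare ε) (hos : OB Q S os) :
    ((theta Q ε (reflProd Q os) : ℤ) = quadraticChar F (os.map fun v => Q v).prod) ∧
      ((theta Q 1 (reflProd Q os) : ℤ) =
        (-1) ^ Module.finrank F ↥S * quadraticChar F (os.map fun v => Q v).prod) := by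
  rw [← hos.len]
  exact theta_reflProd h2 hε os hos.ne

/-- The class is independent of the basis. -/
theorem OB.class_eq (hQ : Q.polarBilin.Nondegenerate) (h2 : (2 : F) ≠ 0) {S : Submodule F (ι → F)}
    (hS : ND Q.polarBilin S) {os os' : List (ι → F)} (hos : OB Q S os) (hos' : OB Q S os') :
    quadraticChar F (os.map fun v => Q v).prod = quadraticChar F (os'.map fun v => Q v).prod := by
  obtain ⟨ε, -, hε⟩ := exists_nonsquare_scalar (F := F) h2
  rw [← (hos.theta_eps h2 hε).1, ← (hos'.theta_eps h2 hε).1,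
    hos.reflProd_eq hQ h2 hS (reflProd Q os') hos'.neg hos'.fix]

/-- Subspaces of equal dimension and class are isometric. -/
theorem exists_isometry (hQ : Q.polarBilin.Nondegenerate) (h2 : (2 : F) ≠ 0) :
    ∀ {S S' : Submodule F (ι → F)}, ND Q.polarBilin S → ND Q.polarBilin S' →
      Module.finrank F ↥S = Module.finrank F ↥S' →
      ∀ {os os' : List (ι → F)}, OB Q S os → OB Q S' os' →
      quadraticChar F (os.map fun v => Q v).prod = quadraticChar F (os'.map fun v => Q v).prod →
      ∃ f : (ι → F) →ₗ[F] (ι → F), (∀ x ∈ S, f x ∈ S') ∧ (∀ x ∈ S, f x = 0 → x = 0) ∧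
        ∀ x ∈ S, Q (f x) = Q x := by
  intro S
  induction h : Module.finrank F ↥S using Nat.strong_induction_on generalizing S with
  | _ d ih =>
    intro S' hS hS' hd os os' hos hos' hcl
    have hsym : ∀ {T : Submodule F (ι → F)}, ∀ x ∈ T, ∀ y ∈ T,
        Q.polarBilin x y = Q.polarBilin y x := fun x _ y _ => polar_comm ⇑Q x y
    by_cases hd0 : d = 0
    · have hS0 : S = ⊥ := Submodule.finrank_eq_zero.1 (h.trans hd0)
      subst hS0
      exact ⟨0, fun x _ => zero_mem _, fun x hx _ => (Submodule.mem_bot F).1 hx,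
        fun x hx => by simp [(Submodule.mem_bot F).1 hx]⟩
    obtain ⟨a, ha, haa, a', ha', haa', hQaa⟩ : ∃ a ∈ S, Q.polarBilin a a ≠ 0 ∧
        ∃ a' ∈ S', Q.polarBilin a' a' ≠ 0 ∧ Q a' = Q a := by
      by_cases hd1 : d = 1
      · have hl : os.length = 1 := by rw [hos.len, h, hd1]
        have hl' : os'.length = 1 := by rw [hos'.len, ← hd, hd1]
        obtain ⟨a, rfl⟩ := List.length_eq_one_iff.1 hl
        obtain ⟨a', rfl⟩ := List.length_eq_one_iff.1 hl'
        have hqa := hos.ne a (by simp)
        have hqa' := hos'.ne a' (by simp)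
        simp only [List.map_cons, List.map_nil, List.prod_cons, List.prod_nil, mul_one] at hcl
        have hsq : IsSquare (Q a / Q a') := by
          rw [← quadraticChar_one_iff_isSquare (div_ne_zero hqa hqa'), div_eq_mul_inv, map_mul,
            hcl, ← map_mul, mul_inv_cancel₀ hqa', map_one]
        obtain ⟨c, hc⟩ := hsq
        refine ⟨a, hos.mem a (by simp), by rw [pb_self]; exact mul_ne_zero h2 hqa, c • a',
          S'.smul_mem _ (hos'.mem a' (by simp)), ?_, ?_⟩
        · rw [pb_self, map_smul']
          refine mul_ne_zero h2 (mul_ne_zero ?_ hqa')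
          rw [← hc]
          exact div_ne_zero hqa hqa'
        · rw [map_smul', ← hc, div_mul_cancel₀ _ hqa']
      · obtain ⟨a, ha, haa⟩ := exists_value (G := Q.polarBilin) hsym h2 hS (by omega) (2 : F)
        obtain ⟨a', ha', haa'⟩ := exists_value (G := Q.polarBilin) hsym h2 hS' (by omega) (2 : F)
        refine ⟨a, ha, by rw [haa]; exact h2, a', ha', by rw [haa']; exact h2, ?_⟩
        rw [pb_self] at haa haa'
        exact mul_left_cancel₀ h2 (haa'.trans haa.symm)
    have hT := nd_perp hsym hS ha haa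
    have hT' := nd_perp hsym hS' ha' haa'
    obtain ⟨ts, hts⟩ := exists_OB h2 hT
    obtain ⟨ts', hts'⟩ := exists_OB h2 hT'
    have c1 := (hts.cons h2 ha haa)
    have c2 := (hts'.cons h2 ha' haa')
    have hd' : Module.finrank F ↥(S ⊓ LinearMap.ker (Q.polarBilin a)) + 1 = d := by
      rw [← h, ← c1.len, List.length_cons, hts.len]
    have hd'' : Module.finrank F ↥(S' ⊓ LinearMap.ker (Q.polarBilin a')) + 1 = d := by
      rw [hd, ← c2.len, List.length_cons, hts'.len]
    have hcl' : quadraticChar F (ts.map fun v => Q v).prod =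
        quadraticChar F (ts'.map fun v => Q v).prod := by
      have e1 := hos.class_eq hQ h2 hS c1
      have e2 := hos'.class_eq hQ h2 hS' c2
      rw [hcl, e2, List.map_cons, List.map_cons, List.prod_cons, List.prod_cons, map_mul, map_mul,
        hQaa] at e1
      refine (mul_left_cancel₀ ?_ e1).symm
      rw [ne_eq, quadraticChar_eq_zero_iff]
      exact qne h2 haa
    obtain ⟨f, hf1, hf2, hf3⟩ := ih _ (by omega) rfl hT hT' (by omega) hts hts' hcl'
    let φ : (ι → F) →ₗ[F] F := (Q.polarBilin a a)⁻¹ • Q.polarBilin a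
    have hφ : ∀ x ∈ S, x - φ x • a ∈ S ⊓ LinearMap.ker (Q.polarBilin a) := by
      intro x hx
      refine ⟨sub_mem hx (S.smul_mem _ ha), ?_⟩
      rw [SetLike.mem_coe, LinearMap.mem_ker, map_sub, map_smul]
      simp only [φ, LinearMap.smul_apply, smul_eq_mul]
      field_simp
      ring
    refine ⟨φ.smulRight a' + f.comp (LinearMap.id - φ.smulRight a), ?_, ?_, ?_⟩
    all_goals intro x hx
    all_goals simp only [LinearMap.add_apply, LinearMap.comp_apply, LinearMap.sub_apply,
      LinearMap.id_apply, LinearMap.smulRight_apply]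
    · exact add_mem (S'.smul_mem _ ha') (hf1 _ (hφ x hx)).1
    · intro h0
      have h1 := congrArg (Q.polarBilin a') h0
      rw [map_add, map_smul, LinearMap.mem_ker.1 (hf1 _ (hφ x hx)).2, add_zero, map_zero,
        smul_eq_zero] at h1
      rw [h1.resolve_right haa', zero_smul, zero_add] at h0
      have hm := hφ x hx
      rw [h1.resolve_right haa', zero_smul, sub_zero] at hm
      rw [zero_smul, sub_zero] at h0
      exact hf2 _ hm h0
    · have e1 : polar ⇑Q (φ x • a') (f (x - φ x • a)) = 0 := by
        rw [← pb_apply, map_smul, LinearMap.smul_apply,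
          LinearMap.mem_ker.1 (hf1 _ (hφ x hx)).2, smul_zero]
      have e2 : polar ⇑Q (φ x • a) (x - φ x • a) = 0 := by
        rw [← pb_apply, map_smul, LinearMap.smul_apply, LinearMap.mem_ker.1 (hφ x hx).2, smul_zero]
      conv_rhs => rw [show x = φ x • a + (x - φ x • a) by abel, map_add', map_smul', e2]
      rw [map_add', map_smul', e1, hf3 _ (hφ x hx), hQaa]

/-- The determinant of a Gram matrix of vectors in `S`. -/
theorem gram_det_sq {S : Submodule F (ι → F)} {os : List (ι → F)} (h2 : (2 : F) ≠ 0)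
    (hos : OB Q S os) (w : Fin os.length → ι → F) (hw : ∀ i, w i ∈ S) :
    ∃ c : F, (Matrix.of fun i j => Q.polarBilin (w i) (w j)).det =
      c * c * (2 ^ os.length * (os.map fun v => Q v).prod) := by
  classical
  have hspan : S = Submodule.span F (Set.range fun i : Fin os.length => os.get i) := by
    refine (Submodule.eq_of_le_of_finrank_le (Submodule.span_le.2 ?_) ?_).symm
    · rintro _ ⟨i, rfl⟩; exact hos.mem _ (List.get_mem os i)
    · rw [finrank_span_eq_card (hos.indep h2), Fintype.card_fin, hos.len]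
  choose C hC using fun i => Submodule.mem_span_range_iff_exists_fun F |>.1 (hspan ▸ hw i)
  have key : (Matrix.of fun i j => Q.polarBilin (w i) (w j)) =
      Matrix.of C * Matrix.diagonal (fun k => 2 * Q (os.get k)) * (Matrix.of C).transpose := by
    ext i j
    rw [Matrix.of_apply, ← hC i, ← hC j, Matrix.mul_apply]
    simp only [Matrix.mul_diagonal, Matrix.transpose_apply, Matrix.of_apply, map_sum, map_smul,
      LinearMap.sum_apply, LinearMap.smul_apply, smul_eq_mul]
    refine Finset.sum_congr rfl fun k _ => ?_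
    rw [Finset.sum_eq_single k]
    · rw [pb_self]; ring
    · intro l _ hlk
      rcases lt_or_gt_of_ne hlk with h | h
      · have e : Q.polarBilin (os.get l) (os.get k) = 0 := List.pairwise_iff_get.1 hos.perp l k h
        rw [e]; simp
      · rw [pb_apply, polar_comm, ← pb_apply, List.pairwise_iff_get.1 hos.perp k l h]; simp
    · simp
  refine ⟨(Matrix.of C).det, ?_⟩
  rw [key, Matrix.det_mul, Matrix.det_mul, Matrix.det_diagonal, Matrix.det_transpose,
    Finset.prod_mul_distrib, Finset.prod_const, Finset.card_univ, Fintype.card_fin]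
  have : ∏ k, Q (os.get k) = (os.map fun v => Q v).prod := by
    rw [← List.prod_ofFn]
    congr 1
    exact List.ext_getElem (by simp) fun i h1 h2 => by simp
  rw [this]; ring

end Cfsg.Agent.OreOmega53
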