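import Cfsg.Agent.OreOmega53.LemmaA

/-!
Outside the unipotent parts: either a suitable vector, or a twist changing the discriminant.
-/

set_option autoImplicit false
set_option linter.unusedSectionVars false

namespace Cfsg.Agent.OreOmega53

open LinearMap (BilinForm)
open Polynomial

variable {F V : Type*} [Field F] [AddCommGroup V] [Module F V] [FiniteDimensional F V]
variable {B : BilinForm F V} {g : (Module.End F V)ˣ} {s : Module.End F V}

/-- A vector to be combined with a fixed eigenvector of sign `σ`. -/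
structure GoodX (B : BilinForm F V) (g : (Module.End F V)ˣ) (s : Module.End F V) (σ b : F) (x : V) :
    Prop where
  val : B (s x) x = B (s (gp g 1 x)) x
  norm : B x x = b
  ns : s x ≠ σ • x
  nt : s (gp g 1 x) ≠ σ • x

/-- A change of involution reversing the square class of the negative space. -/
structure Twist (B : BilinForm F V) (g : (Module.End F V)ˣ) (s : Module.End F V) where
  K : (Module.End F V)ˣ
  P : Module.End F V
  comm : Commute (K : Module.End F V) (g : Module.End F V)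
  adj : ∀ x y, B ((K : Module.End F V) x) ((K : Module.End F V) y) = B x (P y)
  scomm : ∀ x, s (P x) = P (s x)
  maps : ∀ x ∈ eig (⊤ : Submodule F V) s (-1), P x ∈ eig (⊤ : Submodule F V) s (-1)
  det : ¬ IsSquare (LinearMap.det (P.restrict maps))

/-- An irreducible factor away from `X² - 4`. -/
theorem exists_irr {U : Submodule F V} (hUg : GInv g U) (hne : U ≠ ⊥)
    (hker : ∀ x ∈ U, mE g x = 0 → x = 0) :
    ∃ r : F[X], Irreducible r ∧ ¬ r ∣ X ^ 2 - C 4 ∧ ∃ x ∈ U, x ≠ 0 ∧ pv (tE g) r x = 0 := by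
  classical
  have hexp : ∃ d, ∃ p : F[X], p ≠ 0 ∧ p.natDegree = d ∧ ∀ x ∈ U, pv (tE g) p x = 0 :=
    ⟨_, minpoly F (tE g), minpoly.ne_zero (Algebra.IsIntegral.isIntegral _), rfl,
      fun x _ => by simp [pv, minpoly.aeval]⟩
  obtain ⟨p, hp0, hpd, hp⟩ := Nat.find_spec hexp
  have hpu : ¬ IsUnit p := by
    intro hu
    obtain ⟨c, hc, rfl⟩ := Polynomial.isUnit_iff.1 hu
    refine hne ((Submodule.eq_bot_iff U).2 fun x hx => ?_)
    have := hp x hx
    rw [pv_C] at this
    exact (smul_eq_zero.1 this).resolve_left hc.ne_zero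
  obtain ⟨r, hr, p', rfl⟩ := WfDvdMonoid.exists_irreducible_factor hpu hp0
  obtain ⟨x, hxU, hx⟩ : ∃ x ∈ U, pv (tE g) p' x ≠ 0 := by
    by_contra hc
    push Not at hc
    have hp'0 : p' ≠ 0 := right_ne_zero_of_mul hp0
    refine Nat.find_min hexp ?_ ⟨p', hp'0, rfl, hc⟩
    have := natDegree_mul hr.ne_zero hp'0
    have := hr.natDegree_pos
    omega
  have hrx : pv (tE g) r (pv (tE g) p' x) = 0 := by rw [← pv_mul]; exact hp x hxU
  refine ⟨r, hr, ?_, _, hUg.pv_mem p' hxU, hx, hrx⟩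
  rintro ⟨d, hd⟩
  apply hx
  have hxm : pv (tE g) p' x ∈ U := hUg.pv_mem p' hxU
  refine hker _ hxm (hker _ (hUg.mE_mem hxm) ?_)
  rw [mE_mE, hd, mul_comm, pv_mul, hrx, pv_zero]

variable [Fintype F]

/-- The exponent two or more case. -/
theorem exists_goodX_regular (hB : Geom B) (hg : g ∈ isoUnits B) (hs : PInv B g ⊤ s)
    {W : Submodule F V} (hWnd : ND B W) (hWg : GInv g W) (hWs : ∀ x ∈ W, s x ∈ W) {r : F[X]}
    (hr : Irreducible r) (hrq : ¬ r ∣ X ^ 2 - C 4) {e : ℕ} (he2 : 2 ≤ e)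
    (he : ∀ x ∈ W, pv (tE g) (r ^ e) x = 0) (htop : ∃ x ∈ W, pv (tE g) (r ^ (e - 1)) x ≠ 0)
    {σ : F} (hσ : σ * σ = 1) (b0 : F) : ∃ x ∈ W, GoodX B g s σ b0 x := by
  set P := r ^ (e - 1) with hP
  set q : F[X] := X ^ 2 - C 4 with hq
  have hMinj : ∀ z ∈ W, mE g z = 0 → z = 0 := by
    intro z hz h0
    obtain ⟨a, b, hab⟩ := (((hr.coprime_iff_not_dvd).2 hrq).pow_left (m := e))
    have h1 : pv (tE g) q z = 0 := by rw [hq, ← mE_mE, h0, map_zero]
    calc z = pv (tE g) (a * r ^ e + b * q) z := by rw [hab, pv_one]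
      _ = 0 := by rw [pv_add, pv_mul, pv_mul, he z hz, h1, pv_zero, pv_zero, add_zero]
  set S := eig W s (-σ) with hS
  have hSmem : ∀ z, z ∈ S ↔ z ∈ W ∧ s z = -(σ • z) := fun z => by
    rw [hS, mem_eig, neg_smul]
  obtain ⟨z, hz, hPz⟩ : ∃ z ∈ S, pv (tE g) P z ≠ 0 := by
    obtain ⟨x, hx, hPx⟩ := htop
    obtain ⟨δ, v, hδ, hv, hsv, hHv⟩ := exists_eig_ne hB.two hs hWs (aeval (tE g) P) hx hPx
    replace hHv : pv (tE g) P v ≠ 0 := hHv
    have hδσ : δ = σ ∨ δ = -σ := mul_self_eq_mul_self_iff.1 (hδ.trans hσ.symm)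
    rcases hδσ with h | h <;> subst h
    · refine ⟨mE g v, (hSmem _).2 ⟨hWg.mE_mem hv, ?_⟩, fun h0 => hHv (hMinj _ ?_ ?_)⟩
      · rw [hs.s_mE ginv_top trivial, hsv, map_smul]
      · exact hWg.pv_mem P hv
      · rw [pv_mE]; exact h0
    · exact ⟨v, (hSmem _).2 ⟨hv, by rw [hsv, neg_smul]⟩, hHv⟩
  have hSnd : ND B S := by
    intro x hx h
    refine hWnd x hx.1 fun y hy => ?_
    obtain ⟨a, c, ha, hc, hsa, hsc, rfl⟩ := eig_split hB.two hs hWs hy
    rw [map_add]
    have hx' := ((hSmem x).1 hx).2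
    rcases mul_self_eq_one_iff.1 hσ with h' | h' <;> subst h'
    · have e1 : B x a = 0 := by
        rw [hB.symm]; exact eig_perp hB hs (one_mul 1) (by rw [hsa, one_smul]) hx'
      have e2 : B x c = 0 := h c ((hSmem c).2 ⟨hc, by rw [hsc, one_smul]⟩)
      rw [e1, e2, add_zero]
    · have e1 : B x c = 0 := by
        rw [hB.symm]
        exact eig_perp hB hs (δ := -1) (by ring) (by rw [hsc, neg_one_smul]) hx'
      have e2 : B x a = 0 := h a ((hSmem a).2 ⟨ha, by rw [hsa, neg_one_smul, neg_neg]⟩)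
      rw [e1, e2, add_zero]
  obtain ⟨v, hvS, hψ⟩ := exists_diag_ne (G := B) (S := S) (fun x _ y _ => hB.symm x y) hB.two hSnd
    (H := aeval (tE g) P) (fun x hx => (hSmem _).2 ⟨hWg.pv_mem P ((hSmem x).1 hx).1, by
      show s (pv (tE g) P x) = -(σ • pv (tE g) P x)
      rw [hs.s_pv ginv_top P trivial, ((hSmem x).1 hx).2, ← neg_smul, pv_smul, neg_smul]⟩)
    (fun x _ y _ => pvT_adj hg P x y) hz hPz
  replace hψ : B (pv (tE g) P v) v ≠ 0 := hψ
  obtain ⟨hvW, hsv⟩ := (hSmem v).1 hvS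
  set w0 := pv (tE g) P v with hw0
  set ψ := B w0 v with hψdef
  obtain ⟨d, c, hdc⟩ := (((hr.coprime_iff_not_dvd).2 hrq).pow_left (m := e))
  set wc := pv (tE g) (c * P) v with hwc
  set zc := mE g (pv (tE g) c v) with hzc
  have hMwc : mE g wc = pv (tE g) P zc := by rw [hwc, hzc, mul_comm, pv_mul, pv_mE]
  have hqwc : mE g (mE g wc) = w0 := by
    rw [mE_mE, hwc, ← pv_mul, hw0,
      show (X ^ 2 - C 4) * (c * P) = P - (d * P) * r ^ e by linear_combination P * hdc, pv_sub,
      pv_mul (tE g) (d * P), he v hvW, pv_zero, sub_zero]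
  have hPP : ∀ (i : ℤ) (z : V), ∀ z' ∈ W, B (gp g i (pv (tE g) P z)) (pv (tE g) P z') = 0 := by
    intro i z z' hz'
    rw [gp_adj hg, pvT_adj hg, pv_gp, ← pv_mul,
      show P * P = r ^ (e - 2) * r ^ e by rw [hP, ← pow_add, ← pow_add]; congr 1; omega, pv_mul,
      he _ (hWg.gp_mem _ hz'), pv_zero, map_zero]
  have hPP0 : ∀ (z : V), ∀ z' ∈ W, B (pv (tE g) P z) (pv (tE g) P z') = 0 := by
    intro z z' hz'; simpa using hPP 0 z z' hz'
  have hzcW : zc ∈ W := hWg.mE_mem (hWg.pv_mem c hvW)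
  have hodd : B v (mE g wc) = 0 := by
    have h1 : B v (mE g wc) = -B v (mE g wc) := by
      conv_lhs => rw [hwc, ← hB.symm, mE_adj hg, pvT_adj hg, ← pv_mE]
    exact (mul_eq_zero.1 (show (2 : F) * _ = 0 by linear_combination h1)).resolve_left hB.two
  set c0 := (b0 - B v v) / (2 * ψ) with hc0
  set v0 := v + c0 • w0 with hv0
  set K : V := v0 - gp g (-1) v0 with hK
  set c1 := B K v0 / ψ with hc1
  set b := c1 • mE g wc with hb
  have hv0W : v0 ∈ W := add_mem hvW (W.smul_mem _ (hWg.pv_mem P hvW))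
  have hbW : b ∈ W := W.smul_mem _ (hWg.mE_mem (hWg.pv_mem _ hvW))
  refine ⟨v0 + b, add_mem hv0W hbW, ?_⟩
  have hsv0 : s v0 = -(σ • v0) := by
    rw [hv0, map_add, map_smul, hw0, hs.s_pv ginv_top P trivial, hsv, ← neg_smul, pv_smul]
    module
  have hsb : s b = σ • b := by
    rw [hb, map_smul, hs.s_mE ginv_top trivial, hwc, hs.s_pv ginv_top _ trivial, hsv,
      ← neg_smul, pv_smul, map_smul]
    module
  have hsx : s (v0 + b) = -σ • (v0 - b) := by rw [map_add, hsv0, hsb]; module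
  have htx : s (gp g 1 (v0 + b)) = -σ • gp g (-1) (v0 - b) := by
    rw [hs.sgp, hsx, map_smul]
  have hv0b : B v0 b = 0 := by
    simp only [hv0, hb, map_add, map_smul, LinearMap.add_apply, LinearMap.smul_apply, smul_eq_mul]
    rw [hodd, hMwc, hw0, hPP0 v zc hzcW]
    ring
  have hbb : B b b = 0 := by
    rw [hb, map_smul, map_smul, LinearMap.smul_apply, hMwc, hPP0 _ zc hzcW]
    simp
  have hMb : B (mE g b) v0 = c1 * ψ := by
    rw [hb, map_smul, map_smul, LinearMap.smul_apply, hqwc, hv0, map_add, map_smul, hψdef]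
    rw [show B w0 w0 = 0 from hPP0 v v hvW]
    simp
  refine ⟨?_, ?_, ?_, ?_⟩
  · rw [hsx, htx, map_smul, map_smul, LinearMap.smul_apply, LinearMap.smul_apply]
    congr 1
    have key : B (v0 - b - gp g (-1) (v0 - b)) (v0 + b) = 0 := by
      have e1 : B (gp g (-1) b) b = 0 := by
        rw [hb, map_smul, map_smul, map_smul, LinearMap.smul_apply, hMwc, hPP (-1) _ zc hzcW]
        simp
      have e2 : B (gp g (-1) v0) b - B (gp g (-1) b) v0 = c1 * ψ := by
        rw [← hMb, mE, LinearMap.sub_apply, map_sub, LinearMap.sub_apply]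
        congr 1
        rw [gp_adj hg, neg_neg, hB.symm]
      have e3 : B K v0 = c1 * ψ := by rw [hc1, div_mul_cancel₀ _ hψ]
      simp only [map_add, map_sub, LinearMap.sub_apply, LinearMap.add_apply, hv0b,
        hB.symm b v0, hbb, e1, hK] at e3 ⊢
      linear_combination e3 - e2
    rw [map_sub, LinearMap.sub_apply, sub_eq_zero] at key
    exact key
  · simp only [map_add, LinearMap.add_apply, hv0b, hB.symm b v0, hbb, add_zero]
    rw [hv0]
    simp only [map_add, map_smul, LinearMap.add_apply, LinearMap.smul_apply, smul_eq_mul,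
      hB.symm v w0, show B w0 w0 = 0 from hPP0 v v hvW, hc0]
    rw [show B w0 v = ψ from rfl]
    have := hB.two
    field_simp
    ring
  · intro h
    rw [hsx] at h
    apply hψ
    have hσ0 : σ ≠ 0 := fun h0 => by rw [h0, mul_zero] at hσ; exact zero_ne_one hσ
    have h0 : (2 * σ) • v0 = 0 := by
      rw [show (2 * σ) • v0 = σ • (v0 + b) - (-σ • (v0 - b)) by module, h, sub_self]
    have hv00 : v0 = 0 := (smul_eq_zero.1 h0).resolve_left (mul_ne_zero hB.two hσ0)
    have hw00 : w0 = 0 := by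
      have h2 := congrArg (pv (tE g) P) hv00
      rw [hv0, pv_vadd, pv_smul, pv_zero, hw0, ← pv_mul,
        show P * P = r ^ (e - 2) * r ^ e by rw [hP, ← pow_add, ← pow_add]; congr 1; omega,
        pv_mul (tE g) (r ^ (e - 2)), he v hvW, pv_zero, smul_zero, add_zero] at h2
      exact h2
    rw [hψdef, hw00, map_zero, LinearMap.zero_apply]
  · intro h
    rw [htx] at h
    apply hψ
    have hσ0 : σ ≠ 0 := fun h0 => by rw [h0, mul_zero] at hσ; exact zero_ne_one hσ
    have h1 : gp g (-1) (v0 - b) + (v0 + b) = 0 := by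
      refine (smul_eq_zero.1 (show σ • (gp g (-1) (v0 - b) + (v0 + b)) = 0 from ?_)).resolve_left hσ0
      rw [show σ • (gp g (-1) (v0 - b) + (v0 + b)) =
        σ • (v0 + b) - (-σ • gp g (-1) (v0 - b)) by module, h, sub_self]
    have hkill : ∀ z ∈ W, pv (tE g) P (pv (tE g) P z) = 0 := fun z hz => by
      rw [← pv_mul, show P * P = r ^ (e - 2) * r ^ e by
        rw [hP, ← pow_add, ← pow_add]; congr 1; omega, pv_mul, he z hz, pv_zero]
    have h2 := congrArg (pv (tE g) P) h1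
    simp only [pv_vadd, pv_zero, ← pv_gp, pv_vsub, hv0, hb, pv_smul, hMwc, hw0, hkill v hvW,
      hkill zc hzcW, smul_zero, add_zero, sub_zero] at h2
    have h3 : mE g w0 = 0 := by
      have h4 : gp g 1 w0 = -w0 := by
        have := congrArg (gp g 1) (eq_neg_of_add_eq_zero_left h2)
        rw [gp_apply_add, add_neg_cancel, gp_zero, Module.End.one_apply, map_neg] at this
        rw [← hw0] at this
        conv_rhs => rw [this]
        rw [neg_neg]
      rw [mE, LinearMap.sub_apply, h4, hw0, ← hw0, eq_neg_of_add_eq_zero_left h2, sub_self]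
    rw [hψdef, hMinj w0 (hWg.pv_mem P hvW) h3, map_zero, LinearMap.zero_apply]

/-- The exponent one case. -/
theorem exists_twist (hB : Geom B) (hg : g ∈ isoUnits B) (hs : PInv B g ⊤ s)
    {r : F[X]} (hr : Irreducible r) (hrq : ¬ r ∣ X ^ 2 - C 4) {v : V}
    (hrv : pv (tE g) r v = 0) (hsv : s v = -v) (hvv : B v v ≠ 0) :
    Nonempty (Twist B g s) := by
  classical
  set q : F[X] := X ^ 2 - C 4 with hq
  haveI : Fact (Irreducible r) := ⟨hr⟩
  have inv : ∀ p : F[X], ¬ r ∣ p → ∃ c : F[X], r ∣ c * p - 1 := by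
    intro p hp
    obtain ⟨a, b, hab⟩ := (hr.coprime_iff_not_dvd).2 hp
    exact ⟨b, -a, by linear_combination hab⟩
  let Φ : F[X] →ₗ[F] V := (LinearMap.applyₗ v).comp (aeval (tE g)).toLinearMap
  set E0 := LinearMap.range Φ with hE0
  have hmem : ∀ z, z ∈ E0 ↔ ∃ p : F[X], pv (tE g) p v = z := fun z => Iff.rfl
  have hkill : ∀ z ∈ E0, ∀ p : F[X], r ∣ p → pv (tE g) p z = 0 := by
    rintro z hz p ⟨d, rfl⟩
    obtain ⟨p', rfl⟩ := (hmem z).1 hz
    rw [pv_comm, pv_mul, pv_comm (tE g) r d, hrv, pv_zero, pv_zero]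
  have hvE0 : v ∈ E0 := (hmem v).2 ⟨1, by simp⟩
  have hE0pv : ∀ (p : F[X]) (z : V), z ∈ E0 → pv (tE g) p z ∈ E0 := by
    intro p z hz
    obtain ⟨p', rfl⟩ := (hmem z).1 hz
    exact (hmem _).2 ⟨p * p', pv_mul _ _ _ _⟩
  have hsE0 : ∀ z ∈ E0, s z = -z := by
    intro z hz
    obtain ⟨p, rfl⟩ := (hmem z).1 hz
    rw [hs.s_pv ginv_top p trivial, hsv, show -v = (-1 : F) • v by simp, pv_smul, neg_one_smul]
  have hE0nd : ND B E0 := by
    intro x hx h
    obtain ⟨p, rfl⟩ := (hmem x).1 hx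
    by_contra hne
    have hd : ¬ r ∣ p := fun hd => hne (hkill v hvE0 p hd)
    obtain ⟨c, hc⟩ := inv p hd
    have h1 := h (pv (tE g) c v) (hE0pv c v hvE0)
    rw [← pvT_adj hg, ← pv_mul, show c * p = (c * p - 1) + 1 by ring, pv_add, pv_one,
      hkill v hvE0 _ hc, zero_add] at h1
    exact hvv h1
  set E1 := E0.map (mE g) with hE1
  set U := E0 ⊔ E1 with hU
  have hsE1 : ∀ z ∈ E1, s z = z := by
    rintro _ ⟨y, hy, rfl⟩
    rw [hs.s_mE ginv_top trivial, hsE0 y hy, map_neg, neg_neg]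
  have hperp : ∀ a ∈ E0, ∀ c ∈ E1, B a c = 0 := fun a ha c hc =>
    eig_perp hB hs (δ := -1) (by ring) (by rw [hsE0 a ha, neg_one_smul])
      (by rw [hsE1 c hc, neg_one_smul, neg_neg])
  have hUsplit : ∀ x ∈ U, ∃ a ∈ E0, ∃ c ∈ E0, x = a + mE g c := by
    intro x hx
    obtain ⟨a, ha, c', hc', rfl⟩ := Submodule.mem_sup.1 hx
    obtain ⟨c, hc, rfl⟩ := hc'
    exact ⟨a, ha, c, hc, rfl⟩
  have hUin : ∀ a ∈ E0, ∀ c ∈ E0, a + mE g c ∈ U := fun a ha c hc =>
    Submodule.add_mem_sup ha (Submodule.mem_map_of_mem hc)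
  have hUkill : ∀ x ∈ U, ∀ p : F[X], r ∣ p → pv (tE g) p x = 0 := by
    intro x hx p hp
    obtain ⟨a, ha, c, hc, rfl⟩ := hUsplit x hx
    rw [pv_vadd, ← pv_mE, hkill a ha p hp, hkill c hc p hp, map_zero, add_zero]
  have hqE0 : ∀ z ∈ E0, mE g (mE g z) ∈ E0 := fun z hz => by rw [mE_mE]; exact hE0pv _ z hz
  have hUnd : ND B U := by
    intro x hx h
    obtain ⟨a, ha, c, hc, rfl⟩ := hUsplit x hx
    have ha0 : a = 0 := hE0nd a ha fun y hy => by
      have := h y (Submodule.mem_sup_left hy)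
      rw [map_add, LinearMap.add_apply, hB.symm (mE g c),
        hperp y hy _ (Submodule.mem_map_of_mem hc), add_zero] at this
      exact this
    obtain ⟨c', hc'⟩ := inv q hrq
    have hc0 : c = 0 := hE0nd c hc fun y hy => by
      have := h (mE g (pv (tE g) c' y))
        (Submodule.mem_sup_right (Submodule.mem_map_of_mem (hE0pv c' y hy)))
      rw [ha0, zero_add, mE_adj hg, mE_mE, ← pv_mul, ← hq,
        show q * c' = (c' * q - 1) + 1 by ring, pv_add, pv_one, hkill y hy _ hc', zero_add,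
        neg_eq_zero] at this
      exact this
    rw [ha0, hc0, map_zero, add_zero]
  have hTM : ∀ w : V, gp g 1 w = (2⁻¹ : F) • (tE g w + mE g w) := by
    intro w
    simp only [tE, mE, LinearMap.add_apply, LinearMap.sub_apply]
    rw [show gp g 1 w + gp g (-1) w + (gp g 1 w - gp g (-1) w) = (2 : F) • gp g 1 w by
      rw [two_smul]; abel, smul_smul, inv_mul_cancel₀ hB.two, one_smul]
  have hUg : GInv g U := by
    intro x hx
    obtain ⟨a, ha, c, hc, rfl⟩ := hUsplit x hx
    rw [← gp_one, hTM]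
    refine U.smul_mem _ ?_
    have h1 : tE g (a + mE g c) = tE g a + mE g (tE g c) := by
      rw [map_add, ← pv_X (tE g) (mE g c), ← pv_mE, pv_X]
    have h2 : mE g (a + mE g c) = mE g (mE g c) + mE g a := by rw [map_add, add_comm]
    rw [h1, h2]
    exact add_mem (hUin _ (by simpa using hE0pv X a ha) _ (by simpa using hE0pv X c hc))
      (hUin _ (hqE0 c hc) _ ha)
  have hUs : ∀ x ∈ U, s x ∈ U := by
    intro x hx
    obtain ⟨a, ha, c, hc, rfl⟩ := hUsplit x hx
    rw [map_add, hsE0 a ha, hsE1 _ (Submodule.mem_map_of_mem hc)]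
    exact hUin _ (E0.neg_mem ha) _ hc
  -- the field
  haveI : Module.Finite F (AdjoinRoot r) := (AdjoinRoot.powerBasis hr.ne_zero).finite
  haveI : Finite (AdjoinRoot r) := Module.finite_of_finite F
  letI : Fintype (AdjoinRoot r) := Fintype.ofFinite _
  obtain ⟨ν, hν⟩ := FiniteField.exists_nonsquare (F := F)
    (fun h => hB.two (by
      have := ringChar.Nat.cast_ringChar (R := F)
      rw [h] at this; exact_mod_cast this))
  obtain ⟨k0, hk0⟩ := FiniteField.norm_surjective F (AdjoinRoot r) ν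
  have h2K : (2 : AdjoinRoot r) ≠ 0 := by
    intro h
    apply hB.two
    apply (algebraMap F (AdjoinRoot r)).injective
    rw [map_ofNat, map_zero]; exact h
  have hq0 : -AdjoinRoot.mk r q ≠ 0 := neg_ne_zero.2 (by rw [ne_eq, AdjoinRoot.mk_eq_zero]; exact hrq)
  obtain ⟨xx, yy, hxy⟩ := Reflections.exists_sum_sq h2K (one_ne_zero (α := AdjoinRoot r)) hq0 k0
  obtain ⟨a0, rfl⟩ := AdjoinRoot.mk_surjective xx
  obtain ⟨b0, rfl⟩ := AdjoinRoot.mk_surjective yy
  set cP : F[X] := a0 * a0 - q * (b0 * b0) with hcP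
  have hcmk : AdjoinRoot.mk r cP = k0 := by
    rw [← hxy, hcP, map_sub, map_mul, map_mul, map_mul]; ring
  have hcd : ¬ r ∣ cP := by
    intro h
    rw [← AdjoinRoot.mk_eq_zero, hcmk] at h
    rw [h, Algebra.norm_zero] at hk0
    exact hν (hk0 ▸ IsSquare.zero)
  -- the maps
  have hcompl := isCompl_orth hB hUnd
  let ext (f : Module.End F V) : Module.End F V := LinearMap.ofIsCompl hcompl (f.domRestrict U)
    ((1 : Module.End F V).domRestrict (LinearMap.BilinForm.orthogonal B U))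
  have ext1 : ∀ f, ∀ x ∈ U, ext f x = f x := fun f x hx =>
    LinearMap.ofIsCompl_left_apply hcompl ⟨x, hx⟩
  have ext2 : ∀ f, ∀ x ∈ LinearMap.BilinForm.orthogonal B U, ext f x = x := fun f x hx =>
    LinearMap.ofIsCompl_right_apply hcompl ⟨x, hx⟩
  have hdec : ∀ x : V, ∃ a ∈ U, ∃ c ∈ LinearMap.BilinForm.orthogonal B U, x = a + c := by
    intro x
    obtain ⟨a, ha, hb⟩ := exists_split hB hUnd x
    exact ⟨a, ha, x - a, hb, by abel⟩
  set A : Module.End F V := aeval (tE g) a0 + mE g * aeval (tE g) b0 with hA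
  have hAapp : ∀ z, A z = pv (tE g) a0 z + mE g (pv (tE g) b0 z) := fun z => rfl
  have hAU : ∀ x ∈ U, A x ∈ U := fun x hx => by
    rw [hAapp]; exact add_mem (hUg.pv_mem _ hx) (hUg.mE_mem (hUg.pv_mem _ hx))
  have hcU : ∀ x ∈ U, pv (tE g) cP x ∈ U := fun x hx => hUg.pv_mem _ hx
  have hAadj : ∀ x y, B (A x) (A y) = B x (pv (tE g) cP y) := by
    intro x y
    have e1 : B (A x) (A y) = B x (pv (tE g) a0 (A y) - pv (tE g) b0 (mE g (A y))) := by
      rw [hAapp x, map_add, LinearMap.add_apply, pvT_adj hg, mE_adj hg, pvT_adj hg, map_sub]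
      ring
    rw [e1, hAapp y]
    congr 1
    rw [map_add, mE_mE, ← hq, pv_vadd, pv_vadd, pv_mE, pv_mE, hcP, pv_sub (tE g) (a0 * a0),
      pv_mul, pv_mul, pv_mul, pv_comm (tE g) b0 q]
    have : pv (tE g) a0 (pv (tE g) b0 (mE g y)) = pv (tE g) b0 (pv (tE g) a0 (mE g y)) :=
      pv_comm _ _ _ _
    rw [this]
    abel
  obtain ⟨cP', hcP'⟩ := inv cP hcd
  set P := ext (aeval (tE g) cP) with hP
  have hPsurj : ∀ y, ∃ z, P z = y := by
    intro y
    obtain ⟨a, ha, c, hc, rfl⟩ := hdec y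
    refine ⟨pv (tE g) cP' a + c, ?_⟩
    rw [hP, map_add, ext1 _ _ (hUg.pv_mem _ ha), ext2 _ _ hc]
    congr 1
    show pv (tE g) cP (pv (tE g) cP' a) = a
    rw [← pv_mul, show cP * cP' = (cP' * cP - 1) + 1 by ring, pv_add, pv_one, hUkill a ha _ hcP',
      zero_add]
  have hKadj : ∀ x y, B (ext A x) (ext A y) = B x (P y) := by
    intro x y
    obtain ⟨a, ha, c, hc, rfl⟩ := hdec x
    obtain ⟨a', ha', c', hc', rfl⟩ := hdec y
    simp only [hP, map_add, LinearMap.add_apply, ext1 _ _ ha, ext2 _ _ hc, ext1 _ _ ha',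
      ext2 _ _ hc']
    have e1 : B (aeval (tE g) cP a') c = 0 := hc _ (hcU a' ha')
    rw [hAadj, hc' _ (hAU a ha), hc' a ha, hB.symm c, hc _ (hAU a' ha'),
      hB.symm c (aeval (tE g) cP a'), e1]
    rfl
  have hKu : IsUnit (ext A) := by
    rw [LinearMap.isUnit_iff_ker_eq_bot, Submodule.eq_bot_iff]
    intro x hx
    refine hB.nd x fun y => ?_
    obtain ⟨z, rfl⟩ := hPsurj y
    rw [← hKadj, LinearMap.mem_ker.1 hx, map_zero, LinearMap.zero_apply]
  have hcomm : Commute (ext A) (g : Module.End F V) := by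
    refine LinearMap.ext fun x => ?_
    obtain ⟨a, ha, c, hc, rfl⟩ := hdec x
    have hgc : (g : Module.End F V) c ∈ LinearMap.BilinForm.orthogonal B U := by
      have h := ginv_inf_orth hg (U := ⊤) ginv_top hUg c ⟨trivial, hc⟩
      exact h.2
    simp only [Module.End.mul_apply, map_add, ext1 _ _ ha, ext1 _ _ (hUg a ha), ext2 _ _ hc,
      ext2 _ _ hgc]
    congr 1
    rw [← gp_one, hAapp, hAapp, map_add, pv_gp, ← pv_gp 1 b0]
    congr 1
    simp only [mE, LinearMap.sub_apply, map_sub, gp_apply_add, add_comm]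
  have hPs : ∀ x, s (P x) = P (s x) := by
    intro x
    obtain ⟨a, ha, c, hc, rfl⟩ := hdec x
    have hsc : s c ∈ LinearMap.BilinForm.orthogonal B U := fun u hu => by
      rw [← hs.sadj]; exact hc _ (hUs u hu)
    simp only [hP, map_add, ext1 _ _ ha, ext1 _ _ (hUs a ha), ext2 _ _ hc, ext2 _ _ hsc]
    congr 1
    exact hs.s_pv ginv_top cP trivial
  have hmaps : ∀ x ∈ eig (⊤ : Submodule F V) s (-1), P x ∈ eig (⊤ : Submodule F V) s (-1) := by
    intro x hx
    rw [mem_eig] at hx ⊢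
    exact ⟨trivial, by rw [hPs, hx.2, map_smul]⟩
  refine ⟨⟨hKu.unit, P, hcomm, hKadj, hPs, hmaps, ?_⟩⟩
  have hE0le : E0 ≤ eig (⊤ : Submodule F V) s (-1) := fun z hz =>
    mem_eig.2 ⟨trivial, by rw [hsE0 z hz, neg_one_smul]⟩
  set R := P.restrict hmaps with hR
  set Sb : Submodule F ↥(eig (⊤ : Submodule F V) s (-1)) := E0.comap (Submodule.subtype _) with hSb
  have hPE0 : ∀ z ∈ E0, P z = pv (tE g) cP z := fun z hz =>
    ext1 _ z (Submodule.mem_sup_left hz)
  have hf : Sb ≤ Sb.comap R := by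
    intro z hz
    have hz' : (z : V) ∈ E0 := hz
    show P (z : V) ∈ E0
    rw [hPE0 _ hz']; exact hE0pv _ _ hz'
  rw [LinearMap.det_eq_det_mul_det Sb R hf]
  have hquot : Submodule.mapQ Sb Sb R hf = LinearMap.id := by
    refine Submodule.linearMap_qext _ (LinearMap.ext fun z => ?_)
    rw [LinearMap.comp_apply, Submodule.mkQ_apply, Submodule.mapQ_apply, LinearMap.id_comp,
      Submodule.mkQ_apply, Submodule.Quotient.eq]
    show P (z : V) - (z : V) ∈ E0
    obtain ⟨u, hu, c, hc, hz⟩ := hdec (z : V)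
    obtain ⟨a, ha, y, hy, rfl⟩ := hUsplit u hu
    have h1 : s (z : V) = -(z : V) := by rw [(mem_eig.1 z.2).2, neg_one_smul]
    rw [hz, map_add, map_add, hsE0 a ha, hsE1 _ (Submodule.mem_map_of_mem hy)] at h1
    have hsc : s c ∈ LinearMap.BilinForm.orthogonal B U := fun w hw => by
      rw [← hs.sadj]; exact hc _ (hUs w hw)
    have h2 : (2 : F) • mE g y = -(s c + c) := by
      have e : (2 : F) • mE g y + (s c + c) = (-a + mE g y + s c) + (a + mE g y + c) := by
        rw [two_smul]; abel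
      rw [h1, neg_add_cancel] at e
      exact eq_neg_of_add_eq_zero_left e
    have hMy : mE g y = 0 := by
      have h3 : (2 : F) • mE g y = 0 := hUnd _ (U.smul_mem _ (Submodule.mem_sup_right
        (Submodule.mem_map_of_mem hy))) fun w hw => by
          rw [h2, hB.symm, map_neg, map_add, hsc w hw, hc w hw, add_zero, neg_zero]
      exact (smul_eq_zero.1 h3).resolve_left hB.two
    rw [hz, hMy, add_zero, hP, map_add, ext1 _ _ (Submodule.mem_sup_left ha), ext2 _ _ hc]
    rw [show aeval (tE g) cP a + c - (a + c) = pv (tE g) cP a - a from by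
      show pv (tE g) cP a + c - (a + c) = _
      abel]
    exact sub_mem (hE0pv _ a ha) ha
  rw [hquot, LinearMap.det_id, mul_one]
  -- compare with multiplication in the field
  let T0 : Module.End F ↥Sb := LinearMap.restrict
    ((tE g).restrict (p := eig (⊤ : Submodule F V) s (-1)) (q := eig (⊤ : Submodule F V) s (-1))
      fun x hx => by
        rw [mem_eig] at hx ⊢
        exact ⟨trivial, by rw [hs.s_tE ginv_top trivial, hx.2, map_smul]⟩)
    (p := Sb) (q := Sb) fun x hx => by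
      show tE g (x : V) ∈ E0
      simpa using hE0pv X _ hx
  have hT0 : ∀ (p : F[X]) (z : ↥Sb), ((aeval T0 p z : ↥Sb) : ↥(eig (⊤ : Submodule F V) s (-1))).1 =
      pv (tE g) p (z : ↥(eig (⊤ : Submodule F V) s (-1))).1 := by
    intro p
    induction p using Polynomial.induction_on' with
    | add p q hp hq =>
      intro z
      rw [map_add, LinearMap.add_apply, pv_add, ← hp z, ← hq z]
      rfl
    | monomial m c =>
      induction m with
      | zero =>
        intro z
        rw [monomial_zero_left, pv_C, aeval_C, Module.algebraMap_end_apply]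
        rfl
      | succ m ih =>
        intro z
        rw [← monomial_mul_X m c, map_mul, Module.End.mul_apply, ih, aeval_X, pv_mul, pv_X]
        rfl
  have hr0 : aeval T0 r = 0 := by
    refine LinearMap.ext fun z => Subtype.ext (Subtype.ext ?_)
    rw [hT0]; exact hkill _ z.2 r dvd_rfl
  let Ψ : AdjoinRoot r →ₐ[F] Module.End F ↥Sb :=
    Ideal.Quotient.liftₐ _ (aeval T0) (fun p hp => by
      obtain ⟨d, rfl⟩ := Ideal.mem_span_singleton.1 hp
      rw [map_mul, hr0, zero_mul])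
  have hΨ : ∀ p, Ψ (AdjoinRoot.mk r p) = aeval T0 p := fun p => rfl
  let v' : ↥Sb := ⟨⟨v, hE0le hvE0⟩, hvE0⟩
  let φ : AdjoinRoot r →ₗ[F] ↥Sb := (LinearMap.applyₗ v').comp Ψ.toLinearMap
  have hφ : Function.Bijective φ := by
    constructor
    · rw [← LinearMap.ker_eq_bot, Submodule.eq_bot_iff]
      intro k hk
      by_contra hk0
      have h1 : Ψ k v' = 0 := LinearMap.mem_ker.1 hk
      have h2 : v' = Ψ (k⁻¹ * k) v' := by rw [inv_mul_cancel₀ hk0, map_one]; rfl
      rw [map_mul, Module.End.mul_apply, h1, map_zero] at h2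
      have h3 : v = 0 := congrArg (fun z : ↥Sb => (z : ↥(eig (⊤ : Submodule F V) s (-1))).1) h2
      exact hvv (by rw [h3, map_zero])
    · rintro ⟨⟨z, hz1⟩, hz2⟩
      obtain ⟨p, hp⟩ := (hmem z).1 hz2
      refine ⟨AdjoinRoot.mk r p, Subtype.ext (Subtype.ext ?_)⟩
      show ((aeval T0 p v' : ↥Sb) : ↥(eig (⊤ : Submodule F V) s (-1))).1 = z
      rw [hT0]; exact hp
  let φe := LinearEquiv.ofBijective φ hφ
  have hconj : R.restrict hf =
      (φe : AdjoinRoot r →ₗ[F] ↥Sb) ∘ₗ (Algebra.lmul F (AdjoinRoot r) k0) ∘ₗ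
        (φe.symm : ↥Sb →ₗ[F] AdjoinRoot r) := by
    refine LinearMap.ext fun z => ?_
    obtain ⟨k, rfl⟩ := φe.surjective z
    simp only [LinearMap.comp_apply, LinearEquiv.coe_coe, LinearEquiv.symm_apply_apply]
    show R.restrict hf (φ k) = φ (k0 * k)
    show R.restrict hf (φ k) = Ψ (k0 * k) v'
    rw [map_mul, Module.End.mul_apply, ← hcmk, hΨ]
    refine Subtype.ext (Subtype.ext ?_)
    rw [hT0]
    exact hPE0 _ (φ k).2
  rw [hconj, LinearMap.det_conj]
  rwa [← Algebra.norm_apply, hk0]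

end Cfsg.Agent.OreOmega53
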