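import Mathlib

/-!
Bilinear space with an isometry: reversing involutions, eigenspaces, orthogonal splitting.
-/

set_option autoImplicit false
set_option linter.unusedSectionVars false

namespace Cfsg.Agent.OreOmega53

open LinearMap (BilinForm)

variable {F V : Type*} [Field F] [AddCommGroup V] [Module F V] [FiniteDimensional F V]

/-- A symmetric nondegenerate form in odd characteristic. -/
structure Geom (B : BilinForm F V) : Prop where
  symm : ∀ x y, B x y = B y x
  nd : ∀ x, (∀ y, B x y = 0) → x = 0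
  two : (2 : F) ≠ 0

/-- The units preserving a form. -/
def isoUnits (B : BilinForm F V) : Subgroup (Module.End F V)ˣ where
  carrier := {g | ∀ x y, B ((g : Module.End F V) x) ((g : Module.End F V) y) = B x y}
  mul_mem' {a b} ha hb := by
    intro x y
    simp only [Units.val_mul, Module.End.mul_apply]
    rw [ha, hb]
  one_mem' := by intro x y; simp
  inv_mem' {a} ha := by
    intro x y
    have h := ha ((↑a⁻¹ : Module.End F V) x) ((↑a⁻¹ : Module.End F V) y)
    rw [← Module.End.mul_apply, ← Module.End.mul_apply, Units.mul_inv, Module.End.one_apply,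
      Module.End.one_apply] at h
    exact h.symm

variable (B : BilinForm F V) (g : (Module.End F V)ˣ)

/-- Powers of `g` applied to a vector. -/
def gp (i : ℤ) : Module.End F V := ((g ^ i : (Module.End F V)ˣ) : Module.End F V)

variable {g}

theorem gp_add (i j : ℤ) : gp g (i + j) = gp g i * gp g j := by
  simp [gp, zpow_add]

theorem gp_apply_add (i j : ℤ) (x : V) : gp g i (gp g j x) = gp g (i + j) x := by
  rw [gp_add]; rfl

@[simp] theorem gp_zero : gp g 0 = 1 := by simp [gp]

theorem gp_one : gp g 1 = (g : Module.End F V) := by simp [gp]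

theorem g_gp (i : ℤ) (x : V) : (g : Module.End F V) (gp g i x) = gp g (i + 1) x := by
  rw [add_comm, ← gp_apply_add, gp_one]

theorem gp_injective (i : ℤ) : Function.Injective (gp g i) := by
  intro x y h
  have := congrArg (gp g (-i)) h
  simpa [gp_apply_add] using this

variable {B}

theorem gp_isom (hg : g ∈ isoUnits B) (i : ℤ) (x y : V) : B (gp g i x) (gp g i y) = B x y :=
  (isoUnits B).zpow_mem hg i x y

theorem gp_adj (hg : g ∈ isoUnits B) (i : ℤ) (x y : V) : B (gp g i x) y = B x (gp g (-i) y) := by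
  rw [← gp_isom hg i x (gp g (-i) y), gp_apply_add]
  simp

/-- Invariance of a subspace under `g`. -/
def GInv (g : (Module.End F V)ˣ) (U : Submodule F V) : Prop :=
  ∀ x ∈ U, (g : Module.End F V) x ∈ U

theorem GInv.gp_mem {U : Submodule F V} (hU : GInv g U) (i : ℤ) {x : V} (hx : x ∈ U) :
    gp g i x ∈ U := by
  have hinj : Function.Injective (g : Module.End F V) := by
    rw [← gp_one]; exact gp_injective 1
  have hmap : U.map (g : Module.End F V) = U :=
    Submodule.eq_of_le_of_finrank_eq (Submodule.map_le_iff_le_comap.2 hU)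
      (LinearEquiv.finrank_eq (Submodule.equivMapOfInjective _ hinj U)).symm
  induction i using Int.induction_on with
  | zero => simpa using hx
  | succ n ih => rw [← g_gp]; exact hU _ ih
  | pred n ih =>
    rw [← hmap] at ih
    obtain ⟨y, hy, he⟩ := ih
    have hy' : y = gp g (-(n : ℤ) - 1) x := by
      apply hinj
      rw [g_gp, he]; congr 2; ring
    exact hy' ▸ hy

/-- Nondegeneracy of the restricted form. -/
def ND (B : BilinForm F V) (U : Submodule F V) : Prop := ∀ x ∈ U, (∀ y ∈ U, B x y = 0) → x = 0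

theorem nd_top (hB : Geom B) : ND B ⊤ := fun x _ h => hB.nd x fun y => h y trivial

theorem mem_orth {U : Submodule F V} {x : V} :
    x ∈ LinearMap.BilinForm.orthogonal B U ↔ ∀ u ∈ U, B u x = 0 := Iff.rfl

theorem isRefl (hB : Geom B) : B.IsRefl := fun x y h => by rwa [hB.symm]

theorem isCompl_orth (hB : Geom B) {U : Submodule F V} (hU : ND B U) :
    IsCompl U (LinearMap.BilinForm.orthogonal B U) := by
  rw [LinearMap.BilinForm.isCompl_orthogonal_iff_disjoint (isRefl hB), Submodule.disjoint_def]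
  intro x hx hx'
  exact hU x hx fun y hy => by rw [hB.symm]; exact hx' y hy

theorem exists_split (hB : Geom B) {U : Submodule F V} (hU : ND B U) (x : V) :
    ∃ a ∈ U, ∀ u ∈ U, B u (x - a) = 0 := by
  have h : x ∈ U ⊔ LinearMap.BilinForm.orthogonal B U := by
    rw [(isCompl_orth hB hU).sup_eq_top]; trivial
  obtain ⟨a, ha, b, hb, rfl⟩ := Submodule.mem_sup.1 h
  exact ⟨a, ha, by simpa using hb⟩

/-- A vector representing a functional on a nondegenerate subspace. -/
theorem exists_rep (hB : Geom B) {U : Submodule F V} (hU : ND B U) (φ : V →ₗ[F] F) :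
    ∃ y ∈ U, ∀ u ∈ U, B u y = φ u := by
  have hnd : B.Nondegenerate :=
    ⟨fun x h => hB.nd x h, fun x h => hB.nd x fun y => by rw [hB.symm]; exact h y⟩
  let y0 := (LinearMap.BilinForm.toDual B hnd).symm φ
  have hy0 : ∀ u, B y0 u = φ u := fun u => LinearMap.BilinForm.apply_toDual_symm_apply φ u
  obtain ⟨a, ha, hb⟩ := exists_split hB hU y0
  refine ⟨a, ha, fun u hu => ?_⟩
  have := hb u hu
  rw [map_sub, sub_eq_zero] at this
  rw [← this, hB.symm]; exact hy0 u

theorem nd_inf_orth (hB : Geom B) {U U1 : Submodule F V} (hU : ND B U) (hU1 : ND B U1)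
    (hle : U1 ≤ U) : ND B (U ⊓ LinearMap.BilinForm.orthogonal B U1) := by
  intro x hx h
  refine hU x hx.1 fun y hy => ?_
  obtain ⟨a, ha, hb⟩ := exists_split hB hU1 y
  have h1 : B x a = 0 := by rw [hB.symm]; exact hx.2 a ha
  have h2 : B x (y - a) = 0 := h _ ⟨sub_mem hy (hle ha), fun u hu => hb u hu⟩
  rw [map_sub, h1, sub_zero] at h2
  exact h2

theorem ginv_inf_orth (hg : g ∈ isoUnits B) {U U1 : Submodule F V} (hU : GInv g U)
    (hU1 : GInv g U1) : GInv g (U ⊓ LinearMap.BilinForm.orthogonal B U1) := by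
  intro x hx
  refine ⟨hU x hx.1, fun u hu => ?_⟩
  rw [← gp_one]
  have := gp_adj hg (-1) u x
  rw [neg_neg] at this
  rw [← this]
  exact hx.2 _ (hU1.gp_mem _ hu)

/-- An involution of `U` reversing `g`. -/
structure PInv (B : BilinForm F V) (g : (Module.End F V)ˣ) (U : Submodule F V)
    (s : Module.End F V) : Prop where
  maps : ∀ x ∈ U, s x ∈ U
  sq : ∀ x ∈ U, s (s x) = x
  iso : ∀ x ∈ U, ∀ y ∈ U, B (s x) (s y) = B x y
  rev : ∀ x ∈ U, s ((g : Module.End F V) (s ((g : Module.End F V) x))) = x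

/-- An eigenspace inside `U`. -/
def eig (U : Submodule F V) (s : Module.End F V) (σ : F) : Submodule F V :=
  U ⊓ LinearMap.ker (s - σ • (1 : Module.End F V))

theorem mem_eig {U : Submodule F V} {s : Module.End F V} {σ : F} {x : V} :
    x ∈ eig U s σ ↔ x ∈ U ∧ s x = σ • x := by
  simp [eig, sub_eq_zero]

/-- The dimension of the negative space. -/
noncomputable def ng (U : Submodule F V) (s : Module.End F V) : ℕ :=
  Module.finrank F ↥(eig U s (-1))

theorem finrank_eig_add (hB : Geom B) {U : Submodule F V} {s : Module.End F V}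
    (hmaps : ∀ x ∈ U, s x ∈ U) (hsq : ∀ x ∈ U, s (s x) = x) :
    Module.finrank F ↥(eig U s 1) + Module.finrank F ↥(eig U s (-1)) = Module.finrank F ↥U := by
  rw [← Submodule.finrank_sup_add_finrank_inf_eq]
  have hi : eig U s 1 ⊓ eig U s (-1) = ⊥ := by
    rw [Submodule.eq_bot_iff]
    intro x ⟨hx, hx'⟩
    have h1 := (mem_eig.1 hx).2
    rw [(mem_eig.1 hx').2, one_smul, neg_one_smul] at h1
    have : (2 : F) • x = 0 := by rw [two_smul]; nth_rewrite 1 [← h1]; exact neg_add_cancel x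
    exact (smul_eq_zero.1 this).resolve_left hB.two
  have hs : eig U s 1 ⊔ eig U s (-1) = U := by
    refine le_antisymm (sup_le inf_le_left inf_le_left) fun x hx => ?_
    rw [Submodule.mem_sup]
    refine ⟨(2⁻¹ : F) • (x + s x), mem_eig.2 ⟨U.smul_mem _ (U.add_mem hx (hmaps x hx)), ?_⟩,
      (2⁻¹ : F) • (x - s x), mem_eig.2 ⟨U.smul_mem _ (U.sub_mem hx (hmaps x hx)), ?_⟩, ?_⟩
    · rw [one_smul, map_smul, map_add, hsq x hx, add_comm]
    · rw [map_smul, map_sub, hsq x hx, neg_one_smul, ← smul_neg, neg_sub]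
    · rw [← smul_add, show x + s x + (x - s x) = (2 : F) • x by rw [two_smul]; abel, smul_smul,
        inv_mul_cancel₀ hB.two, one_smul]
  rw [hi, hs, finrank_bot, add_zero]

theorem eig_neg (U : Submodule F V) (s : Module.End F V) (σ : F) :
    eig U (-s) σ = eig U s (-σ) := by
  ext x
  rw [mem_eig, mem_eig, LinearMap.neg_apply, neg_eq_iff_eq_neg, neg_smul]

theorem ng_neg_add (hB : Geom B) {U : Submodule F V} {s : Module.End F V}
    (hmaps : ∀ x ∈ U, s x ∈ U) (hsq : ∀ x ∈ U, s (s x) = x) :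
    ng U (-s) + ng U s = Module.finrank F ↥U := by
  rw [ng, ng, eig_neg, neg_neg]
  exact finrank_eig_add hB hmaps hsq

theorem PInv.neg {U : Submodule F V} {s : Module.End F V} (h : PInv B g U s) :
    PInv B g U (-s) where
  maps x hx := by rw [LinearMap.neg_apply]; exact U.neg_mem (h.maps x hx)
  sq x hx := by simp [h.sq x hx]
  iso x hx y hy := by simp [h.iso x hx y hy]
  rev x hx := by simp [h.rev x hx]

theorem PInv.tmaps {U : Submodule F V} (hU : GInv g U) {s : Module.End F V} (h : PInv B g U s) :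
    ∀ x ∈ U, (s * (g : Module.End F V)) x ∈ U := fun x hx => h.maps _ (hU x hx)

theorem PInv.tsq {U : Submodule F V} {s : Module.End F V} (h : PInv B g U s) :
    ∀ x ∈ U, (s * (g : Module.End F V)) ((s * (g : Module.End F V)) x) = x := h.rev

/-- The negative spaces of `s` and `s g` have almost equal dimensions. -/
def Bal (g : (Module.End F V)ˣ) (U : Submodule F V) (s : Module.End F V) : Prop :=
  ng U s ≤ ng U (s * (g : Module.End F V)) + 1 ∧ ng U (s * (g : Module.End F V)) ≤ ng U s + 1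

theorem ng_congr {U : Submodule F V} {s s' : Module.End F V} (h : ∀ x ∈ U, s x = s' x) :
    ng U s = ng U s' := by
  have : eig U s (-1) = eig U s' (-1) := by
    ext x
    rw [mem_eig, mem_eig]
    constructor <;> rintro ⟨h1, h2⟩ <;> refine ⟨h1, ?_⟩
    · rw [← h x h1]; exact h2
    · rw [h x h1]; exact h2
  rw [ng, ng, this]

/-- Gluing two orthogonal pieces. -/
theorem glue (hB : Geom B) (hg : g ∈ isoUnits B) {U U1 : Submodule F V} (hUg : GInv g U)
    (hU1 : ND B U1) (hU1g : GInv g U1) (hle : U1 ≤ U) {s1 s2 : Module.End F V}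
    (h1 : PInv B g U1 s1) (h2 : PInv B g (U ⊓ LinearMap.BilinForm.orthogonal B U1) s2) :
    ∃ s, PInv B g U s ∧ ng U s = ng U1 s1 + ng (U ⊓ LinearMap.BilinForm.orthogonal B U1) s2 ∧
      ng U (s * (g : Module.End F V)) = ng U1 (s1 * (g : Module.End F V)) +
        ng (U ⊓ LinearMap.BilinForm.orthogonal B U1) (s2 * (g : Module.End F V)) := by
  set U2 := U ⊓ LinearMap.BilinForm.orthogonal B U1 with hU2
  have hc := isCompl_orth hB hU1
  have hU2g : GInv g U2 := ginv_inf_orth hg hUg hU1g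
  have hsplit : ∀ x ∈ U, ∃ a ∈ U1, ∃ b ∈ U2, x = a + b := by
    intro x hx
    obtain ⟨a, ha, hb⟩ := exists_split hB hU1 x
    exact ⟨a, ha, x - a, ⟨sub_mem hx (hle ha), hb⟩, by abel⟩
  let s : Module.End F V := LinearMap.ofIsCompl hc (s1.domRestrict U1)
    (s2.domRestrict (LinearMap.BilinForm.orthogonal B U1))
  have hs1 : ∀ a ∈ U1, s a = s1 a := fun a ha => LinearMap.ofIsCompl_left_apply hc ⟨a, ha⟩
  have hs2 : ∀ b ∈ U2, s b = s2 b := fun b hb => LinearMap.ofIsCompl_right_apply hc ⟨b, hb.2⟩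
  have hperp : ∀ a ∈ U1, ∀ b ∈ U2, B a b = 0 := fun a ha b hb => hb.2 a ha
  have key : ∀ (f f1 f2 : Module.End F V), (∀ a ∈ U1, f a = f1 a) → (∀ b ∈ U2, f b = f2 b) →
      (∀ a ∈ U1, f1 a ∈ U1) → (∀ b ∈ U2, f2 b ∈ U2) → ng U f = ng U1 f1 + ng U2 f2 := by
    intro f f1 f2 hf1 hf2 hm1 hm2
    have e : eig U f (-1) = eig U1 f1 (-1) ⊔ eig U2 f2 (-1) := by
      refine le_antisymm ?_ (sup_le ?_ ?_)
      · intro x hx
        obtain ⟨hxU, hfx⟩ := mem_eig.1 hx
        obtain ⟨a, ha, b, hb, rfl⟩ := hsplit x hxU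
        rw [map_add, hf1 a ha, hf2 b hb] at hfx
        have hz : f1 a + a = -(f2 b + b) := by
          rw [neg_one_smul] at hfx
          rw [eq_neg_iff_add_eq_zero, show f1 a + a + (f2 b + b) = (f1 a + f2 b) + (a + b) by abel,
            hfx, neg_add_cancel]
        have h0 : f1 a + a = 0 := by
          refine hU1 _ (U1.add_mem (hm1 a ha) ha) fun y hy => ?_
          rw [hB.symm, hz, map_neg, hperp y hy _ (U2.add_mem (hm2 b hb) hb), neg_zero]
        rw [h0, eq_comm, neg_eq_zero] at hz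
        refine Submodule.mem_sup.2 ⟨a, mem_eig.2 ⟨ha, ?_⟩, b, mem_eig.2 ⟨hb, ?_⟩, rfl⟩
        · rw [neg_one_smul, ← add_eq_zero_iff_eq_neg, h0]
        · rw [neg_one_smul, ← add_eq_zero_iff_eq_neg, hz]
      · intro x hx
        obtain ⟨h, h'⟩ := mem_eig.1 hx
        exact mem_eig.2 ⟨hle h, by rw [hf1 x h, h']⟩
      · intro x hx
        obtain ⟨h, h'⟩ := mem_eig.1 hx
        exact mem_eig.2 ⟨h.1, by rw [hf2 x h, h']⟩
    have hd : eig U1 f1 (-1) ⊓ eig U2 f2 (-1) = ⊥ := by
      rw [Submodule.eq_bot_iff]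
      intro x ⟨hx, hx'⟩
      exact hU1 x hx.1 fun y hy => by rw [hB.symm]; exact hperp y hy x hx'.1
    have := Submodule.finrank_sup_add_finrank_inf_eq (eig U1 f1 (-1)) (eig U2 f2 (-1))
    rw [hd, finrank_bot, add_zero, ← e] at this
    exact this
  refine ⟨s, ⟨?_, ?_, ?_, ?_⟩, key s s1 s2 hs1 hs2 h1.maps h2.maps, key _ _ _
    (fun a ha => ?_) (fun b hb => ?_) (h1.tmaps hU1g) (h2.tmaps hU2g)⟩
  · intro x hx
    obtain ⟨a, ha, b, hb, rfl⟩ := hsplit x hx
    rw [map_add, hs1 a ha, hs2 b hb]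
    exact U.add_mem (hle (h1.maps a ha)) (h2.maps b hb).1
  · intro x hx
    obtain ⟨a, ha, b, hb, rfl⟩ := hsplit x hx
    rw [map_add, hs1 a ha, hs2 b hb, map_add, hs1 _ (h1.maps a ha), hs2 _ (h2.maps b hb),
      h1.sq a ha, h2.sq b hb]
  · intro x hx y hy
    obtain ⟨a, ha, b, hb, rfl⟩ := hsplit x hx
    obtain ⟨c, hc', d, hd, rfl⟩ := hsplit y hy
    simp only [map_add, LinearMap.add_apply, hs1 a ha, hs2 b hb, hs1 c hc', hs2 d hd,
      h1.iso a ha c hc', h2.iso b hb d hd]
    rw [hperp _ (h1.maps a ha) _ (h2.maps d hd), hperp a ha d hd,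
      hB.symm (s2 b) (s1 c), hperp _ (h1.maps c hc') _ (h2.maps b hb),
      hB.symm b c, hperp c hc' b hb]
  · intro x hx
    obtain ⟨a, ha, b, hb, rfl⟩ := hsplit x hx
    rw [map_add, map_add, hs1 _ (hU1g a ha), hs2 _ (hU2g b hb), map_add, map_add,
      hs1 _ (hU1g _ (h1.maps _ (hU1g a ha))), hs2 _ (hU2g _ (h2.maps _ (hU2g b hb))),
      h1.rev a ha, h2.rev b hb]
  · simp only [Module.End.mul_apply]; exact hs1 _ (hU1g a ha)
  · simp only [Module.End.mul_apply]; exact hs2 _ (hU2g b hb)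

/-- Gluing balanced pieces, choosing a sign. -/
theorem glue_bal (hB : Geom B) (hg : g ∈ isoUnits B) {U U1 : Submodule F V} (hUg : GInv g U)
    (hU1 : ND B U1) (hU1g : GInv g U1) (hle : U1 ≤ U) {s1 s2 : Module.End F V}
    (h1 : PInv B g U1 s1) (h2 : PInv B g (U ⊓ LinearMap.BilinForm.orthogonal B U1) s2)
    (hb1 : Bal g U1 s1) (hb2 : Bal g (U ⊓ LinearMap.BilinForm.orthogonal B U1) s2) :
    ∃ s, PInv B g U s ∧ Bal g U s := by
  set U2 := U ⊓ LinearMap.BilinForm.orthogonal B U1 with hU2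
  have hU2g : GInv g U2 := ginv_inf_orth hg hUg hU1g
  obtain ⟨s, hs, e1, e2⟩ := glue hB hg hUg hU1 hU1g hle h1 h2
  obtain ⟨s', hs', e1', e2'⟩ := glue hB hg hUg hU1 hU1g hle h1 h2.neg
  have n1 := ng_neg_add hB h2.maps h2.sq
  have n2 := ng_neg_add hB (h2.tmaps hU2g) h2.tsq
  rw [← neg_mul] at n2
  simp only [← hU2] at e1 e2 e1' e2' hb2 n1 n2
  unfold Bal at hb1 hb2 ⊢
  by_cases hh : ng U s ≤ ng U (s * (g : Module.End F V)) + 1 ∧
      ng U (s * (g : Module.End F V)) ≤ ng U s + 1
  · exact ⟨s, hs, hh⟩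
  · exact ⟨s', hs', by omega, by omega⟩

end Cfsg.Agent.OreOmega53
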