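import Cfsg.Agent.OreOmega53.Balance

/-!
Balanced involutions on the unipotent parts, and the balance theorem.
-/

set_option autoImplicit false
set_option linter.unusedSectionVars false

namespace Cfsg.Agent.OreOmega53

open LinearMap (BilinForm)
open Polynomial

variable {F V : Type*} [Field F] [AddCommGroup V] [Module F V] [FiniteDimensional F V]
variable {B : BilinForm F V} {g : (Module.End F V)ˣ}

/-- `g - ε`. -/
def nE (g : (Module.End F V)ˣ) (ε : F) : Module.End F V := gp g 1 - ε • 1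

/-- `g⁻¹ - ε`. -/
def nE' (g : (Module.End F V)ˣ) (ε : F) : Module.End F V := gp g (-1) - ε • 1

theorem nE_adj (hg : g ∈ isoUnits B) (ε : F) (x y : V) :
    B (nE g ε x) y = B x (nE' g ε y) := by
  simp [nE, nE', gp_adj hg, map_sub]

theorem gp_commute_nE (i : ℤ) (ε : F) : Commute (gp g i) (nE g ε) :=
  (gp_commute i 1).sub_right ((Commute.one_right _).smul_right ε)

theorem pvN_gp (i : ℤ) (ε : F) (p : F[X]) (x : V) :
    gp g i (pv (nE g ε) p x) = pv (nE g ε) p (gp g i x) :=
  pv_intertwine (U := ⊤) (fun _ _ => trivial)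
    (fun y _ => LinearMap.congr_fun (gp_commute_nE (g := g) i ε).eq y) p trivial

theorem GInv.nE_mem {U : Submodule F V} (hU : GInv g U) (ε : F) {x : V} (hx : x ∈ U) :
    nE g ε x ∈ U := by
  simp only [nE, LinearMap.sub_apply, LinearMap.smul_apply, Module.End.one_apply]
  exact sub_mem (hU.gp_mem _ hx) (U.smul_mem _ hx)

theorem GInv.nE'_mem {U : Submodule F V} (hU : GInv g U) (ε : F) {x : V} (hx : x ∈ U) :
    nE' g ε x ∈ U := by
  simp only [nE', LinearMap.sub_apply, LinearMap.smul_apply, Module.End.one_apply]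
  exact sub_mem (hU.gp_mem _ hx) (U.smul_mem _ hx)

theorem pv_X_pow (R : Module.End F V) (n : ℕ) (x : V) : pv R (X ^ n) x = (R ^ n) x := by
  simp [pv]

theorem nE'_eq {ε : F} (hε : ε * ε = 1) : nE' g ε = (-ε) • (gp g (-1) * nE g ε) := by
  rw [nE, mul_sub, mul_smul_comm, mul_one, ← gp_add, neg_add_cancel, gp_zero, smul_sub, smul_smul,
    neg_mul, hε, nE']
  module

theorem ker_nE'_pow {ε : F} (hε : ε * ε = 1) (n : ℕ) {x : V} (hx : (nE g ε ^ n) x = 0) :
    (nE' g ε ^ n) x = 0 := by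
  rw [nE'_eq hε, _root_.smul_pow, (gp_commute_nE (g := g) (-1) ε).mul_pow, LinearMap.smul_apply,
    Module.End.mul_apply, hx, map_zero, smul_zero]

/-- The unipotent part for the sign `ε` of an invariant nondegenerate subspace. -/
theorem nd_unip (hg : g ∈ isoUnits B) {U : Submodule F V} (hU : ND B U) (hUg : GInv g U) {ε : F}
    (hε : ε * ε = 1) {n : ℕ} (hn : Module.finrank F V ≤ n) :
    ND B (U ⊓ LinearMap.ker (nE g ε ^ n)) :=
  nd_fitting (R := nE g ε) (R' := nE' g ε) hU (fun _ h => hUg.nE_mem ε h)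
    (fun x y => by
      simp [nE, nE', gp_adj hg, map_sub, map_smul]) hn
    (fun x _ h => ker_nE'_pow hε n h)

theorem ginv_unip {U : Submodule F V} (hUg : GInv g U) {ε : F} {n : ℕ} :
    GInv g (U ⊓ LinearMap.ker (nE g ε ^ n)) := by
  intro x hx
  refine ⟨hUg x hx.1, ?_⟩
  rw [SetLike.mem_coe, LinearMap.mem_ker, ← pv_X_pow, ← gp_one, ← pvN_gp, pv_X_pow,
    LinearMap.mem_ker.1 hx.2, map_zero]

/-- A piece in a unipotent part. -/
theorem piece_unip (hB : Geom B) (hg : g ∈ isoUnits B) {U : Submodule F V} (hUg : GInv g U)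
    (hU : ND B U) {ε : F} (hε : ε * ε = 1) {x0 : V} (hx0 : x0 ∈ U) (hx0ne : x0 ≠ 0)
    (hN0 : nE g ε x0 = 0) :
    ∃ U1, U1 ≤ U ∧ U1 ≠ ⊥ ∧ ND B U1 ∧ GInv g U1 ∧ ∃ s, PInv B g U1 s ∧ Bal g U1 s := by
  classical
  set n := Module.finrank F V with hn
  have hn1 : 1 ≤ n := by
    rw [hn]; exact Nat.one_le_iff_ne_zero.2 fun h0 => hx0ne (by
      haveI := Module.finrank_zero_iff.1 h0; exact Subsingleton.elim _ _)
  set W := U ⊓ LinearMap.ker (nE g ε ^ n) with hW
  have hWnd : ND B W := nd_unip hg hU hUg hε le_rfl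
  have hWg : GInv g W := ginv_unip hUg
  have hW0 : W ≠ ⊥ := by
    intro h
    refine hx0ne ((Submodule.eq_bot_iff W).1 h x0 ⟨hx0, ?_⟩)
    rw [SetLike.mem_coe, LinearMap.mem_ker, show n = n - 1 + 1 by omega, pow_succ,
      Module.End.mul_apply, hN0, map_zero]
  obtain ⟨e, he1, he, y1, hy1, hy1e⟩ := exists_exponent (nE g ε) X (W := W) (n := n) hW0
    (fun z hz => by rw [pv_X_pow]; exact LinearMap.mem_ker.1 hz.2)
  have hN'mem : ∀ (U' : Submodule F V), GInv g U' → ∀ (c : F[X]) {w : V}, w ∈ U' →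
      pv (nE' g ε) c w ∈ U' :=
    fun U' hU' c w hw => OreOmega53.pv_mem (fun _ h => hU'.nE'_mem ε h) c hw
  have hNmem : ∀ (U' : Submodule F V), GInv g U' → ∀ (c : F[X]) {w : V}, w ∈ U' →
      pv (nE g ε) c w ∈ U' :=
    fun U' hU' c w hw => OreOmega53.pv_mem (fun _ h => hU'.nE_mem ε h) c hw
  have hadj : ∀ (c : F[X]) (a b : V), B (pv (nE g ε) c a) b = B a (pv (nE' g ε) c b) :=
    pv_adj (nE_adj hg ε)
  have hpoly : ∀ i : ℤ, ∃ p : F[X], ∀ w ∈ W, gp g i w = pv (nE g ε) p w := by
    intro i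
    induction i using Int.induction_on with
    | zero => exact ⟨1, fun w _ => by simp⟩
    | succ k ih =>
      obtain ⟨p, hp⟩ := ih
      refine ⟨(X + C ε) * p, fun w hw => ?_⟩
      rw [pv_mul, ← hp w hw, pv_add, pv_X, pv_C, nE]
      simp only [LinearMap.sub_apply, LinearMap.smul_apply, Module.End.one_apply, gp_apply_add]
      rw [sub_add_cancel, add_comm]
    | pred k ih =>
      obtain ⟨p, hp⟩ := ih
      let q : F[X] := C ε * ∑ j ∈ Finset.range e, (-(C ε * X)) ^ j
      have hq : ∀ w ∈ W, gp g (-1) w = pv (nE g ε) q w := by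
        intro w hw
        apply gp_injective (g := g) 1
        rw [gp_apply_add, add_neg_cancel, gp_zero, Module.End.one_apply]
        have h1 : gp g 1 (pv (nE g ε) q w) = pv (nE g ε) ((X + C ε) * q) w := by
          rw [pv_mul (nE g ε) (X + C ε) q, pv_add, pv_X, pv_C, nE]
          simp
        have h2 : (X + C ε) * q = 1 - (-(C ε * X)) ^ e := by
          rw [← geom_sum_mul_neg (-(C ε * X)) e]
          have hc : C ε * C ε = (1 : F[X]) := by rw [← C_mul, hε, C_1]
          simp only [q]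
          linear_combination (∑ j ∈ Finset.range e, (-(C ε * X)) ^ j) * hc
        rw [h1, h2, pv_sub, pv_one, show (-(C ε * X)) ^ e = (-C ε) ^ e * X ^ e by
          rw [← mul_pow]; ring, pv_mul, he w hw, pv_zero, sub_zero]
      refine ⟨q * p, fun w hw => ?_⟩
      rw [pv_mul, ← hp w hw, ← hq _ (hWg.gp_mem _ hw), gp_apply_add]
      congr 2; ring
  have hspan : ∀ x ∈ W, ∀ z ∈ cyc g x, ∃ p : F[X], z = pv (nE g ε) p x := by
    intro x hx z hz
    refine Submodule.span_induction (p := fun z _ => ∃ p : F[X], z = pv (nE g ε) p x) ?_ ?_ ?_ ?_ hz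
    · rintro _ ⟨i, rfl⟩
      obtain ⟨p, hp⟩ := hpoly i
      exact ⟨p, hp x hx⟩
    · exact ⟨0, by simp [pv]⟩
    · rintro _ _ _ _ ⟨p, rfl⟩ ⟨p', rfl⟩; exact ⟨p + p', by rw [pv_add]⟩
    · rintro c _ _ ⟨p, rfl⟩; exact ⟨C c * p, by rw [pv_C_mul]⟩
  by_cases hex : ∃ x ∈ W, B (pv (nE g ε) (X ^ (e - 1)) x) x ≠ 0
  · obtain ⟨x, hxW, hxh⟩ := hex
    have hxne : x ≠ 0 := fun h => hxh (by rw [h, map_zero])
    have hnd : ND B (cyc g x) := by
      intro z hz hperp
      obtain ⟨p, rfl⟩ := hspan x hxW z hz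
      by_cases hd : X ^ e ∣ p
      · obtain ⟨d, rfl⟩ := hd
        rw [mul_comm, pv_mul, he x hxW, pv_zero]
      · exfalso
        obtain ⟨c, d, hcd⟩ := exists_mul_top irreducible_X hd
        apply hxh
        rw [show (X : F[X]) ^ (e - 1) = c * p - d * X ^ e by linear_combination -hcd, pv_sub,
          pv_mul (nE g ε) d, he x hxW, pv_zero, sub_zero, pv_mul, hadj]
        exact hperp _ (hN'mem _ (cyc_ginv x) c (self_mem_cyc x))
    obtain ⟨s, hs, hb⟩ := bal_cyc hB hg hxne hnd
    refine ⟨cyc g x, cyc_le hUg hxW.1, fun h => hxne ?_, hnd, cyc_ginv x, s, hs, hb⟩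
    exact (Submodule.eq_bot_iff _).1 h x (self_mem_cyc x)
  push Not at hex
  set h := pv (nE g ε) (X ^ (e - 1)) with hh
  have hskew : ∀ u ∈ W, ∀ v ∈ W, B (h u) v = -B (h v) u := by
    intro u hu v hv
    have h1 := hex (u + v) (add_mem hu hv)
    simp only [hh, pv_vadd, map_add, LinearMap.add_apply] at h1
    rw [hex u hu, hex v hv] at h1
    simp only [hh]
    linear_combination h1
  set x := y1 with hxdef
  have hxW : x ∈ W := hy1
  obtain ⟨y0, hy0, hy0h⟩ : ∃ y0 ∈ W, B (h x) y0 ≠ 0 := by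
    by_contra hc
    push Not at hc
    exact hy1e (hWnd _ (hNmem _ hWg _ hxW) hc)
  have hXdvd : ∀ w ∈ W, h w ≠ 0 → ∀ p : F[X], pv (nE g ε) p w = 0 → X ^ e ∣ p := by
    intro w hw hne p hp
    by_contra hd
    obtain ⟨c, d, hcd⟩ := exists_mul_top irreducible_X hd
    apply hne
    simp only [hh]
    rw [show (X : F[X]) ^ (e - 1) = c * p - d * X ^ e by linear_combination -hcd, pv_sub,
      pv_mul (nE g ε) d, he w hw, pv_zero, pv_mul, hp, pv_zero, sub_zero]
  -- the reflected functional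
  let L := Finsupp.linearCombination F (fun i : ℤ => gp g i x)
  let Lφ := Finsupp.linearCombination F (fun i : ℤ => B (gp g (-i) x) y0)
  have hker : ∀ a, L a = 0 → Lφ a = 0 := by
    intro a ha
    choose pf hpf using hpoly
    let P : F[X] := a.sum fun i c => C c * pf i
    have hP : ∀ w ∈ W, pv (nE g ε) P w = a.sum fun i c => c • gp g i w := by
      intro w hw
      simp only [P, Finsupp.sum, pv, map_sum, LinearMap.sum_apply]
      refine Finset.sum_congr rfl fun i _ => ?_
      show pv (nE g ε) (C (a i) * pf i) w = _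
      rw [pv_C_mul, hpf i w hw]
    have h0 : pv (nE g ε) P x = 0 := by
      rw [hP x hxW, ← ha]
      simp [L, Finsupp.linearCombination_apply]
    obtain ⟨d, hd⟩ := hXdvd x hxW hy1e P h0
    have h1 : (a.sum fun i c => c • gp g i y0) = 0 := by
      rw [← hP y0 hy0, hd, mul_comm, pv_mul, he y0 hy0, pv_zero]
    have h2 := congrArg (fun v => B x v) h1
    simp only [map_zero, Finsupp.sum, map_sum, map_smul] at h2
    simp only [Lφ, Finsupp.linearCombination_apply, Finsupp.sum]
    rw [← h2]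
    refine Finset.sum_congr rfl fun i _ => ?_
    rw [gp_adj hg, neg_neg]
  obtain ⟨R, hR⟩ := L.rangeRestrict.exists_rightInverse_of_surjective (LinearMap.range_rangeRestrict L)
  obtain ⟨φ, hφ⟩ := LinearMap.exists_extend (Lφ.comp R)
  obtain ⟨yt, hyt, hyt'⟩ := exists_rep hB hWnd φ
  have hφi : ∀ i : ℤ, B (gp g i x) yt = B (gp g (-i) x) y0 := by
    intro i
    rw [hyt' _ (hWg.gp_mem i hxW)]
    have hL : L (Finsupp.single i 1) = gp g i x := by simp [L]
    have h1 := LinearMap.congr_fun hφ ⟨L (Finsupp.single i 1), _, rfl⟩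
    rw [LinearMap.comp_apply, Submodule.subtype_apply] at h1
    have h2 : Lφ (R ⟨L (Finsupp.single i 1), _, rfl⟩) = Lφ (Finsupp.single i 1) := by
      rw [← sub_eq_zero, ← map_sub]
      apply hker
      rw [map_sub, sub_eq_zero]
      exact congrArg Subtype.val (LinearMap.congr_fun hR ⟨L (Finsupp.single i 1), _, rfl⟩)
    rw [← hL, show φ (L (Finsupp.single i 1)) = Lφ (R ⟨_, _, rfl⟩) from h1, h2]
    simp [Lφ]
  have hφp : ∀ (p : F[X]) (i : ℤ),
      B (gp g i (pv (nE g ε) p x)) yt = B (gp g (-i) (pv (nE' g ε) p x)) y0 := by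
    intro p
    induction p using Polynomial.induction_on' with
    | add p q hp hq => intro i; simp [map_add, hp, hq]
    | monomial m c =>
      intro i
      rw [← C_mul_X_pow_eq_monomial, pv_C_mul, pv_C_mul, map_smul, map_smul, map_smul, map_smul,
        LinearMap.smul_apply, LinearMap.smul_apply]
      congr 1
      induction m generalizing i with
      | zero => simpa using hφi i
      | succ m ih =>
        rw [pow_succ', pv_mul, pv_mul, pv_X, pv_X, nE, nE']
        simp only [LinearMap.sub_apply, LinearMap.smul_apply, Module.End.one_apply, map_sub,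
          map_smul, LinearMap.smul_apply, gp_apply_add]
        rw [show gp g (i + 1) (pv (gp g 1 - ε • 1) (X ^ m) x) =
          gp g (i + 1) (pv (nE g ε) (X ^ m) x) from rfl]
        rw [show pv (gp g 1 - ε • 1) (X ^ m) x = pv (nE g ε) (X ^ m) x from rfl,
          show pv (gp g (-1) - ε • 1) (X ^ m) x = pv (nE' g ε) (X ^ m) x from rfl, ih, ih]
        congr 4; ring
  set y := y0 - yt with hy
  have hyW : y ∈ W := sub_mem hy0 hyt
  have hanti : ∀ i : ℤ, B (gp g i x) y = -B (gp g (-i) x) y := by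
    intro i
    simp only [hy, map_sub, hφi, neg_neg]
    ring
  have hxy : B (h x) y ≠ 0 := by
    have e1 : B (h x) yt = -B (h x) y0 := by
      have h1 := hφp (X ^ (e - 1)) 0
      simp only [neg_zero, gp_zero, Module.End.one_apply] at h1
      rw [hskew x hxW y0 hy0, neg_neg, hh, h1, hB.symm (pv (nE g ε) _ y0), ← hB.symm,
        ← hadj, hB.symm]
    rw [hy, map_sub, e1, sub_neg_eq_add, ← two_mul]
    exact mul_ne_zero hB.two hy0h
  have hyx : B (h y) x ≠ 0 := by rw [hskew y hyW x hxW]; exact neg_ne_zero.2 hxy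
  have hhy : h y ≠ 0 := fun h0 => hyx (by rw [h0, map_zero, LinearMap.zero_apply])
  have key : ∀ p k : F[X],
      (∀ c : F[X], B (pv (nE g ε) (c * p) x + pv (nE g ε) (c * k) y) x = 0 ∧
        B (pv (nE g ε) (c * p) x + pv (nE g ε) (c * k) y) y = 0) → X ^ e ∣ p ∧ X ^ e ∣ k := by
    intro p k H
    by_contra hnot
    have hex' : ∃ i, i < e ∧ (p.coeff i ≠ 0 ∨ k.coeff i ≠ 0) := by
      by_contra hc
      push Not at hc
      exact hnot ⟨X_pow_dvd_iff.2 fun d hd => (hc d hd).1, X_pow_dvd_iff.2 fun d hd => (hc d hd).2⟩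
    obtain ⟨hie, hi⟩ := Nat.find_spec hex'
    set i := Nat.find hex'
    have hlow : ∀ j < i, p.coeff j = 0 ∧ k.coeff j = 0 := fun j hj => by
      have := Nat.find_min hex' hj
      push Not at this
      exact this (by omega)
    have top : ∀ q : F[X], (∀ j < i, q.coeff j = 0) → ∀ w ∈ W,
        pv (nE g ε) (X ^ (e - 1 - i) * q) w = q.coeff i • h w := by
      intro q hq w hw
      have hdvd : X ^ e ∣ X ^ (e - 1 - i) * q - C (q.coeff i) * X ^ (e - 1) := by
        rw [X_pow_dvd_iff]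
        intro d hd
        rw [coeff_sub, coeff_X_pow_mul', coeff_C_mul_X_pow]
        by_cases hde : d = e - 1
        · subst hde
          rw [if_pos (by omega), if_pos rfl, show e - 1 - (e - 1 - i) = i by omega, sub_self]
        · rw [if_neg hde]
          split
          · rw [hq _ (by omega), sub_zero]
          · rw [sub_zero]
      obtain ⟨d, hd⟩ := hdvd
      rw [show X ^ (e - 1 - i) * q = C (q.coeff i) * X ^ (e - 1) + d * X ^ e by
        linear_combination hd, pv_add, pv_mul (nE g ε) d, he w hw, pv_zero, add_zero, pv_C_mul]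
    obtain ⟨H1, H2⟩ := H (X ^ (e - 1 - i))
    rw [top p (fun j hj => (hlow j hj).1) x hxW, top k (fun j hj => (hlow j hj).2) y hyW,
      map_add, LinearMap.add_apply, map_smul, map_smul, LinearMap.smul_apply,
      LinearMap.smul_apply] at H1 H2
    have hxx : B (h x) x = 0 := hex x hxW
    have hyy : B (h y) y = 0 := hex y hyW
    rw [hxx, smul_zero, zero_add, smul_eq_mul] at H1
    rw [hyy, smul_zero, add_zero, smul_eq_mul] at H2
    rcases hi with hi | hi
    · exact hxy ((mul_eq_zero.1 H2).resolve_left hi)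
    · exact hyx ((mul_eq_zero.1 H1).resolve_left hi)
  set U1 := cyc g x ⊔ cyc g y with hU1
  have hU1g : GInv g U1 := by
    intro z hz
    obtain ⟨a, ha, b, hb, rfl⟩ := Submodule.mem_sup.1 hz
    rw [map_add]
    exact Submodule.add_mem_sup (cyc_ginv x a ha) (cyc_ginv y b hb)
  have hnd : ND B U1 := by
    intro z hz hperp
    obtain ⟨a, ha, b, hb, rfl⟩ := Submodule.mem_sup.1 hz
    obtain ⟨p, rfl⟩ := hspan x hxW a ha
    obtain ⟨k, rfl⟩ := hspan y hyW b hb
    obtain ⟨⟨p', rfl⟩, ⟨k', rfl⟩⟩ := key p k fun c => by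
      rw [pv_mul, pv_mul, ← pv_vadd]
      refine ⟨?_, ?_⟩ <;> rw [hadj] <;> refine hperp _ (hN'mem _ hU1g c ?_)
      · exact Submodule.mem_sup_left (self_mem_cyc x)
      · exact Submodule.mem_sup_right (self_mem_cyc y)
    rw [mul_comm, pv_mul, he x hxW, pv_zero, zero_add, mul_comm, pv_mul, he y hyW, pv_zero]
  have hdisj : ∀ p k : F[X], pv (nE g ε) p x + pv (nE g ε) k y = 0 →
      pv (nE g ε) p x = 0 := by
    intro p k h0
    obtain ⟨⟨p', rfl⟩, -⟩ := key p k fun c => by
      rw [pv_mul, pv_mul, ← pv_vadd, h0, pv_zero]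
      simp
    rw [mul_comm, pv_mul, he x hxW, pv_zero]
  have hinf : cyc g x ⊓ cyc g y = ⊥ := by
    rw [Submodule.eq_bot_iff]
    intro z ⟨hz1, hz2⟩
    obtain ⟨p, rfl⟩ := hspan x hxW z hz1
    obtain ⟨k, hk⟩ := hspan y hyW _ hz2
    refine hdisj p (-k) ?_
    have : pv (nE g ε) (-k) y = -pv (nE g ε) k y := by simp [pv]
    rw [this, ← hk, add_neg_cancel]
  have hdim : Module.finrank F ↥(cyc g x) = Module.finrank F ↥(cyc g y) := by
    let Lx : F[X] →ₗ[F] V := (LinearMap.applyₗ x).comp (aeval (nE g ε)).toLinearMap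
    let Ly : F[X] →ₗ[F] V := (LinearMap.applyₗ y).comp (aeval (nE g ε)).toLinearMap
    have hr : ∀ w ∈ W, LinearMap.range ((LinearMap.applyₗ w).comp (aeval (nE g ε)).toLinearMap :
        F[X] →ₗ[F] V) = cyc g w := by
      intro w hw
      refine le_antisymm ?_ fun z hz => ?_
      · rintro _ ⟨p, rfl⟩
        exact hNmem _ (cyc_ginv w) p (self_mem_cyc w)
      · obtain ⟨p, rfl⟩ := hspan w hw z hz
        exact ⟨p, rfl⟩
    have hk : LinearMap.ker Lx = LinearMap.ker Ly := by
      ext p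
      simp only [LinearMap.mem_ker]
      show pv (nE g ε) p x = 0 ↔ pv (nE g ε) p y = 0
      constructor <;> intro h0
      · obtain ⟨d, rfl⟩ := hXdvd x hxW hy1e p h0
        rw [mul_comm, pv_mul, he y hyW, pv_zero]
      · obtain ⟨d, rfl⟩ := hXdvd y hyW hhy p h0
        rw [mul_comm, pv_mul, he x hxW, pv_zero]
    rw [← hr x hxW, ← hr y hyW]
    exact LinearEquiv.finrank_eq (Lx.quotKerEquivRange.symm.trans
      ((Submodule.quotEquivOfEq _ _ hk).trans Ly.quotKerEquivRange))
  let w : ℤ ⊕ ℤ → V := Sum.elim (fun i => gp g i x) (fun i => gp g i y)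
  let w' : ℤ ⊕ ℤ → V := Sum.elim (fun i => gp g (-i) x) (fun i => -gp g (-i) y)
  have hmx : ∀ i, gp g i x ∈ U1 := fun i => Submodule.mem_sup_left (gp_mem_cyc x i)
  have hmy : ∀ i, gp g i y ∈ U1 := fun i => Submodule.mem_sup_right (gp_mem_cyc y i)
  have hU1s : U1 = Submodule.span F (Set.range w) := by
    rw [hU1, cyc, cyc, ← Submodule.span_union]
    congr 1
    exact (Set.Sum.elim_range _ _).symm
  have hiso : ∀ i j, B (w' i) (w' j) = B (w i) (w j) := by
    have hsymg : ∀ (z : V) (i j : ℤ), B (gp g (-i) z) (gp g (-j) z) = B (gp g i z) (gp g j z) := by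
      intro z i j
      rw [gp_adj hg (-i), gp_adj hg i, gp_apply_add, gp_apply_add, hB.symm z (gp g (-i + j) z),
        gp_adj hg (-i + j)]
      congr 2; congr 1; ring
    have hcross : ∀ i j : ℤ, B (gp g (-i) x) (-gp g (-j) y) = B (gp g i x) (gp g j y) := by
      intro i j
      have e1 : ∀ a b : ℤ, B (gp g a x) (gp g b y) = B (gp g (a - b) x) y := fun a b => by
        rw [sub_eq_add_neg, add_comm, ← gp_apply_add, gp_adj hg (-b), neg_neg]
      rw [map_neg, e1, e1, hanti (-i - -j), neg_neg]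
      congr 3; ring
    rintro (i | i) (j | j) <;> simp only [w, w', Sum.elim_inl, Sum.elim_inr]
    · exact hsymg x i j
    · exact hcross i j
    · rw [hB.symm, hcross, hB.symm]
    · simp only [map_neg, LinearMap.neg_apply, neg_neg]; exact hsymg y i j
  obtain ⟨s, hs, hsw⟩ := exists_pinv_of_family (g := g) (U := U1) (w := w) (w' := w') hU1s hnd hU1g
    (by
      rintro (i | i) <;> simp only [w', Sum.elim_inl, Sum.elim_inr]
      · exact hmx _
      · exact U1.neg_mem (hmy _))
    (by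
      rw [hU1s, Submodule.span_le]
      rintro _ ⟨i | i, rfl⟩
      · exact Submodule.subset_span ⟨Sum.inl (-i), by simp [w, w']⟩
      · rw [SetLike.mem_coe, show w (Sum.inr i) = -(w' (Sum.inr (-i))) by simp [w, w']]
        exact Submodule.neg_mem _ (Submodule.subset_span ⟨_, rfl⟩))
    hiso
    (fun s hs i => by
      rcases i with i | i
      · have := hs (Sum.inl (-i))
        simpa [w, w'] using this
      · have := hs (Sum.inr (-i))
        simp only [w, w', Sum.elim_inr, neg_neg] at this ⊢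
        rw [map_neg, this, neg_neg])
    (fun s hs i => by
      rcases i with i | i
      · exact rev_gp (c := 1) (one_mul 1)
          (fun j => by rw [one_smul]; exact hs (Sum.inl j)) i
      · exact rev_gp (c := -1) (by ring)
          (fun j => by rw [neg_one_smul]; exact hs (Sum.inr j)) i)
  refine ⟨U1, sup_le (cyc_le hUg hxW.1) (cyc_le hUg hyW.1), fun hb => hy1e ?_, hnd, hU1g, s, hs, ?_⟩
  · have : x = 0 := (Submodule.eq_bot_iff _).1 hb x (Submodule.mem_sup_left (self_mem_cyc x))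
    simp only [hh, this, pv_zero]
  have hD : 0 < Module.finrank F ↥(cyc g x) := by
    rw [Nat.pos_iff_ne_zero, ne_eq, Submodule.finrank_eq_zero]
    exact fun hb => hy1e (by simp only [hh, (Submodule.eq_bot_iff _).1 hb x (self_mem_cyc x), pv_zero])
  obtain ⟨a1, a2, a3⟩ := cyc_bounds x (s := s) (c := 1) (one_mul 1)
    (fun i => by rw [one_smul]; exact hsw (Sum.inl i)) hD
  obtain ⟨b1, b2, b3⟩ := cyc_bounds y (s := s) (c := -1) (by ring)
    (fun i => by rw [neg_one_smul]; exact hsw (Sum.inr i)) (hdim ▸ hD)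
  rw [neg_neg] at b2
  have hsum : ∀ (f : Module.End F V) (σ : F),
      Module.finrank F ↥(eig (cyc g x) f σ) + Module.finrank F ↥(eig (cyc g y) f σ) ≤
        Module.finrank F ↥(eig U1 f σ) := by
    intro f σ
    have h1 := Submodule.finrank_sup_add_finrank_inf_eq (eig (cyc g x) f σ) (eig (cyc g y) f σ)
    have h2 : eig (cyc g x) f σ ⊓ eig (cyc g y) f σ = ⊥ := by
      rw [eq_bot_iff, ← hinf]; exact inf_le_inf inf_le_left inf_le_left
    rw [h2, finrank_bot, add_zero] at h1
    rw [← h1]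
    exact Submodule.finrank_mono (sup_le (inf_le_inf le_sup_left le_rfl)
      (inf_le_inf le_sup_right le_rfl))
  have hU1dim : Module.finrank F ↥U1 = 2 * Module.finrank F ↥(cyc g x) := by
    have h1 := Submodule.finrank_sup_add_finrank_inf_eq (cyc g x) (cyc g y)
    rw [hinf, finrank_bot, add_zero, ← hdim] at h1
    rw [hU1, h1]; ring
  have s1 := hsum s 1
  have s2 := hsum s (-1)
  have s3 := hsum (s * (g : Module.End F V)) 1
  have s4 := hsum (s * (g : Module.End F V)) (-1)
  have a4 := a3 1 (one_mul 1)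
  have a5 := a3 (-1) (by ring)
  have b4 := b3 1 (one_mul 1)
  have b5 := b3 (-1) (by ring)
  have n1 := finrank_eig_add hB hs.maps hs.sq
  have n2 := finrank_eig_add hB (hs.tmaps hU1g) hs.tsq
  rw [← hdim] at b1 b2 b4 b5
  exact ⟨by unfold ng; omega, by unfold ng; omega⟩

theorem nE_mul (x : V) : nE g 1 (nE g (-1) x) = gp g 1 (mE g x) := by
  simp only [nE, mE, LinearMap.sub_apply, LinearMap.smul_apply, Module.End.one_apply, one_smul,
    map_add, map_sub, map_smul, gp_apply_add, add_neg_cancel, gp_zero]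
  module

/-- Existence of a piece. -/
theorem exists_piece (hB : Geom B) (hg : g ∈ isoUnits B) {U : Submodule F V} (hUg : GInv g U)
    (hU : ND B U) (hne : U ≠ ⊥) :
    ∃ U1, U1 ≤ U ∧ U1 ≠ ⊥ ∧ ND B U1 ∧ GInv g U1 ∧ ∃ s, PInv B g U1 s ∧ Bal g U1 s := by
  classical
  by_cases hker : ∃ x ∈ U, x ≠ 0 ∧ mE g x = 0
  · obtain ⟨x, hxU, hxne, hMx⟩ := hker
    have hNN := nE_mul (g := g) x
    rw [hMx, map_zero] at hNN
    by_cases hm : nE g (-1) x = 0
    · exact piece_unip hB hg hUg hU (by ring) hxU hxne hm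
    · exact piece_unip hB hg hUg hU (one_mul 1) (hUg.nE_mem _ hxU) hm hNN
  push Not at hker
  -- a minimal annihilating polynomial of `g + g⁻¹` on `U`
  have hexp : ∃ d, ∃ p : F[X], p ≠ 0 ∧ p.natDegree = d ∧ ∀ x ∈ U, pv (tE g) p x = 0 :=
    ⟨_, minpoly F (tE g), minpoly.ne_zero (Algebra.IsIntegral.isIntegral _), rfl,
      fun x _ => by simp [pv, minpoly.aeval]⟩
  obtain ⟨p, hp0, hpd, hp⟩ := Nat.find_spec hexp
  have hpu : ¬ IsUnit p := by
    intro hu
    obtain ⟨c, hc, rfl⟩ := Polynomial.isUnit_iff.1 hu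
    refine hne ((Submodule.eq_bot_iff U).2 fun x hx => ?_)
    have := hp x hx
    rw [pv_C] at this
    exact (smul_eq_zero.1 this).resolve_left hc.ne_zero
  obtain ⟨r, hr, p', rfl⟩ := WfDvdMonoid.exists_irreducible_factor hpu hp0
  obtain ⟨x, hxU, hx⟩ : ∃ x ∈ U, pv (tE g) p' x ≠ 0 := by
    by_contra hc
    push Not at hc
    have hp'0 : p' ≠ 0 := right_ne_zero_of_mul hp0
    refine Nat.find_min hexp ?_ ⟨p', hp'0, rfl, hc⟩
    have := natDegree_mul hr.ne_zero hp'0
    have := hr.natDegree_pos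
    omega
  have hrx : pv (tE g) r (pv (tE g) p' x) = 0 := by rw [← pv_mul]; exact hp x hxU
  have hrq : ¬ r ∣ X ^ 2 - C 4 := by
    rintro ⟨d, hd⟩
    apply hx
    have hxm : pv (tE g) p' x ∈ U := hUg.pv_mem p' hxU
    by_contra hne'
    refine hker _ (hUg.mE_mem hxm) (hker _ hxm hne') ?_
    rw [mE_mE, hd, mul_comm, pv_mul, hrx, pv_zero]
  obtain ⟨z, hzU, hzne, hznd⟩ := piece_regular hB hg hUg hU hr hrq (hUg.pv_mem p' hxU) hx hrx
  obtain ⟨s, hs, hb⟩ := bal_cyc hB hg hzne hznd
  refine ⟨cyc g z, cyc_le hUg hzU, fun h => hzne ?_, hznd, cyc_ginv z, s, hs, hb⟩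
  exact (Submodule.eq_bot_iff _).1 h z (self_mem_cyc z)

/-- Every isometry is reversed by a balanced involution. -/
theorem exists_bal (hB : Geom B) (hg : g ∈ isoUnits B) (U : Submodule F V) (hUg : GInv g U)
    (hU : ND B U) : ∃ s, PInv B g U s ∧ Bal g U s := by
  induction h : Module.finrank F ↥U using Nat.strong_induction_on generalizing U with
  | _ d ih =>
    by_cases hne : U = ⊥
    · subst hne
      have hz : ∀ f : Module.End F V, ng (⊥ : Submodule F V) f = 0 := fun f => by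
        exact Submodule.finrank_eq_zero.2 (eq_bot_iff.2 inf_le_left)
      refine ⟨1, ⟨fun x hx => hx, fun _ _ => rfl, fun _ _ _ _ => rfl, fun x hx => ?_⟩,
        by simp [hz], by simp [hz]⟩
      simp [(Submodule.mem_bot F).1 hx]
    obtain ⟨U1, hle, h1ne, h1nd, h1g, s1, hs1, hb1⟩ := exists_piece hB hg hUg hU hne
    have hlt : Module.finrank F ↥(U ⊓ LinearMap.BilinForm.orthogonal B U1) < d := by
      rw [← h]
      refine Submodule.finrank_lt_finrank_of_lt (lt_of_le_of_ne inf_le_left fun he => h1ne ?_)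
      rw [Submodule.eq_bot_iff]
      intro x hx
      have hx' : x ∈ U ⊓ LinearMap.BilinForm.orthogonal B U1 := by rw [he]; exact hle hx
      exact h1nd x hx fun y hy => by rw [hB.symm]; exact hx'.2 y hy
    obtain ⟨s2, hs2, hb2⟩ := ih _ hlt _ (ginv_inf_orth hg hUg h1g) (nd_inf_orth hB hU h1nd hle) rfl
    exact glue_bal hB hg hUg h1nd h1g hle hs1 hs2 hb1 hb2

end Cfsg.Agent.OreOmega53
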